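import Mathlib
import Cfsg.Prelude.Def_OddOrderLocal
import Cfsg.Agent.Lib.Helper55.Basic

/-!
# BG Lemma 13.4 (S1428): shared definitions for the keystone pack

`Ctx M P R H p r` is the configuration of a counterexample to BG 13.4: `p ∈ τ₁(M)`, `P, R ≤ M`
commuting of prime orders `p`, `r` (`r ∉ σ(M)`), `C_{M_σ}(P) ≰ C(R)`, and `H` a maximal subgroup
containing `N_G(P)`.
-/

set_option autoImplicit false

namespace Cfsg.Agent.Lib.Helper31.BG134

open Cfsg

variable {G : Type*} [Group G] [Finite G]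

/-- the statement of S1426 (BG 12.16) for all maximal subgroups -/
def H1426 (G : Type*) [Group G] [Finite G] : Prop :=
  ∀ (M : Subgroup G), IsCoatom M → ∀ (E : Subgroup G), IsComplIn E (sigmaCore M) M →
    sigmaCore M ⊓ Subgroup.centralizer (E : Set G) ≤ ⁅sigmaCore M, sigmaCore M⁆ ∧
      ⁅sigmaCore M, E⁆ = sigmaCore M ∧
      ∀ g : G, g ∉ M → IsCyclic ↥(sigmaCore M ⊓ M.map (MulAut.conj g).toMonoidHom) ∧
        (∀ p : ℕ, p.Prime → p ∣ Nat.card ↥(sigmaCore M ⊓ M.map (MulAut.conj g).toMonoidHom) →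
          p ∉ beta M) ∧
        sigmaCore M ⊓ M.map (MulAut.conj g).toMonoidHom ⊓ ⁅sigmaCore M, sigmaCore M⁆ = ⊥

/-- the statement of S1427 (BG 12.17 / 13.3(a)) for all maximal subgroups -/
def H1427 (G : Type*) [Group G] [Finite G] : Prop :=
  ∀ (L : Subgroup G), IsCoatom L → ∀ (E' : Subgroup G), IsComplIn E' (sigmaCore L) L →
    ∀ (r : ℕ) [Fact r.Prime] (R : Sylow r E'), (R : Subgroup E') ≠ ⊥ → IsCyclic (R : Subgroup E') →
      ∀ x ∈ (R : Subgroup E').map E'.subtype, x ≠ 1 →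
        sigmaCore L ⊓ Subgroup.centralizer ({x} : Set G) =
          sigmaCore L ⊓ Subgroup.centralizer (((R : Subgroup E').map E'.subtype : Subgroup G) : Set G)

/-- `C_{M_σ}(P)` -/
abbrev CP (M P : Subgroup G) : Subgroup G := sigmaCore M ⊓ Subgroup.centralizer (P : Set G)

/-- the configuration of a counterexample to BG Lemma 13.4 -/
structure Ctx (M P R H : Subgroup G) (p r : ℕ) : Prop where
  hG : IsMinSimpleOddOrder G
  hM : IsCoatom M
  hp : p ∈ tau1 M
  hPM : P ≤ M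
  hPc : Nat.card P = p
  hRM : R ≤ M
  hRP : R ≤ Subgroup.centralizer (P : Set G)
  hRc : Nat.card R = r
  hr : r.Prime
  hrσ : r ∉ sigma M
  hnc : ¬ sigmaCore M ⊓ Subgroup.centralizer (P : Set G) ≤ Subgroup.centralizer (R : Set G)
  hH : IsCoatom H
  hNH : Subgroup.normalizer (P : Set G) ≤ H

end Cfsg.Agent.Lib.Helper31.BG134
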