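import Mathlib
import Cfsg.Prelude.Def_OddOrderLocal
import Cfsg.Agent.Lib.Helper31.BG134Defs

/-!
# BG Lemma 13.4 (S1428): the statement of BG 13.1(a) as a `Prop` (for the case-A leaves)
-/

set_option autoImplicit false

namespace Cfsg.Agent.Lib.Helper31.BG134

open Cfsg Cfsg.Agent.Lib.Helper55

/-- **BG 13.1(a)**: for non-conjugate maximal subgroups `M`, `H`, an `s`-subgroup `X` of `M ∩ H` with
`s ∉ σ(M)` and `s ∉ τ₁(H)` centralizes `M_σ ∩ H`. -/
def T131 (G : Type*) [Group G] [Finite G] : Prop :=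
  ∀ (M H : Subgroup G), IsCoatom M → IsCoatom H → (∀ g : G, cj g M ≠ H) →
    ∀ (s : ℕ) [Fact s.Prime], s ∉ sigma M → ∀ X : Subgroup G, IsPGroup s X → X ≤ M → X ≤ H →
      s ∉ tau1 H → X ≤ Subgroup.centralizer ((sigmaCore M ⊓ H : Subgroup G) : Set G)

end Cfsg.Agent.Lib.Helper31.BG134
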