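import Cfsg.Prelude.Def_OddOrderLocal

set_option autoImplicit false

namespace Cfsg.Agent.Lib.Helper31

open Cfsg

/-- In a finite group, if a property of subgroups holds for `⊥` and passes to joins of normal subgroups,
then it holds for the join of all normal subgroups with the property. -/
theorem sSup_normal_mem {M : Type*} [Group M] [Finite M] (P : Subgroup M → Prop) (hbot : P ⊥)
    (hsup : ∀ A B : Subgroup M, A.Normal → B.Normal → P A → P B → P (A ⊔ B)) :
    P (sSup {N : Subgroup M | N.Normal ∧ P N}) := by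
  have hfin : {N : Subgroup M | N.Normal ∧ P N}.Finite := Set.toFinite _
  have hne : {N : Subgroup M | N.Normal ∧ P N}.Nonempty := ⟨⊥, inferInstance, hbot⟩
  obtain ⟨K, hK⟩ := hfin.exists_maximal hne
  have hKmem : K.Normal ∧ P K := hK.prop
  have hle : ∀ N ∈ {N : Subgroup M | N.Normal ∧ P N}, N ≤ K := by
    intro N hN
    have hmem : K ⊔ N ∈ {N : Subgroup M | N.Normal ∧ P N} :=
      ⟨@Subgroup.sup_normal _ _ K N hKmem.1 hN.1, hsup K N hKmem.1 hN.1 hKmem.2 hN.2⟩
    have := hK.le_of_ge hmem le_sup_left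
    exact le_trans le_sup_right this
  have : sSup {N : Subgroup M | N.Normal ∧ P N} = K :=
    le_antisymm (sSup_le hle) (le_sSup hKmem)
  rw [this]
  exact hKmem.2

/-- The order of the join of a subgroup with a normal subgroup divides the product of the orders. -/
theorem card_sup_dvd_mul {M : Type*} [Group M] (A B : Subgroup M) [B.Normal] :
    Nat.card ↥(A ⊔ B) ∣ Nat.card A * Nat.card B := by
  have h1 := Subgroup.relIndex_mul_relIndex ⊥ B (A ⊔ B) bot_le le_sup_right
  rw [Subgroup.relIndex_bot_left, Subgroup.relIndex_bot_left, Subgroup.relIndex_sup_right] at h1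
  rw [← h1, mul_comm]
  exact Nat.mul_dvd_mul_right (Subgroup.relIndex_dvd_card B A) _

/-- `O_{p'}(M)` of a finite group has order prime to `p`. -/
theorem card_pPrimeCore_coprime (p : ℕ) (M : Type*) [Group M] [Finite M] :
    (Nat.card (pPrimeCore p M)).Coprime p := by
  refine sSup_normal_mem (fun N : Subgroup M => (Nat.card N).Coprime p) ?_ ?_
  · simp
  · intro A B _ hB hA hB'
    exact Nat.Coprime.coprime_dvd_left (card_sup_dvd_mul A B) (Nat.Coprime.mul_left hA hB')

/-- `M_F`, the join of the normal nilpotent Hall subgroups of a finite group, is a Hall subgroup. -/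
theorem fittingHall_coprime (M : Type*) [Group M] [Finite M] :
    (Nat.card (fittingHall M)).Coprime (fittingHall M).index := by
  apply Nat.coprime_of_dvd
  intro p hp hpH hpidx
  have hex : ∃ N : Subgroup M, (N.Normal ∧ Group.IsNilpotent N ∧ (Nat.card N).Coprime N.index) ∧
      p ∣ Nat.card N := by
    by_contra hcon
    push Not at hcon
    have hle : fittingHall M ≤ pPrimeCore p M := by
      apply sSup_le
      intro N hN
      apply le_sSup
      exact ⟨hN.1, ((Nat.Prime.coprime_iff_not_dvd hp).2 (hcon N hN)).symm⟩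
    have h1 : p ∣ Nat.card (pPrimeCore p M) := dvd_trans hpH (Subgroup.card_dvd_of_le hle)
    have h2 := card_pPrimeCore_coprime p M
    exact (Nat.Prime.coprime_iff_not_dvd hp).1 h2.symm h1
  obtain ⟨N, hN, hpN⟩ := hex
  have hNle : N ≤ fittingHall M := le_sSup hN
  have h3 : p ∣ N.index := dvd_trans hpidx (Subgroup.index_dvd_of_le hNle)
  exact Nat.not_coprime_of_dvd_of_dvd hp.one_lt hpN h3 hN.2.2

/-- If a power `u ^ n` with `n` prime to the order of `u` lies in a subgroup, so does `u`. -/
theorem mem_of_pow_mem_of_coprime {G : Type*} [Group G] (K : Subgroup G) (u : G) (n : ℕ)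
    (hco : (orderOf u).Coprime n) (h : u ^ n ∈ K) : u ∈ K := by
  have key := congr_arg (u ^ ·) ((orderOf u).gcd_eq_gcd_ab n)
  rw [zpow_add, zpow_mul, zpow_mul, zpow_natCast, zpow_natCast, zpow_natCast, hco.gcd_eq_one,
    pow_one, pow_orderOf_eq_one, one_zpow, one_mul] at key
  rw [key]
  exact K.zpow_mem h _

/-- The order of `M_F` as a subgroup of `G`. -/
theorem card_fittingHallOf {G : Type*} [Group G] (M : Subgroup G) :
    Nat.card (fittingHallOf M) = Nat.card (fittingHall M) :=
  Subgroup.card_subtype M (fittingHall M)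

theorem fittingHallOf_le {G : Type*} [Group G] (M : Subgroup G) : fittingHallOf M ≤ M :=
  Subgroup.map_subtype_le _

/-- `M` normalizes `M_F`. -/
theorem le_normalizer_fittingHallOf {G : Type*} [Group G] (M : Subgroup G) :
    M ≤ Subgroup.normalizer (fittingHallOf M : Set G) := by
  rw [Subgroup.le_normalizer_iff]
  intro m hm k hk
  obtain ⟨k', hk', rfl⟩ := hk
  refine ⟨(⟨m, hm⟩ : M) * k' * (⟨m, hm⟩ : M)⁻¹, ?_, rfl⟩
  exact (fittingHall_normal M).conj_mem k' hk' _

/-- The order of `M` is the product of the orders of two subgroups complementing each other in `M`. -/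
theorem IsComplIn.card_mul {G : Type*} [Group G] {A B M : Subgroup G} (h : IsComplIn A B M) :
    Nat.card A * Nat.card B = Nat.card M := by
  obtain ⟨hA, hB, hdisj, hprod⟩ := h
  rw [← Nat.card_prod]
  refine Nat.card_congr (Equiv.ofBijective
    (fun p : A × B => (⟨(p.1 : G) * p.2, mul_mem (hA p.1.2) (hB p.2.2)⟩ : M)) ⟨?_, ?_⟩)
  · intro p q hpq
    have h1 : (p.1 : G) * p.2 = q.1 * q.2 := congrArg Subtype.val hpq
    exact Subgroup.mul_injective_of_disjoint (disjoint_iff.mpr hdisj) h1
  · rintro ⟨g, hg⟩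
    obtain ⟨a, ha, b, hb, rfl⟩ := hprod g hg
    exact ⟨(⟨a, ha⟩, ⟨b, hb⟩), rfl⟩

/-- A complement to `M_F` in a subgroup `X` of `M` has order prime to that of `M_F`. -/
theorem coprime_card_of_isComplIn_fittingHallOf {G : Type*} [Group G] [Finite G] {M X U : Subgroup G}
    (hXM : X ≤ M) (h : IsComplIn (fittingHallOf M) U X) :
    (Nat.card (fittingHallOf M)).Coprime (Nat.card U) := by
  have h1 := IsComplIn.card_mul h
  have h2 : Nat.card X ∣ Nat.card M := Subgroup.card_dvd_of_le hXM
  have h3 : Nat.card (fittingHall M) * (fittingHall M).index = Nat.card M :=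
    Subgroup.card_mul_index _
  have h4 := fittingHall_coprime M
  rw [card_fittingHallOf] at h1 ⊢
  have h5 : Nat.card U ∣ (fittingHall M).index := by
    apply Nat.dvd_of_mul_dvd_mul_left (Nat.card_pos (α := fittingHall M))
    rw [h1, h3]
    exact h2
  exact Nat.Coprime.coprime_dvd_right h5 h4

/-- If `C` centralizes `H`, an element of `H ⊔ C` of order prime to that of `H` centralizes `H`. -/
theorem mem_centralizer_of_mem_sup {G : Type*} [Group G] [Finite G] (H C : Subgroup G)
    (hC : C ≤ Subgroup.centralizer (H : Set G)) (u : G) (hu : u ∈ H ⊔ C)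
    (hco : (orderOf u).Coprime (Nat.card H)) : u ∈ Subgroup.centralizer (H : Set G) := by
  have hLE : C ≤ Subgroup.normalizer (H : Set G) := by
    rw [Subgroup.le_normalizer_iff]
    intro c hc k hk
    have := (Subgroup.mem_centralizer_iff.mp (hC hc)) k hk
    rw [← this, mul_inv_cancel_right]
    exact hk
  have hcoe := Subgroup.coe_mul_of_right_le_normalizer_left H C hLE
  have hu' : u ∈ (↑(H ⊔ C) : Set G) := hu
  rw [hcoe] at hu'
  obtain ⟨h, hh, c, hc, rfl⟩ := hu'
  apply mem_of_pow_mem_of_coprime _ _ _ hco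
  have hcomm : Commute h c := (Subgroup.mem_centralizer_iff.mp (hC hc)) h hh
  rw [hcomm.mul_pow]
  have h1 : h ^ Nat.card H = 1 := by
    have h2 : (⟨h, hh⟩ : H) ^ Nat.card H = 1 := pow_card_eq_one'
    have h3 : (((⟨h, hh⟩ : H) ^ Nat.card H : H) : G) = ((1 : H) : G) := congrArg Subtype.val h2
    rwa [Subgroup.coe_pow, Subgroup.coe_one] at h3
  rw [h1, one_mul]
  exact Subgroup.pow_mem _ (hC hc) _

end Cfsg.Agent.Lib.Helper31
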