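import Mathlib
import Cfsg.Agent.S0027
import Cfsg.Agent.S0046
import Cfsg.Agent.Lib.Helper01.Basic

set_option autoImplicit false

/-! A "semidirect" form of Thompson's `P × Q` lemma for odd `p`:
if a `p'`-group `Y` and a `p`-group `A` normalizing `Y` act on a `p`-group `T`
and `Y` centralizes `C_T(A)`, then `Y` centralizes `T`. -/

namespace Cfsg.Agent.Lib.Helper31

open scoped Pointwise commutatorElement

/-! ### Symmetric products of lists in a class-2 group -/

/-- `l.prod * l.reverse.prod`. -/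
def symProd {G : Type*} [Group G] (l : List G) : G := l.prod * l.reverse.prod

theorem symProd_nil {G : Type*} [Group G] : symProd ([] : List G) = 1 := by
  simp [symProd]

theorem symProd_cons {G : Type*} [Group G] (u : G) (l : List G) :
    symProd (u :: l) = u * symProd l * u := by
  simp [symProd, List.prod_cons, List.reverse_cons, List.prod_append, mul_assoc]

theorem symProd_mem {G : Type*} [Group G] (T : Subgroup G) (l : List G)
    (hl : ∀ x ∈ l, x ∈ T) : symProd l ∈ T := by
  unfold symProd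
  refine T.mul_mem (T.list_prod_mem hl) (T.list_prod_mem ?_)
  intro x hx
  exact hl x (List.mem_reverse.1 hx)

theorem symProd_perm {G : Type*} [Group G] (T : Subgroup G)
    (hc : ∀ s ∈ T, ∀ t ∈ T, ∀ w ∈ T, Commute ⁅s, t⁆ w)
    {l l' : List G} (h : l.Perm l') (hl : ∀ x ∈ l, x ∈ T) : symProd l = symProd l' := by
  induction h with
  | nil => rfl
  | cons x _ ih =>
    rw [symProd_cons, symProd_cons, ih (fun y hy => hl y (List.mem_cons_of_mem _ hy))]
  | swap x y l =>
    have hy : y ∈ T := hl y (by simp)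
    have hx : x ∈ T := hl x (by simp)
    have hs : symProd l ∈ T := symProd_mem T l (fun z hz => hl z (by simp [hz]))
    rw [symProd_cons, symProd_cons, symProd_cons, symProd_cons]
    have hcs := hc x hx y hy
    have e1 : x * y = ⁅x, y⁆ * (y * x) := by
      rw [commutatorElement_def]; group
    have c1 : Commute ⁅x, y⁆ (y * x) := hcs _ (T.mul_mem hy hx)
    have c2 : Commute ⁅x, y⁆ (symProd l) := hcs _ hs
    calc y * (x * symProd l * x) * y = (y * x) * symProd l * (x * y) := by group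
      _ = (y * x) * symProd l * (⁅x, y⁆ * (y * x)) := by rw [← e1]
      _ = (y * x) * (symProd l * ⁅x, y⁆) * (y * x) := by simp only [mul_assoc]
      _ = (y * x) * (⁅x, y⁆ * symProd l) * (y * x) := by rw [c2.eq]
      _ = ((y * x) * ⁅x, y⁆) * symProd l * (y * x) := by simp only [mul_assoc]
      _ = ⁅x, y⁆ * (y * x) * symProd l * (y * x) := by rw [c1.eq]
      _ = (x * y) * symProd l * (y * x) := by rw [← e1]
      _ = x * (y * symProd l * y) * x := by group
  | trans h1 _ ih1 ih2 =>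
    rw [ih1 hl, ih2 (fun x hx => hl x ((h1.mem_iff).2 hx))]

theorem symProd_map_conj {G : Type*} [Group G] (g : G) (l : List G) :
    g * symProd l * g⁻¹ = symProd (l.map (fun u => g * u * g⁻¹)) := by
  induction l with
  | nil => simp [symProd]
  | cons u l ih =>
    rw [List.map_cons, symProd_cons, symProd_cons, ← ih]
    group

theorem symProd_map_mul_right {G : Type*} [Group G] (z : G) (l : List G)
    (hz : ∀ u ∈ l, Commute z u) :
    symProd (l.map (fun u => u * z)) = symProd l * z ^ (2 * l.length) := by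
  induction l with
  | nil => simp [symProd]
  | cons u l ih =>
    have hzu : Commute z u := hz u (by simp)
    have hzl : ∀ v ∈ l, Commute z v := fun v hv => hz v (by simp [hv])
    have hzs : Commute z (symProd l) := by
      unfold symProd
      refine Commute.mul_right ?_ ?_
      · exact Commute.list_prod_right _ _ (fun v hv => hzl v hv)
      · exact Commute.list_prod_right _ _ (fun v hv => hzl v (List.mem_reverse.1 hv))
    rw [List.map_cons, symProd_cons, symProd_cons, ih hzl, List.length_cons]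
    have e : 2 * (l.length + 1) = 2 * l.length + 1 + 1 := by ring
    rw [e, pow_succ, pow_succ]
    have hzp : Commute (z ^ (2 * l.length)) u := hzu.pow_left _
    calc u * z * (symProd l * z ^ (2 * l.length)) * (u * z)
        = u * (z * symProd l) * (z ^ (2 * l.length) * u) * z := by group
      _ = u * (symProd l * z) * (u * z ^ (2 * l.length)) * z := by rw [hzs.eq, hzp.eq]
      _ = u * symProd l * (z * u) * z ^ (2 * l.length) * z := by group
      _ = u * symProd l * (u * z) * z ^ (2 * l.length) * z := by rw [hzu.eq]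
      _ = u * symProd l * u * (z * z ^ (2 * l.length)) * z := by group
      _ = u * symProd l * u * (z ^ (2 * l.length) * z) * z := by
        rw [(Commute.self_pow z _).eq]
      _ = u * symProd l * u * (z ^ (2 * l.length) * z * z) := by group

/-! ### The list of elements of a subgroup, and the symmetric norm -/

/-- The elements of a subgroup of a finite group, as a list without repetition. -/
noncomputable def elemList {G : Type*} [Group G] [Finite G] (Y : Subgroup G) : List G :=
  (Set.toFinite (Y : Set G)).toFinset.toList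

theorem mem_elemList {G : Type*} [Group G] [Finite G] (Y : Subgroup G) {y : G} :
    y ∈ elemList Y ↔ y ∈ Y := by
  simp [elemList]

theorem nodup_elemList {G : Type*} [Group G] [Finite G] (Y : Subgroup G) : (elemList Y).Nodup :=
  Finset.nodup_toList _

theorem length_elemList {G : Type*} [Group G] [Finite G] (Y : Subgroup G) :
    (elemList Y).length = Nat.card Y := by
  unfold elemList
  rw [Finset.length_toList, ← Set.ncard_eq_toFinset_card (Y : Set G) (Set.toFinite _)]
  exact (Nat.card_coe_set_eq (Y : Set G)).symm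

theorem elemList_map_perm {G : Type*} [Group G] [Finite G] (Y : Subgroup G) (f f' : G → G)
    (hf : ∀ y ∈ Y, f y ∈ Y) (hf' : ∀ y ∈ Y, f' y ∈ Y) (h1 : ∀ y, f' (f y) = y)
    (h2 : ∀ y, f (f' y) = y) : ((elemList Y).map f).Perm (elemList Y) := by
  have hinj : Function.Injective f := Function.LeftInverse.injective h1
  rw [List.perm_ext_iff_of_nodup ((nodup_elemList Y).map hinj) (nodup_elemList Y)]
  intro x
  rw [List.mem_map]
  constructor
  · rintro ⟨y, hy, rfl⟩
    exact (mem_elemList Y).2 (hf y ((mem_elemList Y).1 hy))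
  · intro hx
    exact ⟨f' x, (mem_elemList Y).2 (hf' x ((mem_elemList Y).1 hx)), h2 x⟩

/-- The symmetric norm of `t` with respect to `Y`. -/
noncomputable def symNorm {G : Type*} [Group G] [Finite G] (Y : Subgroup G) (t : G) : G :=
  symProd ((elemList Y).map (fun y => y * t * y⁻¹))

section SymNorm

variable {G : Type*} [Group G] [Finite G] (T Y : Subgroup G)

theorem conj_mem_of_le_normalizer {T Y : Subgroup G} (hYT : Y ≤ Subgroup.normalizer (T : Set G))
    {y t : G} (hy : y ∈ Y) (ht : t ∈ T) : y * t * y⁻¹ ∈ T :=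
  (Subgroup.mem_normalizer_iff.1 (hYT hy) t).1 ht

theorem symNorm_list_mem (hYT : Y ≤ Subgroup.normalizer (T : Set G)) {t : G} (ht : t ∈ T)
    (l : List G) (hl : ∀ y ∈ l, y ∈ Y) :
    ∀ x ∈ l.map (fun y => y * t * y⁻¹), x ∈ T := by
  intro x hx
  rw [List.mem_map] at hx
  obtain ⟨y, hy, rfl⟩ := hx
  exact conj_mem_of_le_normalizer hYT (hl y hy) ht

theorem symNorm_mem (hYT : Y ≤ Subgroup.normalizer (T : Set G)) {t : G} (ht : t ∈ T) :
    symNorm Y t ∈ T :=
  symProd_mem T _ (symNorm_list_mem T Y hYT ht _ (fun y hy => (mem_elemList Y).1 hy))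

theorem symNorm_one : symNorm Y 1 = 1 := by
  unfold symNorm
  have : (elemList Y).map (fun y => y * 1 * y⁻¹) = (elemList Y).map (fun _ => (1 : G)) := by
    apply List.map_congr_left
    intro y _
    simp
  rw [this]
  unfold symProd
  simp

theorem symNorm_conj_of_mem (hc : ∀ s ∈ T, ∀ t ∈ T, ∀ w ∈ T, Commute ⁅s, t⁆ w)
    (hYT : Y ≤ Subgroup.normalizer (T : Set G)) {t : G} (ht : t ∈ T) {y₀ : G} (hy₀ : y₀ ∈ Y) :
    y₀ * symNorm Y t * y₀⁻¹ = symNorm Y t := by
  unfold symNorm
  rw [symProd_map_conj, List.map_map]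
  have e : ((fun u => y₀ * u * y₀⁻¹) ∘ fun y => y * t * y⁻¹) =
      ((fun y => y * t * y⁻¹) ∘ fun y => y₀ * y) := by
    funext y
    simp only [Function.comp]
    group
  rw [e, ← List.map_map]
  have hperm := elemList_map_perm Y (fun y => y₀ * y) (fun y => y₀⁻¹ * y)
    (fun y hy => Y.mul_mem hy₀ hy) (fun y hy => Y.mul_mem (Y.inv_mem hy₀) hy)
    (fun y => by simp) (fun y => by simp)
  refine symProd_perm T hc (hperm.map _) ?_
  refine symNorm_list_mem T Y hYT ht _ ?_
  intro y hy
  exact (mem_elemList Y).1 (hperm.mem_iff.1 hy)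

theorem symNorm_conj_of_mem_normalizer (hc : ∀ s ∈ T, ∀ t ∈ T, ∀ w ∈ T, Commute ⁅s, t⁆ w)
    (hYT : Y ≤ Subgroup.normalizer (T : Set G)) {t : G} (ht : t ∈ T) {a : G}
    (haY : a ∈ Subgroup.normalizer (Y : Set G)) (haT : a ∈ Subgroup.normalizer (T : Set G)) :
    a * symNorm Y t * a⁻¹ = symNorm Y (a * t * a⁻¹) := by
  unfold symNorm
  rw [symProd_map_conj, List.map_map]
  have e : ((fun u => a * u * a⁻¹) ∘ fun y => y * t * y⁻¹) =
      ((fun y => y * (a * t * a⁻¹) * y⁻¹) ∘ fun y => a * y * a⁻¹) := by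
    funext y
    simp only [Function.comp]
    group
  rw [e, ← List.map_map]
  have haY' : a⁻¹ ∈ Subgroup.normalizer (Y : Set G) := Subgroup.inv_mem _ haY
  have hperm := elemList_map_perm Y (fun y => a * y * a⁻¹) (fun y => a⁻¹ * y * a)
    (fun y hy => (Subgroup.mem_normalizer_iff.1 haY y).1 hy)
    (fun y hy => by
      have := (Subgroup.mem_normalizer_iff.1 haY' y).1 hy
      simpa using this)
    (fun y => by group) (fun y => by group)
  have ht' : a * t * a⁻¹ ∈ T := (Subgroup.mem_normalizer_iff.1 haT t).1 ht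
  refine symProd_perm T hc (hperm.map _) ?_
  refine symNorm_list_mem T Y hYT ht' _ ?_
  intro y hy
  exact (mem_elemList Y).1 (hperm.mem_iff.1 hy)

theorem symNorm_mul_central (hYT : Y ≤ Subgroup.normalizer (T : Set G)) {t z : G} (ht : t ∈ T)
    (hzT : ∀ u ∈ T, Commute z u) (hzY : ∀ y ∈ Y, Commute z y) :
    symNorm Y (t * z) = symNorm Y t * z ^ (2 * Nat.card Y) := by
  unfold symNorm
  have e : (elemList Y).map (fun y => y * (t * z) * y⁻¹) =
      ((elemList Y).map (fun y => y * t * y⁻¹)).map (fun u => u * z) := by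
    rw [List.map_map]
    apply List.map_congr_left
    intro y hy
    have hzy : Commute z y⁻¹ := (hzY y ((mem_elemList Y).1 hy)).inv_right
    simp only [Function.comp]
    calc y * (t * z) * y⁻¹ = y * t * (z * y⁻¹) := by group
      _ = y * t * (y⁻¹ * z) := by rw [hzy.eq]
      _ = y * t * y⁻¹ * z := by group
  rw [e, symProd_map_mul_right, List.length_map, length_elemList]
  intro u hu
  exact hzT u (symNorm_list_mem T Y hYT ht _ (fun y hy => (mem_elemList Y).1 hy) u hu)

end SymNorm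

/-! ### Conjugation action on an invariant subset -/

/-- The conjugation action of a subgroup `A` on an `A`-invariant subset `S`. -/
def conjActOn {G : Type*} [Group G] (A : Subgroup G) (S : Set G)
    (hS : ∀ a ∈ A, ∀ s ∈ S, a * s * a⁻¹ ∈ S) : MulAction A S where
  smul a s := ⟨(a : G) * s * (a : G)⁻¹, hS a a.2 s s.2⟩
  one_smul s := by
    apply Subtype.ext
    show ((1 : A) : G) * s * ((1 : A) : G)⁻¹ = s
    simp
  mul_smul a b s := by
    apply Subtype.ext
    show ((a * b : A) : G) * s * ((a * b : A) : G)⁻¹ = (a : G) * ((b : G) * s * (b : G)⁻¹) * (a : G)⁻¹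
    rw [Subgroup.coe_mul]
    group

theorem pow_eq_one_of_coprime {G : Type*} [Group G] [Finite G] (Z : Subgroup G) (n : ℕ)
    (hcop : (Nat.card Z).Coprime n) {u : G} (hu : u ∈ Z) (h : u ^ n = 1) : u = 1 := by
  have h1 : orderOf u ∣ n := orderOf_dvd_of_pow_eq_one h
  have h2 : orderOf u ∣ Nat.card Z := Subgroup.orderOf_dvd_natCard Z hu
  have h3 := Nat.dvd_gcd h2 h1
  rw [hcop.gcd_eq_one, Nat.dvd_one] at h3
  exact orderOf_eq_one_iff.1 h3

theorem exists_pow_eq_of_coprime {G : Type*} [Group G] [Finite G] (Z : Subgroup G) (n : ℕ)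
    (hcop : (Nat.card Z).Coprime n) {w : G} (hw : w ∈ Z) : ∃ z ∈ Z, z ^ n = w := by
  refine ⟨((powCoprime hcop).symm ⟨w, hw⟩ : Z), ((powCoprime hcop).symm ⟨w, hw⟩).2, ?_⟩
  have h := (powCoprime hcop).apply_symm_apply ⟨w, hw⟩
  rw [powCoprime_apply] at h
  have h2 := congrArg (fun x : Z => (x : G)) h
  simpa using h2

/-- In the minimal situation, `A` has a fixed point in `T` outside `Z = C_T(Y)`. -/
theorem exists_fixed_not_mem {G : Type*} [Group G] [Finite G] (p : ℕ) [Fact p.Prime] (hp : p ≠ 2)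
    (T Y A Z : Subgroup G) (hT : IsPGroup p T) (hY : (Nat.card Y).Coprime p) (hA : IsPGroup p A)
    (hYT : Y ≤ Subgroup.normalizer (T : Set G)) (hAT : A ≤ Subgroup.normalizer (T : Set G))
    (hAY : A ≤ Subgroup.normalizer (Y : Set G))
    (hZdef : Z = T ⊓ Subgroup.centralizer (Y : Set G))
    (hZc : Z ≤ Subgroup.centralizer (T : Set G)) (hTZ : ⁅T, T⁆ ≤ Z) (hZT : Z ≠ T) :
    ∃ s ∈ T, s ∈ Subgroup.centralizer (A : Set G) ∧ s ∉ Z := by
  have hZleT : Z ≤ T := hZdef ▸ inf_le_left
  have hZleY : Z ≤ Subgroup.centralizer (Y : Set G) := hZdef ▸ inf_le_right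
  have hc : ∀ s ∈ T, ∀ t ∈ T, ∀ w ∈ T, Commute ⁅s, t⁆ w := by
    intro s hs t ht w hw
    have h1 : ⁅s, t⁆ ∈ Subgroup.centralizer (T : Set G) :=
      hZc (hTZ (Subgroup.commutator_mem_commutator hs ht))
    exact (Subgroup.mem_centralizer_iff.1 h1 w hw).symm
  have hzT : ∀ z ∈ Z, ∀ u ∈ T, Commute z u := fun z hz u hu =>
    (Subgroup.mem_centralizer_iff.1 (hZc hz) u hu).symm
  have hzY : ∀ z ∈ Z, ∀ y ∈ Y, Commute z y := fun z hz y hy =>
    (Subgroup.mem_centralizer_iff.1 (hZleY hz) y hy).symm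
  set m := Nat.card Y with hm
  have hcop : (Nat.card Z).Coprime (2 * m) := by
    obtain ⟨k, hk⟩ := IsPGroup.iff_card.1 (hT.to_le hZleT)
    rw [hk]
    apply Nat.Coprime.pow_left
    apply Nat.Coprime.mul_right
    · exact (Nat.Prime.coprime_iff_not_dvd Fact.out).2 (fun h => hp ((Nat.prime_dvd_prime_iff_eq Fact.out Nat.prime_two).1 h))
    · exact hY.symm
  have hmul : ∀ t ∈ T, ∀ z ∈ Z, symNorm Y (t * z) = symNorm Y t * z ^ (2 * m) :=
    fun t ht z hz => symNorm_mul_central T Y hYT ht (hzT z hz) (hzY z hz)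
  have hnormZ : ∀ t ∈ T, symNorm Y t ∈ Z := by
    intro t ht
    rw [hZdef]
    refine Subgroup.mem_inf.2 ⟨symNorm_mem T Y hYT ht, ?_⟩
    rw [Subgroup.mem_centralizer_iff]
    intro y hy
    have h1 := symNorm_conj_of_mem T Y hc hYT ht hy
    calc y * symNorm Y t = y * symNorm Y t * y⁻¹ * y := by group
      _ = symNorm Y t * y := by rw [h1]
  set S : Set G := {t | t ∈ T ∧ symNorm Y t = 1} with hS
  have hSinv : ∀ a ∈ A, ∀ s ∈ S, a * s * a⁻¹ ∈ S := by
    intro a ha s hs
    refine ⟨conj_mem_of_le_normalizer hAT ha hs.1, ?_⟩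
    rw [← symNorm_conj_of_mem_normalizer T Y hc hYT hs.1 (hAY ha) (hAT ha), hs.2]
    group
  letI : MulAction A S := conjActOn A S hSinv
  -- the bijection `S × Z ≃ T`
  have hcard : Nat.card T = Nat.card S * Nat.card Z := by
    rw [← Nat.card_prod]
    symm
    refine Nat.card_congr (Equiv.ofBijective
      (fun x : S × Z => (⟨(x.1 : G) * (x.2 : G), T.mul_mem x.1.2.1 (hZleT x.2.2)⟩ : T)) ⟨?_, ?_⟩)
    · rintro ⟨⟨s, hs⟩, ⟨z, hz⟩⟩ ⟨⟨s', hs'⟩, ⟨z', hz'⟩⟩ h
      have h0 : s * z = s' * z' := congrArg Subtype.val h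
      have h1 : s' = s * (z * z'⁻¹) := by
        rw [← mul_assoc, h0]; group
      have h2 := hmul s hs.1 (z * z'⁻¹) (Z.mul_mem hz (Z.inv_mem hz'))
      rw [← h1, hs'.2, hs.2, one_mul] at h2
      have h3 := pow_eq_one_of_coprime Z (2 * m) hcop (Z.mul_mem hz (Z.inv_mem hz')) h2.symm
      have hzz : z = z' := by
        have : z * z'⁻¹ * z' = z' := by rw [h3, one_mul]
        simpa using this
      subst hzz
      have hss : s = s' := mul_right_cancel h0
      subst hss
      rfl
    · rintro ⟨t, ht⟩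
      obtain ⟨z, hz, hzw⟩ := exists_pow_eq_of_coprime Z (2 * m) hcop (Z.inv_mem (hnormZ t ht))
      have hsS : t * z ∈ S := by
        refine ⟨T.mul_mem ht (hZleT hz), ?_⟩
        rw [hmul t ht z hz, hzw, mul_inv_cancel]
      refine ⟨(⟨t * z, hsS⟩, ⟨z⁻¹, Z.inv_mem hz⟩), ?_⟩
      apply Subtype.ext
      show t * z * z⁻¹ = t
      group
  have hpS : p ∣ Nat.card S := by
    obtain ⟨a, ha⟩ := IsPGroup.iff_card.1 hT
    obtain ⟨b, hb⟩ := IsPGroup.iff_card.1 (hT.to_le hZleT)
    have hlt : Nat.card Z < Nat.card T :=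
      Cfsg.Agent.S0046.card_lt_of_lt (lt_of_le_of_ne hZleT hZT)
    rw [ha, hb] at hcard hlt
    have hba : b < a := (Nat.pow_lt_pow_iff_right (Fact.out : p.Prime).one_lt).1 hlt
    have hpos : 0 < p ^ b := pow_pos (Fact.out : p.Prime).pos b
    have h2 : Nat.card S = p ^ (a - b) := by
      have h3 : p ^ a = p ^ (a - b) * p ^ b := by rw [← pow_add]; congr 1; omega
      rw [h3] at hcard
      exact (Nat.eq_of_mul_eq_mul_right hpos hcard).symm
    rw [h2]
    exact dvd_pow_self p (by omega)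
  have h1S : (1 : G) ∈ S := ⟨T.one_mem, symNorm_one Y⟩
  have hfix1 : (⟨1, h1S⟩ : S) ∈ MulAction.fixedPoints A S := by
    intro a
    apply Subtype.ext
    show (a : G) * 1 * (a : G)⁻¹ = 1
    group
  obtain ⟨b, hbfix, hb1⟩ := hA.exists_fixed_point_of_prime_dvd_card_of_fixed_point S hpS hfix1
  refine ⟨b.1, b.2.1, ?_, ?_⟩
  · rw [Subgroup.mem_centralizer_iff]
    intro a ha
    have h1 := congrArg Subtype.val (hbfix ⟨a, ha⟩)
    have h2 : a * (b : G) * a⁻¹ = b := h1
    calc a * (b : G) = a * b * a⁻¹ * a := by group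
      _ = b * a := by rw [h2]
  · intro hbZ
    apply hb1
    apply Subtype.ext
    have h1 := hmul 1 T.one_mem b.1 hbZ
    rw [one_mul, b.2.2, symNorm_one, one_mul] at h1
    exact (pow_eq_one_of_coprime Z (2 * m) hcop hbZ h1.symm).symm


/-! ### The semidirect `P × Q` lemma -/

/-- a subgroup normalizing `H₁` and `H₂` normalizes `⁅H₁, H₂⁆` (after helper1, S0028) -/
theorem le_normalizer_commutator'' {G : Type*} [Group G] {X H₁ H₂ : Subgroup G}
    (h₁ : X ≤ Subgroup.normalizer (H₁ : Set G)) (h₂ : X ≤ Subgroup.normalizer (H₂ : Set G)) :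
    X ≤ Subgroup.normalizer ((⁅H₁, H₂⁆ : Subgroup G) : Set G) := by
  rw [Cfsg.Agent.Lib.Helper01.le_normalizer_iff_conj_smul]
  intro x hx
  have e : MulAut.conj x • ⁅H₁, H₂⁆ = ⁅MulAut.conj x • H₁, MulAut.conj x • H₂⁆ :=
    Subgroup.map_commutator H₁ H₂ _
  rw [e, Cfsg.Agent.Lib.Helper01.mem_normalizer_iff_conj_smul.mp (h₁ hx),
    Cfsg.Agent.Lib.Helper01.mem_normalizer_iff_conj_smul.mp (h₂ hx)]

/-- a nontrivial `p`-group `U` normalized by a `p`-group `P` has `⁅U, P⁆ ≠ U`
(after helper1, S0028). -/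
theorem commutator_ne_self'' {G : Type*} [Group G] [Finite G] (p : ℕ) [Fact p.Prime]
    (P U : Subgroup G) (hP : IsPGroup p P) (hU : IsPGroup p U)
    (hPU : P ≤ Subgroup.normalizer (U : Set G)) (hne : U ≠ ⊥) : ⁅U, P⁆ ≠ U := by
  intro heq
  have hΓ : IsPGroup p (P ⊔ U : Subgroup G) := IsPGroup.to_sup_of_normal_right' hP hU hPU
  have hnil : Group.IsNilpotent (P ⊔ U : Subgroup G) := hΓ.isNilpotent
  obtain ⟨n, hn⟩ := (Subgroup.isNilpotent_iff_lowerCentralSeries _).mp hnil
  have key : ∀ n, U ≤ (P ⊔ U : Subgroup G).lowerCentralSeries n := by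
    intro n
    induction n with
    | zero => exact le_sup_right
    | succ k ih =>
      rw [Subgroup.lowerCentralSeries_succ]
      calc U = ⁅U, P⁆ := heq.symm
        _ ≤ _ := Subgroup.commutator_mono ih le_sup_left
  have := key n
  rw [hn, le_bot_iff] at this
  exact hne this

theorem le_normalizer_inf' {G : Type*} [Group G] {X H₁ H₂ : Subgroup G}
    (h₁ : X ≤ Subgroup.normalizer (H₁ : Set G)) (h₂ : X ≤ Subgroup.normalizer (H₂ : Set G)) :
    X ≤ Subgroup.normalizer ((H₁ ⊓ H₂ : Subgroup G) : Set G) := by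
  intro x hx
  rw [Subgroup.mem_normalizer_iff]
  intro h
  rw [Subgroup.mem_inf, Subgroup.mem_inf, ← Subgroup.mem_normalizer_iff.1 (h₁ hx) h,
    ← Subgroup.mem_normalizer_iff.1 (h₂ hx) h]

theorem le_normalizer_centralizer' {G : Type*} [Group G] {X H : Subgroup G}
    (h : X ≤ Subgroup.normalizer (H : Set G)) :
    X ≤ Subgroup.normalizer ((Subgroup.centralizer (H : Set G) : Subgroup G) : Set G) := by
  intro x hx
  have key : ∀ x ∈ Subgroup.normalizer (H : Set G), ∀ c ∈ Subgroup.centralizer (H : Set G),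
      x * c * x⁻¹ ∈ Subgroup.centralizer (H : Set G) := by
    intro x hx c hc
    rw [Subgroup.mem_centralizer_iff] at hc ⊢
    intro y hy
    have h1 : x⁻¹ * y * x ∈ H := by
      have := (Subgroup.mem_normalizer_iff.1 ((Subgroup.normalizer (H : Set G)).inv_mem hx) y).1 hy
      simpa using this
    have h2 := hc _ h1
    calc y * (x * c * x⁻¹) = x * ((x⁻¹ * y * x) * c) * x⁻¹ := by group
      _ = x * (c * (x⁻¹ * y * x)) * x⁻¹ := by rw [h2]
      _ = x * c * x⁻¹ * y := by group
  rw [Subgroup.mem_normalizer_iff]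
  intro c
  refine ⟨fun hc => key x (h hx) c hc, fun hc => ?_⟩
  have := key x⁻¹ ((Subgroup.normalizer (H : Set G)).inv_mem (h hx)) _ hc
  simpa [mul_assoc] using this

theorem commutator_le_of_le_normalizer {G : Type*} [Group G] {T Y : Subgroup G}
    (h : Y ≤ Subgroup.normalizer (T : Set G)) : ⁅T, Y⁆ ≤ T := by
  rw [Subgroup.commutator_le]
  intro t ht y hy
  have h1 : y * t⁻¹ * y⁻¹ ∈ T :=
    (Subgroup.mem_normalizer_iff.1 (h hy) t⁻¹).1 (T.inv_mem ht)
  have : ⁅t, y⁆ = t * (y * t⁻¹ * y⁻¹) := by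
    rw [commutatorElement_def]; group
  rw [this]
  exact T.mul_mem ht h1

theorem commutator_eq_bot_of_le_centralizer {G : Type*} [Group G] {T Y : Subgroup G}
    (h : T ≤ Subgroup.centralizer (Y : Set G)) : ⁅T, Y⁆ = ⊥ := by
  rw [Subgroup.commutator_eq_bot_iff_le_centralizer]
  exact h

theorem semi_pq_aux {G : Type*} [Group G] [Finite G] (p : ℕ) [Fact p.Prime] (hp : p ≠ 2)
    (Y A : Subgroup G) (hY : (Nat.card Y).Coprime p) (hA : IsPGroup p A)
    (hAY : A ≤ Subgroup.normalizer (Y : Set G)) (n : ℕ) :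
    ∀ T : Subgroup G, Nat.card T = n → IsPGroup p T →
      Y ≤ Subgroup.normalizer (T : Set G) → A ≤ Subgroup.normalizer (T : Set G) →
      T ⊓ Subgroup.centralizer (A : Set G) ≤ Subgroup.centralizer (Y : Set G) →
      T ≤ Subgroup.centralizer (Y : Set G) := by
  induction n using Nat.strong_induction_on with
  | _ n ih =>
  intro T hn hT hYT hAT hC
  by_contra hcon
  obtain ⟨Z, hZdef⟩ : ∃ Z, Z = T ⊓ Subgroup.centralizer (Y : Set G) := ⟨_, rfl⟩
  have hZleT : Z ≤ T := hZdef ▸ inf_le_left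
  have hZleY : Z ≤ Subgroup.centralizer (Y : Set G) := hZdef ▸ inf_le_right
  have hZT : Z ≠ T := by
    intro h
    apply hcon
    rw [← h]; exact hZleY
  have hYZ : Y ≤ Subgroup.normalizer (Z : Set G) := by
    rw [hZdef]
    exact le_normalizer_inf' hYT (le_normalizer_centralizer' Subgroup.le_normalizer)
  have hAZ : A ≤ Subgroup.normalizer (Z : Set G) := by
    rw [hZdef]
    exact le_normalizer_inf' hAT (le_normalizer_centralizer' hAY)
  -- P1
  have P1 : ∀ T₁ : Subgroup G, T₁ < T → Y ≤ Subgroup.normalizer (T₁ : Set G) →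
      A ≤ Subgroup.normalizer (T₁ : Set G) → T₁ ≤ Z := by
    intro T₁ hlt hY1 hA1
    have h1 := ih (Nat.card T₁) (hn ▸ Cfsg.Agent.S0046.card_lt_of_lt hlt) T₁ rfl (hT.to_le hlt.le)
      hY1 hA1 ((inf_le_inf_right _ hlt.le).trans hC)
    rw [hZdef]; exact le_inf hlt.le h1
  have hTYle : ⁅T, Y⁆ ≤ T := commutator_le_of_le_normalizer hYT
  have hcopYT : (Nat.card Y).Coprime (Nat.card T) := by
    obtain ⟨k, hk⟩ := IsPGroup.iff_card.1 hT
    rw [hk]
    exact Nat.Coprime.pow_right _ hY
  have hTnil : Group.IsNilpotent T := hT.isNilpotent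
  have hTsolv : Group.IsSolvable T := inferInstance
  -- P2
  have P2 : ⁅T, Y⁆ = T := by
    by_contra hne
    have hlt : ⁅T, Y⁆ < T := lt_of_le_of_ne hTYle hne
    have h1 := P1 _ hlt (le_normalizer_commutator'' hYT Subgroup.le_normalizer)
      (le_normalizer_commutator'' hAT hAY)
    have h2 : ⁅⁅T, Y⁆, Y⁆ = ⊥ := commutator_eq_bot_of_le_centralizer (h1.trans hZleY)
    rw [Cfsg.Agent.S0027.result Y T hYT hcopYT (Or.inr hTsolv)] at h2
    apply hcon
    rw [← Subgroup.commutator_eq_bot_iff_le_centralizer]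
    exact h2
  -- P3
  have P3 : T ≤ Subgroup.normalizer (Z : Set G) := by
    by_contra hne
    have hNlt : T ⊓ Subgroup.normalizer (Z : Set G) < T :=
      lt_of_le_of_ne inf_le_left (fun h => hne (h ▸ inf_le_right))
    have h1 := P1 _ hNlt
      (le_normalizer_inf' hYT (hYZ.trans Subgroup.le_normalizer))
      (le_normalizer_inf' hAT (hAZ.trans Subgroup.le_normalizer))
    obtain ⟨y, hyT, hyZ, hyN⟩ := Cfsg.Agent.S0046.exists_normalizing T Z hTnil
      (lt_of_le_of_ne hZleT hZT)
    exact hyZ (h1 ⟨hyT, hyN⟩)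
  have hZc : Z ≤ Subgroup.centralizer (T : Set G) := by
    have h1 : ⁅⁅Y, Z⁆, T⁆ = ⊥ := by
      have : ⁅Y, Z⁆ = ⊥ := by
        rw [Subgroup.commutator_comm]
        exact commutator_eq_bot_of_le_centralizer hZleY
      rw [this]
      exact Subgroup.commutator_bot_left T
    have h2 : ⁅⁅Z, T⁆, Y⁆ = ⊥ := by
      have h3 : ⁅Z, T⁆ ≤ Z := commutator_le_of_le_normalizer P3
      exact commutator_eq_bot_of_le_centralizer (h3.trans hZleY)
    have h3 := Subgroup.commutator_commutator_eq_bot_of_rotate h1 h2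
    rw [P2, Subgroup.commutator_comm, Subgroup.commutator_eq_bot_iff_le_centralizer] at h3
    exact h3
  have hTne : T ≠ ⊥ := by
    intro h
    apply hZT
    rw [h] at hZleT ⊢
    exact le_bot_iff.1 hZleT
  have hTT : ⁅T, T⁆ ≤ Z := by
    have hne := commutator_ne_self'' p T T hT hT Subgroup.le_normalizer hTne
    have hle : ⁅T, T⁆ ≤ T := commutator_le_of_le_normalizer Subgroup.le_normalizer
    exact P1 _ (lt_of_le_of_ne hle hne) (le_normalizer_commutator'' hYT hYT)
      (le_normalizer_commutator'' hAT hAT)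
  obtain ⟨s, hsT, hsA, hsZ⟩ := exists_fixed_not_mem p hp T Y A Z hT hY hA hYT hAT hAY hZdef hZc hTT hZT
  apply hsZ
  rw [hZdef]
  exact ⟨hsT, hC ⟨hsT, hsA⟩⟩

/-- **Semidirect `P × Q` lemma** (odd `p`): a `p'`-group `Y` and a `p`-group `A` normalizing `Y`
act on a `p`-group `T`; if `Y` centralizes `C_T(A)` then `Y` centralizes `T`. -/
theorem semi_pq {G : Type*} [Group G] [Finite G] (p : ℕ) [Fact p.Prime] (hp : p ≠ 2)
    (T Y A : Subgroup G) (hT : IsPGroup p T) (hY : (Nat.card Y).Coprime p) (hA : IsPGroup p A)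
    (hYT : Y ≤ Subgroup.normalizer (T : Set G)) (hAT : A ≤ Subgroup.normalizer (T : Set G))
    (hAY : A ≤ Subgroup.normalizer (Y : Set G))
    (hC : T ⊓ Subgroup.centralizer (A : Set G) ≤ Subgroup.centralizer (Y : Set G)) :
    T ≤ Subgroup.centralizer (Y : Set G) :=
  semi_pq_aux p hp Y A hY hA hAY _ T rfl hT hYT hAT hC

end Cfsg.Agent.Lib.Helper31
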