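import Mathlib
import Cfsg.Prelude.Def_Local
import Cfsg.Agent.Lib.Helper61.SolvableCore
import Cfsg.Agent.Lib.Helper15.Lifting
import Cfsg.Agent.Lib.Helper15.Cores
import Cfsg.Agent.Lib.Helper29.Cores
import Cfsg.Agent.Lib.Helper29.PCore
import Cfsg.Agent.Lib.Helper40.Cores
import Cfsg.Agent.Lib.Helper40.Sylow
import Cfsg.Agent.Lib.Helper31.SemiPQ

set_option autoImplicit false

/-! Solvable groups are `p`-constrained; self-centralizing normal subgroups of Sylow subgroups
contain all `p`-elements of their centralizer. -/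

namespace Cfsg.Agent.Lib.Helper31

open Cfsg

/-- The series `dser C` is the image of the derived series of `↥C` (after helper12, S0505). -/
theorem dser_eq_map' {K : Type*} [Group K] (C : Subgroup K) :
    ∀ n, Cfsg.Agent.Lib.Helper61.dser C n = (derivedSeries ↥C n).map C.subtype
  | 0 => by
    unfold Cfsg.Agent.Lib.Helper61.dser
    rw [derivedSeries_zero, ← MonoidHom.range_eq_map, Subgroup.range_subtype]
  | n + 1 => by
    unfold Cfsg.Agent.Lib.Helper61.dser
    rw [dser_eq_map' C n, derivedSeries_succ, Subgroup.map_commutator]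

/-- Hall–Higman 1.2.3 assuming only that `C_K(O_p(K))` is solvable (after helper12, S0505). -/
theorem centralizer_pCore_le_of_solvable' {K : Type*} [Group K] [Finite K] (p : ℕ)
    [hp : Fact p.Prime] (h : pPrimeCore p K = ⊥)
    (hs : Group.IsSolvable ↥(Subgroup.centralizer (pCore p K : Set K))) :
    Subgroup.centralizer (pCore p K : Set K) ≤ pCore p K := by
  set R := pCore p K with hR
  set C := Subgroup.centralizer (R : Set K) with hC
  have hRn : R.Normal := pCore_normal p K
  have hCn : C.Normal := Subgroup.normal_centralizer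
  obtain ⟨N, hN⟩ := hs.solvable
  have hbot : Cfsg.Agent.Lib.Helper61.dser C N = ⊥ := by
    rw [dser_eq_map', hN, Subgroup.map_bot]
  have hcomm : ⁅R, C⁆ = ⊥ := by
    rw [Subgroup.commutator_comm, Subgroup.commutator_eq_bot_iff_le_centralizer]
  have key : ∀ k, k ≤ N → Cfsg.Agent.Lib.Helper61.dser C (N - k) ≤ R := by
    intro k
    induction k with
    | zero => intro _; rw [Nat.sub_zero, hbot]; exact bot_le
    | succ k ih =>
      intro hk
      have ih' := ih (by omega)
      have e : N - k = (N - (k + 1)) + 1 := by omega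
      rw [e] at ih'
      set D := Cfsg.Agent.Lib.Helper61.dser C (N - (k + 1)) with hD
      have hDn : D.Normal := Cfsg.Agent.Lib.Helper61.dser_normal C _
      have hDC : D ≤ C := Cfsg.Agent.Lib.Helper61.dser_le C _
      have hDD : ⁅D, D⁆ ≤ R := ih'
      have hnil : Group.IsNilpotent ↥D := by
        rw [Subgroup.isNilpotent_iff_lowerCentralSeries]
        refine ⟨2, ?_⟩
        rw [Subgroup.lowerCentralSeries_succ, Subgroup.lowerCentralSeries_succ,
          Subgroup.lowerCentralSeries_zero, eq_bot_iff, ← hcomm]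
        exact Subgroup.commutator_mono hDD hDC
      have hDp : IsPGroup p ↥D := Cfsg.Agent.Lib.Helper61.isPGroup_of_normal_nilpotent p h D hnil
      exact Cfsg.Agent.Lib.Helper61.le_pCore hDn hDp
  have := key N le_rfl
  rwa [Nat.sub_self] at this

/-- `X` is `p`-constrained iff `X / O_{p'}(X)` has characteristic `p` (after helper12, S0631). -/
theorem isPConstrained_iff' {X : Type*} [Group X] [Finite X] (p : ℕ) [Fact p.Prime] :
    Cfsg.IsPConstrained p X ↔
      Subgroup.centralizer (pCore p (X ⧸ pPrimeCore p X) : Set (X ⧸ pPrimeCore p X)) ≤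
        pCore p (X ⧸ pPrimeCore p X) := by
  have hN : (Nat.card (pPrimeCore p X)).Coprime p := Cfsg.Agent.Lib.Helper29.pPrimeCore_coprime p
  have hP : ∀ P : Sylow p ↥(pPrimePCore p X),
      Subgroup.centralizer (((P : Subgroup ↥(pPrimePCore p X)).map (pPrimePCore p X).subtype :
        Subgroup X) : Set X) ≤ pPrimePCore p X ↔
      Subgroup.centralizer (pCore p (X ⧸ pPrimeCore p X) : Set (X ⧸ pPrimeCore p X)) ≤
        pCore p (X ⧸ pPrimeCore p X) := by
    intro P
    have hPp : IsPGroup p ((P : Subgroup ↥(pPrimePCore p X)).map (pPrimePCore p X).subtype) :=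
      P.2.map _
    have h1 := Cfsg.Agent.Lib.Helper15.centralizer_map_mk_of_coprime (pPrimeCore p X) hN _ hPp
    rw [Cfsg.Agent.Lib.Helper15.sylow_pPrimePCore_map P] at h1
    rw [h1, Subgroup.map_le_iff_le_comap]
    rfl
  constructor
  · intro h
    obtain ⟨P⟩ : Nonempty (Sylow p ↥(pPrimePCore p X)) := inferInstance
    exact (hP P).mp (h P)
  · intro h P
    exact (hP P).mpr h

/-- A finite solvable group is `p`-constrained. -/
theorem isPConstrained_of_solvable {X : Type*} [Group X] [Finite X] (p : ℕ) [Fact p.Prime]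
    (hs : Group.IsSolvable X) : Cfsg.IsPConstrained p X := by
  rw [isPConstrained_iff']
  have hq : Group.IsSolvable (X ⧸ pPrimeCore p X) :=
    Group.isSolvable_of_surjective (QuotientGroup.mk'_surjective (pPrimeCore p X))
  apply centralizer_pCore_le_of_solvable' p
    (Cfsg.Agent.Lib.Helper40.pPrimeCore_quotient_eq_bot p X)
  infer_instance

/-- If `B ∈ SCN(P)` for a Sylow `p`-subgroup `P`, every `p`-element of `C_G(B)` lies in `B`. -/
theorem mem_of_scn_of_isPGroup {G : Type*} [Group G] [Finite G] (p : ℕ) [Fact p.Prime]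
    (P : Sylow p G) (B : Subgroup G) (hPB : (P : Subgroup G) ≤ Subgroup.normalizer (B : Set G))
    (hBc : (P : Subgroup G) ⊓ Subgroup.centralizer (B : Set G) = B) :
    ∀ x ∈ Subgroup.centralizer (B : Set G), IsPGroup p (Subgroup.zpowers x) → x ∈ B := by
  intro x hxC hxp
  obtain ⟨n, hn, hnx⟩ := Cfsg.Agent.Lib.Helper40.exists_conj_mem_sylow_of_le
    (Subgroup.normalizer (B : Set G)) P hPB x (Subgroup.centralizer_le_normalizer _ hxC)
    (Subgroup.zpowers x) hxp (Subgroup.mem_zpowers x)
  have hnC : n * x * n⁻¹ ∈ Subgroup.centralizer (B : Set G) :=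
    (Subgroup.mem_normalizer_iff.1
      ((le_normalizer_centralizer' (le_refl (Subgroup.normalizer (B : Set G)))) hn) x).1 hxC
  have h1 : n * x * n⁻¹ ∈ B := by
    rw [← hBc]; exact ⟨hnx, hnC⟩
  have h2 := (Subgroup.mem_normalizer_iff.1 hn x).2 h1
  exact h2

end Cfsg.Agent.Lib.Helper31
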