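import Cfsg.Prelude.Def_OddOrderLocal
import Cfsg.Prelude.Def_OddOrder
import Cfsg.Agent.S0024
import Cfsg.Agent.S0025
import Cfsg.Agent.S0046
import Cfsg.Agent.Lib.Helper01.Basic
import Cfsg.Agent.Lib.Helper31.FittingHall

set_option autoImplicit false

/-! Bender–Glauberman §7: the transitivity theorem (library part). -/

namespace Cfsg.Agent.Lib.Helper31

open scoped Pointwise
open Cfsg

theorem forall_prime_mem_primesNotDvd_iff {m n : ℕ} :
    (∀ p : ℕ, p.Prime → p ∣ m → p ∈ primesNotDvd n) ↔ m.Coprime n := by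
  constructor
  · intro h
    exact Nat.coprime_of_dvd (fun k hk hkm => (h k hk hkm).2)
  · intro h p hp hpm
    refine ⟨hp, fun hpn => ?_⟩
    exact (Nat.Prime.coprime_iff_not_dvd hp).1 (Nat.Coprime.coprime_dvd_left hpm h) hpn

/-- A subgroup all of whose prime divisors equal `q` is a `q`-group. -/
theorem isPGroup_of_forall_prime {G : Type*} [Group G] [Finite G] (q : ℕ) (Y : Subgroup G)
    (h : ∀ p : ℕ, p.Prime → p ∣ Nat.card Y → p ∈ ({q} : Set ℕ)) : IsPGroup q Y := by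
  have h0 : Nat.card Y ≠ 0 := Nat.card_pos.ne'
  exact IsPGroup.of_card (Nat.eq_prime_pow_of_unique_prime_dvd h0 (fun {d} hd hdn => h d hd hdn))

theorem forall_prime_of_isPGroup {G : Type*} [Group G] [Finite G] (q : ℕ) [hq : Fact q.Prime]
    (Y : Subgroup G) (h : IsPGroup q Y) :
    ∀ p : ℕ, p.Prime → p ∣ Nat.card Y → p ∈ ({q} : Set ℕ) := by
  intro p hp hpY
  obtain ⟨k, hk⟩ := IsPGroup.iff_card.1 h
  rw [hk] at hpY
  exact (Nat.prime_dvd_prime_iff_eq hp hq.out).1 (hp.dvd_of_dvd_pow hpY)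

theorem coprime_of_isPGroup {G : Type*} [Group G] [Finite G] (q : ℕ) [hq : Fact q.Prime]
    (Y A : Subgroup G) (h : IsPGroup q Y) (hqA : ¬ q ∣ Nat.card A) :
    (Nat.card Y).Coprime (Nat.card A) := by
  obtain ⟨k, hk⟩ := IsPGroup.iff_card.1 h
  rw [hk]
  exact Nat.Coprime.pow_left k ((Nat.Prime.coprime_iff_not_dvd hq.out).2 hqA)

/-! ### `O_π(X)` as a subgroup of the ambient group -/

theorem piCoreOf_le {G : Type*} [Group G] (π : Set ℕ) (X : Subgroup G) : piCoreOf π X ≤ X :=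
  Subgroup.map_subtype_le _

theorem le_normalizer_piCoreOf {G : Type*} [Group G] (π : Set ℕ) (X : Subgroup G) :
    X ≤ Subgroup.normalizer (piCoreOf π X : Set G) := by
  have h := Subgroup.le_normalizer_map (H := piCore π X) X.subtype
  rw [Subgroup.normalizer_eq_top_iff.2 (piCore_normal π X), ← MonoidHom.range_eq_map,
    Subgroup.range_subtype] at h
  exact h

theorem piCoreOf_pi {G : Type*} [Group G] [Finite G] (π : Set ℕ) (X : Subgroup G) :
    ∀ p : ℕ, p.Prime → p ∣ Nat.card (piCoreOf π X) → p ∈ π := by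
  have h1 : Nat.card (piCoreOf π X) = Nat.card (piCore π X) :=
    Subgroup.card_map_of_injective X.subtype_injective
  rw [h1]
  refine sSup_normal_mem (M := X)
    (fun N : Subgroup X => ∀ p : ℕ, p.Prime → p ∣ Nat.card N → p ∈ π) ?_ ?_
  · intro p hp hdvd
    rw [Subgroup.card_bot] at hdvd
    exact absurd (Nat.dvd_one.1 hdvd) hp.ne_one
  · intro A B _ hB hA hB' p hp hdvd
    have h2 := dvd_trans hdvd (card_sup_dvd_mul A B)
    rcases (Nat.Prime.dvd_mul hp).1 h2 with h3 | h3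
    · exact hA p hp h3
    · exact hB' p hp h3

theorem le_piCoreOf {G : Type*} [Group G] (π : Set ℕ) (X Y : Subgroup G) (hYX : Y ≤ X)
    (hXY : X ≤ Subgroup.normalizer (Y : Set G))
    (hπ : ∀ p : ℕ, p.Prime → p ∣ Nat.card Y → p ∈ π) : Y ≤ piCoreOf π X := by
  have h1 : (Y.subgroupOf X).Normal := (Subgroup.normal_subgroupOf_iff_le_normalizer hYX).2 hXY
  have h2 : Nat.card (Y.subgroupOf X) = Nat.card Y :=
    Nat.card_congr (Subgroup.subgroupOfEquivOfLe hYX).toEquiv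
  have h3 : Y.subgroupOf X ≤ piCore π X := le_sSup ⟨h1, by rw [h2]; exact hπ⟩
  have h4 := Subgroup.map_mono (f := X.subtype) h3
  rwa [Subgroup.map_subgroupOf_eq_of_le hYX] at h4

/-! ### Invariant subgroups -/

theorem mem_invSubgroups_of_isPGroup {G : Type*} [Group G] [Finite G] (q : ℕ) [Fact q.Prime]
    (A Y : Subgroup G) (hY : IsPGroup q Y) (hAY : A ≤ Subgroup.normalizer (Y : Set G)) :
    Y ∈ invSubgroups ⊤ A {q} :=
  ⟨le_top, forall_prime_of_isPGroup q Y hY, hAY⟩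

theorem normalizer_conj_smul {G : Type*} [Group G] (c : G) (Y : Subgroup G) (a : G)
    (hac : a * c = c * a) (ha : a ∈ Subgroup.normalizer (Y : Set G)) :
    a ∈ Subgroup.normalizer ((MulAut.conj c • Y : Subgroup G) : Set G) := by
  rw [Cfsg.Agent.Lib.Helper01.mem_normalizer_iff_conj_smul] at ha ⊢
  rw [Cfsg.Agent.Lib.Helper01.conj_smul_conj_smul, hac,
    ← Cfsg.Agent.Lib.Helper01.conj_smul_conj_smul, ha]

theorem conj_mem_invSubgroups {G : Type*} [Group G] (A : Subgroup G) (π : Set ℕ) (c : G)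
    (hc : c ∈ Subgroup.centralizer (A : Set G)) (Y : Subgroup G) (hY : Y ∈ invSubgroups ⊤ A π) :
    MulAut.conj c • Y ∈ invSubgroups ⊤ A π := by
  refine ⟨le_top, ?_, ?_⟩
  · rw [Cfsg.Agent.Lib.Helper01.card_conj_smul]; exact hY.2.1
  · intro a ha
    exact normalizer_conj_smul c Y a (Subgroup.mem_centralizer_iff.1 hc a ha) (hY.2.2 ha)

theorem conj_mem_maxInvSubgroups {G : Type*} [Group G] (A : Subgroup G) (π : Set ℕ) (c : G)
    (hc : c ∈ Subgroup.centralizer (A : Set G)) (Q : Subgroup G)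
    (hQ : Q ∈ maxInvSubgroups ⊤ A π) : MulAut.conj c • Q ∈ maxInvSubgroups ⊤ A π := by
  refine ⟨conj_mem_invSubgroups A π c hc Q hQ.1, ?_⟩
  intro R hR hle
  have hc' : c⁻¹ ∈ Subgroup.centralizer (A : Set G) := Subgroup.inv_mem _ hc
  have h1 := conj_mem_invSubgroups A π c⁻¹ hc' R hR
  have h2 : Q ≤ MulAut.conj c⁻¹ • R := by
    have := Subgroup.pointwise_smul_le_pointwise_smul_iff (a := MulAut.conj c⁻¹)
      |>.2 hle
    rwa [Cfsg.Agent.Lib.Helper01.conj_smul_conj_smul, inv_mul_cancel, map_one, one_smul] at this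
  have h3 := hQ.2 _ h1 h2
  rw [← h3, Cfsg.Agent.Lib.Helper01.conj_smul_conj_smul, mul_inv_cancel, map_one, one_smul]

theorem exists_maxInv_ge {G : Type*} [Group G] [Finite G] (A : Subgroup G) (π : Set ℕ)
    (S : Subgroup G) (hS : S ∈ invSubgroups ⊤ A π) :
    ∃ Q ∈ maxInvSubgroups ⊤ A π, S ≤ Q := by
  let T : Set (Subgroup G) := {R | R ∈ invSubgroups ⊤ A π ∧ S ≤ R}
  have hT : T.Nonempty := ⟨S, hS, le_rfl⟩
  obtain ⟨Q, ⟨hQ, hSQ⟩, hmax⟩ := wellFounded_gt.has_min T hT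
  refine ⟨Q, ⟨hQ, fun R hR hle => ?_⟩, hSQ⟩
  by_contra hne
  exact hmax R ⟨hR, hSQ.trans hle⟩ (lt_of_le_of_ne hle (Ne.symm hne))

/-! ### Coprime action, ambient phrasing -/

/-- Two `A`-invariant `q`-subgroups of an `A`-invariant group `L` of order prime to `#A` lie in
`A`-invariant `q`-subgroups `S`, `c S c⁻¹` of `L` with `c ∈ C_L(A)`. -/
theorem exists_inv_sylow_pair {G : Type*} [Group G] [Finite G] (A L : Subgroup G)
    (hAL : A ≤ Subgroup.normalizer (L : Set G)) (hcop : (Nat.card A).Coprime (Nat.card L))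
    (hsolv : Group.IsSolvable A ∨ Group.IsSolvable L) (q : ℕ) [Fact q.Prime]
    (R₁ R₂ : Subgroup G) (h₁ : R₁ ≤ L) (h₂ : R₂ ≤ L) (hq₁ : IsPGroup q R₁) (hq₂ : IsPGroup q R₂)
    (hA₁ : A ≤ Subgroup.normalizer (R₁ : Set G)) (hA₂ : A ≤ Subgroup.normalizer (R₂ : Set G)) :
    ∃ (S : Subgroup G) (c : G), S ≤ L ∧ IsPGroup q S ∧ A ≤ Subgroup.normalizer (S : Set G) ∧
      R₁ ≤ S ∧ c ∈ L ∧ c ∈ Subgroup.centralizer (A : Set G) ∧ R₂ ≤ MulAut.conj c • S := by
  obtain ⟨P₁, hRP₁, hAP₁⟩ := Cfsg.Agent.S0025.result A L hAL hcop hsolv q R₁ h₁ hq₁ hA₁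
  obtain ⟨P₂, hRP₂, hAP₂⟩ := Cfsg.Agent.S0025.result A L hAL hcop hsolv q R₂ h₂ hq₂ hA₂
  obtain ⟨c, hcA, hc⟩ := Cfsg.Agent.S0024.result A L hAL hcop hsolv q P₁ P₂ hAP₁ hAP₂
  refine ⟨(P₁ : Subgroup L).map L.subtype, (c : G), Subgroup.map_subtype_le _,
    P₁.isPGroup'.map _, hAP₁, hRP₁, c.2, hcA, ?_⟩
  have h3 : (MulAut.conj c • (P₁ : Subgroup L)) = (P₂ : Subgroup L) := by
    rw [← Sylow.pointwise_smul_def, hc]
  have h4 := Cfsg.Agent.Lib.Helper01.map_conj_smul L.subtype c (P₁ : Subgroup L)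
  rw [h3] at h4
  have h5 : MulAut.conj (c : G) • (P₁ : Subgroup L).map L.subtype =
      (P₂ : Subgroup L).map L.subtype := h4.symm
  rw [h5]
  exact hRP₂

/-! ### The transitivity hypothesis -/

theorem transHyp_le_piCoreOf {G : Type*} [Group G] {A : Subgroup G}
    (hA : TransitivityHypothesis A) (X : Subgroup G) (hX : X ≠ ⊤) (hAX : A ≤ X)
    (Y : Subgroup G) (hYX : Y ≤ X) (hYπ : (Nat.card Y).Coprime (Nat.card A))
    (hAY : A ≤ Subgroup.normalizer (Y : Set G)) :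
    Y ≤ piCoreOf (primesNotDvd (Nat.card A)) X := by
  rw [← hA.2.2 X hX hAX]
  exact le_sSup ⟨hYX, forall_prime_mem_primesNotDvd_iff.2 hYπ, hAY⟩

theorem coprime_card_piCoreOf {G : Type*} [Group G] [Finite G] (A X : Subgroup G) :
    (Nat.card A).Coprime (Nat.card (piCoreOf (primesNotDvd (Nat.card A)) X)) :=
  (forall_prime_mem_primesNotDvd_iff.1 (piCoreOf_pi _ X)).symm

theorem normalizer_ne_top_of_simple {G : Type*} [Group G] [IsSimpleGroup G] (D : Subgroup G)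
    (h1 : D ≠ ⊥) (h2 : D ≠ ⊤) : Subgroup.normalizer (D : Set G) ≠ ⊤ := by
  intro h
  rw [Subgroup.normalizer_eq_top_iff] at h
  rcases h.eq_bot_or_eq_top with h3 | h3
  · exact h1 h3
  · exact h2 h3

/-- An `A`-centralizing subgroup of order prime to `#A` lies in `O_{π(A)'}(C_G(A))`. -/
theorem le_K_of_centralizing {G : Type*} [Group G] [Finite G] [IsSimpleGroup G] {A : Subgroup G}
    (hA : TransitivityHypothesis A) (Y : Subgroup G)
    (hYC : Y ≤ Subgroup.centralizer (A : Set G)) (hYπ : (Nat.card Y).Coprime (Nat.card A)) :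
    Y ≤ piCoreOf (primesNotDvd (Nat.card A)) (Subgroup.centralizer (A : Set G)) := by
  set C := Subgroup.centralizer (A : Set G) with hC
  have hXN : A ⊔ C ≤ Subgroup.normalizer (A : Set G) :=
    sup_le Subgroup.le_normalizer (Subgroup.centralizer_le_normalizer _)
  have hXtop : A ⊔ C ≠ ⊤ := by
    intro h
    rw [h] at hXN
    exact normalizer_ne_top_of_simple A hA.1 hA.2.1 (top_le_iff.1 hXN)
  have hAY : A ≤ Subgroup.normalizer (Y : Set G) := by
    intro a ha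
    rw [Subgroup.mem_normalizer_iff]
    intro y
    constructor
    · intro hy
      have : a * y * a⁻¹ = y := by
        have h1 := Subgroup.mem_centralizer_iff.1 (hYC hy) a ha
        rw [h1, mul_inv_cancel_right]
      rwa [this]
    · intro hy
      have h1 := Subgroup.mem_centralizer_iff.1 (hYC hy) a ha
      have : y = a * y * a⁻¹ := by
        have h2 : a * (a * y * a⁻¹) = a * y * a⁻¹ * a := h1
        have h3 : a * y * a⁻¹ * a = a * y := by group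
        rw [h3] at h2
        exact (mul_left_cancel h2).symm
      rw [this]; exact hy
  have hYL := transHyp_le_piCoreOf hA (A ⊔ C) hXtop le_sup_left Y (hYC.trans le_sup_right) hYπ hAY
  refine hYL.trans ?_
  set L := piCoreOf (primesNotDvd (Nat.card A)) (A ⊔ C) with hL
  have hLn : A ⊔ C ≤ Subgroup.normalizer (L : Set G) := le_normalizer_piCoreOf _ _
  have hLX : L ≤ A ⊔ C := piCoreOf_le _ _
  have hdisj : L ⊓ A = ⊥ :=
    (Subgroup.disjoint_of_coprime_natCard (coprime_card_piCoreOf A (A ⊔ C)).symm).eq_bot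
  have hLC : L ≤ C := by
    intro l hl
    rw [hC, Subgroup.mem_centralizer_iff]
    intro a ha
    have h1 : l * a * l⁻¹ * a⁻¹ ∈ L ⊓ A := by
      refine Subgroup.mem_inf.2 ⟨?_, ?_⟩
      · have h2 : a * l⁻¹ * a⁻¹ ∈ L :=
          (Subgroup.mem_normalizer_iff.1 (hLn (le_sup_left (a := A) ha)) l⁻¹).1 (L.inv_mem hl)
        have h3 := L.mul_mem hl h2
        have e : l * (a * l⁻¹ * a⁻¹) = l * a * l⁻¹ * a⁻¹ := by group
        rwa [e] at h3
      · have h2 : l * a * l⁻¹ ∈ A :=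
          (Subgroup.mem_normalizer_iff.1 (hXN (hLX hl)) a).1 ha
        exact A.mul_mem h2 (A.inv_mem ha)
    rw [hdisj, Subgroup.mem_bot] at h1
    have h4 : l * a * l⁻¹ * a⁻¹ * a * l = l * a := by group
    rw [h1] at h4
    simpa using h4
  exact le_piCoreOf _ C L hLC (le_sup_right.trans hLn) (piCoreOf_pi _ _)

/-- `K = O_{π(A)'}(C_G(A))`. -/
abbrev KK {G : Type*} [Group G] (A : Subgroup G) : Subgroup G :=
  piCoreOf (primesNotDvd (Nat.card A)) (Subgroup.centralizer (A : Set G))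

theorem KK_le_centralizer {G : Type*} [Group G] (A : Subgroup G) :
    KK A ≤ Subgroup.centralizer (A : Set G) := piCoreOf_le _ _

theorem inf_normalizer_le {G : Type*} [Group G] (A X Y : Subgroup G)
    (hX : A ≤ Subgroup.normalizer (X : Set G)) (hY : A ≤ Subgroup.normalizer (Y : Set G)) :
    A ≤ Subgroup.normalizer ((X ⊓ Y : Subgroup G) : Set G) := by
  intro a ha
  rw [Cfsg.Agent.Lib.Helper01.mem_normalizer_iff_conj_smul, Subgroup.smul_inf,
    Cfsg.Agent.Lib.Helper01.mem_normalizer_iff_conj_smul.1 (hX ha),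
    Cfsg.Agent.Lib.Helper01.mem_normalizer_iff_conj_smul.1 (hY ha)]

/-- Two `A`-invariant `q`-subgroups of a proper subgroup `N ⊇ A` lie in `Q₀`, `c Q₀ c⁻¹` for some
maximal `A`-invariant `q`-subgroup `Q₀` and some `c ∈ K`. -/
theorem transitivity_step {G : Type*} [Group G] [Finite G] (hG : IsMinimalSimple G)
    {A : Subgroup G} (hA : TransitivityHypothesis A) (q : ℕ) [Fact q.Prime]
    (hqA : ¬ q ∣ Nat.card A) (N : Subgroup G) (hN : N ≠ ⊤) (hAN : A ≤ N)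
    (R R' : Subgroup G) (hR : R ≤ N) (hR' : R' ≤ N) (hqR : IsPGroup q R) (hqR' : IsPGroup q R')
    (hAR : A ≤ Subgroup.normalizer (R : Set G)) (hAR' : A ≤ Subgroup.normalizer (R' : Set G)) :
    ∃ Q₀ ∈ maxInvSubgroups ⊤ A {q}, ∃ c ∈ KK A, R ≤ Q₀ ∧ R' ≤ MulAut.conj c • Q₀ := by
  haveI : IsSimpleGroup G := hG.1
  set L := piCoreOf (primesNotDvd (Nat.card A)) N with hL
  have hRL : R ≤ L := transHyp_le_piCoreOf hA N hN hAN R hR (coprime_of_isPGroup q R A hqR hqA) hAR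
  have hR'L : R' ≤ L :=
    transHyp_le_piCoreOf hA N hN hAN R' hR' (coprime_of_isPGroup q R' A hqR' hqA) hAR'
  have hAL : A ≤ Subgroup.normalizer (L : Set G) := hAN.trans (le_normalizer_piCoreOf _ _)
  have hcop : (Nat.card A).Coprime (Nat.card L) := coprime_card_piCoreOf A N
  have hLtop : L ≠ ⊤ := by
    intro h
    apply hN
    rw [eq_top_iff, ← h]
    exact piCoreOf_le _ _
  have hLsol : Group.IsSolvable L := hG.2.2 L hLtop
  obtain ⟨S, c, hSL, hqS, hAS, hRS, hcL, hcC, hR'S⟩ :=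
    exists_inv_sylow_pair A L hAL hcop (Or.inr hLsol) q R R' hRL hR'L hqR hqR' hAR hAR'
  have hcK : c ∈ KK A := by
    refine le_K_of_centralizing hA (L ⊓ Subgroup.centralizer (A : Set G)) inf_le_right ?_
      (Subgroup.mem_inf.2 ⟨hcL, hcC⟩)
    exact Nat.Coprime.coprime_dvd_left (Subgroup.card_dvd_of_le inf_le_left) hcop.symm
  obtain ⟨Q₀, hQ₀, hSQ₀⟩ := exists_maxInv_ge A {q} S (mem_invSubgroups_of_isPGroup q A S hqS hAS)
  refine ⟨Q₀, hQ₀, c, hcK, hRS.trans hSQ₀, hR'S.trans ?_⟩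
  exact Subgroup.pointwise_smul_le_pointwise_smul_iff.2 hSQ₀

/-- Maximal `A`-invariant `q`-subgroups with nontrivial intersection are conjugate under `K`. -/
theorem conj_of_inf_ne_bot {G : Type*} [Group G] [Finite G] (hG : IsMinimalSimple G)
    {A : Subgroup G} (hA : TransitivityHypothesis A) (q : ℕ) [Fact q.Prime]
    (hqA : ¬ q ∣ Nat.card A) :
    ∀ (n : ℕ) (Q Q' : Subgroup G), Q ∈ maxInvSubgroups ⊤ A {q} → Q' ∈ maxInvSubgroups ⊤ A {q} →
      Q ⊓ Q' ≠ ⊥ → Nat.card G - Nat.card (Q ⊓ Q' : Subgroup G) = n →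
      ∃ k ∈ KK A, Q' = MulAut.conj k • Q := by
  haveI : IsSimpleGroup G := hG.1
  intro n
  induction n using Nat.strong_induction_on with
  | _ n ih =>
  intro Q Q' hQ hQ' hD hn
  by_cases hQQ : Q = Q'
  · exact ⟨1, one_mem _, by rw [map_one, one_smul]; exact hQQ.symm⟩
  have hqQ : IsPGroup q Q := isPGroup_of_forall_prime q Q hQ.1.2.1
  have hqQ' : IsPGroup q Q' := isPGroup_of_forall_prime q Q' hQ'.1.2.1
  have hDQ : Q ⊓ Q' < Q := by
    refine lt_of_le_of_ne inf_le_left (fun h => hQQ ?_)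
    have hle : Q ≤ Q' := by rw [← h]; exact inf_le_right
    exact (hQ.2 Q' hQ'.1 hle).symm
  have hDQ' : Q ⊓ Q' < Q' := by
    refine lt_of_le_of_ne inf_le_right (fun h => hQQ ?_)
    have hle : Q' ≤ Q := by rw [← h]; exact inf_le_left
    exact hQ'.2 Q hQ.1 hle
  have hAD : A ≤ Subgroup.normalizer ((Q ⊓ Q' : Subgroup G) : Set G) :=
    inf_normalizer_le A Q Q' hQ.1.2.2 hQ'.1.2.2
  have hDtop : Q ⊓ Q' ≠ ⊤ := by
    intro h
    have hAq : IsPGroup q A := (hqQ.to_le inf_le_left : IsPGroup q (Q ⊓ Q' : Subgroup G)).to_le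
      (by rw [h]; exact le_top)
    obtain ⟨k, hk⟩ := IsPGroup.iff_card.1 hAq
    rcases Nat.eq_zero_or_pos k with rfl | hk0
    · exact hA.1 (Subgroup.card_eq_one.1 (by simpa using hk))
    · exact hqA (hk ▸ dvd_pow_self q hk0.ne')
  have hNtop := normalizer_ne_top_of_simple (Q ⊓ Q') hD hDtop
  obtain ⟨y, hyQ, hyD, hyN⟩ :=
    Cfsg.Agent.S0046.exists_normalizing Q (Q ⊓ Q') hqQ.isNilpotent hDQ
  obtain ⟨y', hyQ', hyD', hyN'⟩ :=
    Cfsg.Agent.S0046.exists_normalizing Q' (Q ⊓ Q') hqQ'.isNilpotent hDQ'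
  have hANN : A ≤ Subgroup.normalizer
      ((Subgroup.normalizer ((Q ⊓ Q' : Subgroup G) : Set G) : Subgroup G) : Set G) :=
    hAD.trans Subgroup.le_normalizer
  obtain ⟨Q₀, hQ₀, c, hc, hRQ₀, hR'Q₀⟩ := transitivity_step hG hA q hqA
    (Subgroup.normalizer ((Q ⊓ Q' : Subgroup G) : Set G)) hNtop hAD
    (Q ⊓ Subgroup.normalizer ((Q ⊓ Q' : Subgroup G) : Set G))
    (Q' ⊓ Subgroup.normalizer ((Q ⊓ Q' : Subgroup G) : Set G)) inf_le_right inf_le_right
    (hqQ.to_le inf_le_left) (hqQ'.to_le inf_le_left)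
    (inf_normalizer_le A _ _ hQ.1.2.2 hANN) (inf_normalizer_le A _ _ hQ'.1.2.2 hANN)
  have h1 : Q ⊓ Q' < Q ⊓ Q₀ := by
    refine lt_of_le_of_ne
      (le_inf inf_le_left ((le_inf inf_le_left Subgroup.le_normalizer).trans hRQ₀)) ?_
    intro heq
    apply hyD
    rw [heq]
    exact ⟨hyQ, hRQ₀ ⟨hyQ, hyN⟩⟩
  have hcard1 : Nat.card G - Nat.card (Q ⊓ Q₀ : Subgroup G) < n := by
    rw [← hn]
    have h3 := Cfsg.Agent.S0046.card_lt_of_lt h1
    have h4 := Subgroup.card_le_card_group (Q ⊓ Q₀)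
    omega
  obtain ⟨k1, hk1, hQ₀eq⟩ := ih _ hcard1 Q Q₀ hQ hQ₀ (ne_bot_of_gt h1) rfl
  have hcC : c ∈ Subgroup.centralizer (A : Set G) := KK_le_centralizer A hc
  have hQ₁ := conj_mem_maxInvSubgroups A {q} c hcC Q₀ hQ₀
  have h2 : Q ⊓ Q' < (MulAut.conj c • Q₀) ⊓ Q' := by
    refine lt_of_le_of_ne
      (le_inf ((le_inf inf_le_right Subgroup.le_normalizer).trans hR'Q₀) inf_le_right) ?_
    intro heq
    apply hyD'
    rw [heq]
    exact ⟨hR'Q₀ ⟨hyQ', hyN'⟩, hyQ'⟩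
  have hcard2 : Nat.card G - Nat.card ((MulAut.conj c • Q₀) ⊓ Q' : Subgroup G) < n := by
    rw [← hn]
    have h3 := Cfsg.Agent.S0046.card_lt_of_lt h2
    have h4 := Subgroup.card_le_card_group ((MulAut.conj c • Q₀) ⊓ Q')
    omega
  obtain ⟨k2, hk2, hQ'eq⟩ := ih _ hcard2 (MulAut.conj c • Q₀) Q' hQ₁ hQ' (ne_bot_of_gt h2) rfl
  refine ⟨k2 * c * k1, mul_mem (mul_mem hk2 hc) hk1, ?_⟩
  rw [hQ'eq, hQ₀eq, Cfsg.Agent.Lib.Helper01.conj_smul_conj_smul,
    Cfsg.Agent.Lib.Helper01.conj_smul_conj_smul, mul_assoc]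

/-- Bender–Glauberman Theorem 7.2. -/
theorem transitivity_of_meet {G : Type*} [Group G] [Finite G] (hG : IsMinimalSimple G)
    {A : Subgroup G} (hA : TransitivityHypothesis A) (q : ℕ) [Fact q.Prime]
    (hqA : ¬ q ∣ Nat.card A) (Q₁ Q₂ : Subgroup G) (h₁ : Q₁ ∈ maxInvSubgroups ⊤ A {q})
    (h₂ : Q₂ ∈ maxInvSubgroups ⊤ A {q}) (H : Subgroup G) (hH : H ≠ ⊤) (hAH : A ≤ H)
    (hH₁ : H ⊓ Q₁ ≠ ⊥) (hH₂ : H ⊓ Q₂ ≠ ⊥) :
    ∃ k ∈ KK A, Q₂ = MulAut.conj k • Q₁ := by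
  have hqQ₁ : IsPGroup q Q₁ := isPGroup_of_forall_prime q Q₁ h₁.1.2.1
  have hqQ₂ : IsPGroup q Q₂ := isPGroup_of_forall_prime q Q₂ h₂.1.2.1
  have hAHn : A ≤ Subgroup.normalizer (H : Set G) := hAH.trans Subgroup.le_normalizer
  obtain ⟨Q₀, hQ₀, c, hc, hRQ₀, hR'Q₀⟩ := transitivity_step hG hA q hqA H hH hAH
    (H ⊓ Q₁) (H ⊓ Q₂) inf_le_left inf_le_left (hqQ₁.to_le inf_le_right) (hqQ₂.to_le inf_le_right)
    (inf_normalizer_le A _ _ hAHn h₁.1.2.2) (inf_normalizer_le A _ _ hAHn h₂.1.2.2)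
  have hcC : c ∈ Subgroup.centralizer (A : Set G) := KK_le_centralizer A hc
  have hQ₃ := conj_mem_maxInvSubgroups A {q} c hcC Q₀ hQ₀
  have hne1 : Q₁ ⊓ Q₀ ≠ ⊥ := by
    intro h
    apply hH₁
    rw [eq_bot_iff, ← h]
    exact le_inf inf_le_right hRQ₀
  have hne2 : (MulAut.conj c • Q₀) ⊓ Q₂ ≠ ⊥ := by
    intro h
    apply hH₂
    rw [eq_bot_iff, ← h]
    exact le_inf hR'Q₀ inf_le_right
  obtain ⟨k1, hk1, hQ₀eq⟩ := conj_of_inf_ne_bot hG hA q hqA _ Q₁ Q₀ h₁ hQ₀ hne1 rfl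
  obtain ⟨k2, hk2, hQ₂eq⟩ :=
    conj_of_inf_ne_bot hG hA q hqA _ (MulAut.conj c • Q₀) Q₂ hQ₃ h₂ hne2 rfl
  refine ⟨k2 * c * k1, mul_mem (mul_mem hk2 hc) hk1, ?_⟩
  rw [hQ₂eq, hQ₀eq, Cfsg.Agent.Lib.Helper01.conj_smul_conj_smul,
    Cfsg.Agent.Lib.Helper01.conj_smul_conj_smul, mul_assoc]

end Cfsg.Agent.Lib.Helper31
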