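import Mathlib
import Cfsg.Prelude.Def_OddOrderLocal
import Cfsg.Prelude.Def_CaseTheorems
import Cfsg.Agent.Lib.Helper01.Fitting
import Cfsg.Agent.Lib.Helper01.PPrimeCore
import Cfsg.Agent.Lib.Helper28.FittingCent
import Cfsg.Agent.Lib.Helper29.PLayerBot
import Cfsg.Agent.Lib.Helper29.Sup
import Cfsg.Agent.Lib.Helper29.Cores
import Cfsg.Agent.Lib.Helper30.Layer
import Cfsg.Agent.Lib.Helper32.Coprime
import Cfsg.Agent.Lib.Helper32.CoprimeDecomp
import Cfsg.Agent.Lib.Helper69.Nilpotent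
import Cfsg.Agent.Lib.Helper31.Transitivity

/-!
# Bender's lemma on the Fitting subgroup of a maximal local subgroup

`H` a maximal local subgroup of a finite group, `F = F(H)` divisible by at least two primes,
`M ≤ F` with `C_F(M) ≤ M`, `R` solvable normalized by `M` and `C_H(F)`: the `M`-invariant
`q`-subgroups of `R` (`q ∤ #F`) lie in `O_{π(F)'}(R)` and there is a unique maximal one.
-/

set_option autoImplicit false

namespace Cfsg.Agent.Lib.Helper31.BenderFit

open Cfsg
open scoped commutatorElement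

section General

variable {G : Type*} [Group G]

theorem le_normalizer_of_conj_mem {K N : Subgroup G}
    (h : ∀ k ∈ K, ∀ n ∈ N, k * n * k⁻¹ ∈ N) : K ≤ Subgroup.normalizer (N : Set G) := by
  intro k hk
  rw [Subgroup.mem_normalizer_iff]
  intro n
  constructor
  · exact h k hk n
  · intro hn
    have := h k⁻¹ (K.inv_mem hk) _ hn
    simpa [mul_assoc] using this

theorem conj_mem_of_le_normalizer {K N : Subgroup G} (h : K ≤ Subgroup.normalizer (N : Set G))
    {k n : G} (hk : k ∈ K) (hn : n ∈ N) : k * n * k⁻¹ ∈ N :=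
  (Subgroup.mem_normalizer_iff.1 (h hk) n).1 hn

theorem conj_mem_of_le_normalizer' {K N : Subgroup G} (h : K ≤ Subgroup.normalizer (N : Set G))
    {k n : G} (hk : k ∈ K) (hn : n ∈ N) : k⁻¹ * n * k ∈ N := by
  have := conj_mem_of_le_normalizer h (K.inv_mem hk) hn
  simpa using this

/-- A subgroup normalizing `A` normalizes `C_G(A)`. -/
theorem le_normalizer_centralizer {K A : Subgroup G} (h : K ≤ Subgroup.normalizer (A : Set G)) :
    K ≤ Subgroup.normalizer ((Subgroup.centralizer (A : Set G) : Subgroup G) : Set G) := by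
  apply le_normalizer_of_conj_mem
  intro k hk c hc
  rw [Subgroup.mem_centralizer_iff] at hc ⊢
  intro a ha
  have ha' : k⁻¹ * a * k ∈ A := conj_mem_of_le_normalizer' h hk ha
  have h1 := hc _ ha'
  calc a * (k * c * k⁻¹) = k * ((k⁻¹ * a * k) * c) * k⁻¹ := by group
    _ = k * (c * (k⁻¹ * a * k)) * k⁻¹ := by rw [h1]
    _ = k * c * k⁻¹ * a := by group

theorem le_normalizer_inf {K A B : Subgroup G} (hA : K ≤ Subgroup.normalizer (A : Set G))
    (hB : K ≤ Subgroup.normalizer (B : Set G)) :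
    K ≤ Subgroup.normalizer ((A ⊓ B : Subgroup G) : Set G) := by
  apply le_normalizer_of_conj_mem
  intro k hk n hn
  exact Subgroup.mem_inf.2 ⟨conj_mem_of_le_normalizer hA hk (Subgroup.mem_inf.1 hn).1,
    conj_mem_of_le_normalizer hB hk (Subgroup.mem_inf.1 hn).2⟩

theorem le_normalizer_sup {K A B : Subgroup G} (hA : K ≤ Subgroup.normalizer (A : Set G))
    (hB : K ≤ Subgroup.normalizer (B : Set G)) :
    K ≤ Subgroup.normalizer ((A ⊔ B : Subgroup G) : Set G) := by
  apply le_normalizer_of_conj_mem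
  intro k hk n hn
  have hmap : (A ⊔ B).map (MulAut.conj k).toMonoidHom ≤ A ⊔ B := by
    rw [Subgroup.map_sup]
    apply sup_le_sup
    · rintro _ ⟨a, ha, rfl⟩
      exact conj_mem_of_le_normalizer hA hk ha
    · rintro _ ⟨b, hb, rfl⟩
      exact conj_mem_of_le_normalizer hB hk hb
  exact hmap ⟨n, hn, rfl⟩

end General

section NilAxB

variable {G : Type*} [Group G] [Finite G]

/-- **Generalized `A × B` lemma**: a group `D` of order prime to that of the nilpotent group `F`,
normalizing `F` and centralizing a subgroup `M ≤ F` with `C_F(M) ≤ M`, centralizes `F`. -/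
theorem nil_axb (F M D : Subgroup G) (hF : Group.IsNilpotent ↥F) (hMF : M ≤ F)
    (hCM : F ⊓ Subgroup.centralizer (M : Set G) ≤ M)
    (hDF : D ≤ Subgroup.normalizer (F : Set G))
    (hDM : D ≤ Subgroup.centralizer (M : Set G))
    (hcop : (Nat.card D).Coprime (Nat.card F)) :
    D ≤ Subgroup.centralizer (F : Set G) := by
  let T : Set (Subgroup G) :=
    {M' | M ≤ M' ∧ M' ≤ F ∧ D ≤ Subgroup.centralizer (M' : Set G)}
  have hT : T.Nonempty := ⟨M, le_rfl, hMF, hDM⟩
  obtain ⟨M', ⟨hMM', hM'F, hDM'⟩, hmax⟩ := wellFounded_gt.has_min T hT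
  by_cases hM'top : M' = F
  · rw [← hM'top]; exact hDM'
  exfalso
  set N : Subgroup G := F ⊓ Subgroup.normalizer (M' : Set G) with hN
  have hM'N : M' ≤ N := le_inf hM'F Subgroup.le_normalizer
  have hlt : M' < N := by
    have hnc := Group.normalizerCondition_of_isNilpotent (G := ↥F)
    have h1 : M'.subgroupOf F < ⊤ := by
      rw [lt_top_iff_ne_top]
      intro h
      rw [Subgroup.subgroupOf_eq_top] at h
      exact hM'top (le_antisymm hM'F h)
    have h2 := hnc _ h1
    obtain ⟨x, hxN, hxM⟩ := SetLike.exists_of_lt h2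
    refine lt_of_le_of_ne hM'N ?_
    intro heq
    apply hxM
    rw [Subgroup.mem_subgroupOf, heq]
    refine Subgroup.mem_inf.2 ⟨x.2, ?_⟩
    rw [Subgroup.mem_normalizer_iff] at hxN ⊢
    intro g
    constructor
    · intro hg
      have := (hxN ⟨g, hM'F hg⟩).1 (by rw [Subgroup.mem_subgroupOf]; exact hg)
      rw [Subgroup.mem_subgroupOf] at this
      simpa using this
    · intro hg
      have hgF : g ∈ F := by
        have h3 : (x : G)⁻¹ * ((x : G) * g * (x : G)⁻¹) * (x : G) ∈ F :=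
          F.mul_mem (F.mul_mem (F.inv_mem x.2) (hM'F hg)) x.2
        have h4 : (x : G)⁻¹ * ((x : G) * g * (x : G)⁻¹) * (x : G) = g := by group
        rwa [h4] at h3
      have := (hxN ⟨g, hgF⟩).2 (by rw [Subgroup.mem_subgroupOf]; simpa using hg)
      rw [Subgroup.mem_subgroupOf] at this
      simpa using this
  -- `D` centralizes `N`
  have hDsymm : M' ≤ Subgroup.centralizer (D : Set G) := Subgroup.le_centralizer_iff.1 hDM'
  have hcomm : ⁅N, D⁆ ≤ M' := by
    rw [Subgroup.commutator_le]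
    intro n hn d hd
    have hnF : n ∈ F := (Subgroup.mem_inf.1 hn).1
    have hnN : n ∈ Subgroup.normalizer (M' : Set G) := (Subgroup.mem_inf.1 hn).2
    apply hMM'
    apply hCM
    refine Subgroup.mem_inf.2 ⟨?_, ?_⟩
    · -- in F
      have h1 : d * n⁻¹ * d⁻¹ ∈ F := conj_mem_of_le_normalizer hDF hd (F.inv_mem hnF)
      have h2 : ⁅n, d⁆ = n * (d * n⁻¹ * d⁻¹) := by rw [commutatorElement_def]; group
      rw [h2]
      exact F.mul_mem hnF h1
    · -- centralizes M (even M')
      rw [Subgroup.mem_centralizer_iff]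
      intro m hm
      have hmM' : m ∈ M' := hMM' hm
      have hm' : n⁻¹ * m * n ∈ M' := by
        have := (Subgroup.mem_normalizer_iff.1 (Subgroup.inv_mem _ hnN) m).1 hmM'
        simpa using this
      have e1 : d * m = m * d := by
        have := Subgroup.mem_centralizer_iff.1 (hDM' hd) m hmM'
        exact this.symm
      have e1' : d⁻¹ * m = m * d⁻¹ := by
        have : m = d * m * d⁻¹ := by rw [e1]; group
        calc d⁻¹ * m = d⁻¹ * (d * m * d⁻¹) := by rw [← this]
          _ = m * d⁻¹ := by group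
      have e2 : d * (n⁻¹ * m * n) = (n⁻¹ * m * n) * d := by
        have := Subgroup.mem_centralizer_iff.1 (hDM' hd) _ hm'
        exact this.symm
      rw [commutatorElement_def]
      calc m * (n * d * n⁻¹ * d⁻¹) = n * ((n⁻¹ * m * n) * d) * n⁻¹ * d⁻¹ := by group
        _ = n * (d * (n⁻¹ * m * n)) * n⁻¹ * d⁻¹ := by rw [e2]
        _ = n * d * n⁻¹ * (m * d⁻¹) := by group
        _ = n * d * n⁻¹ * (d⁻¹ * m) := by rw [e1']
        _ = n * d * n⁻¹ * d⁻¹ * m := by group
  have hcop' : (Nat.card D).Coprime (Nat.card N) :=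
    Nat.Coprime.coprime_dvd_right (Subgroup.card_dvd_of_le inf_le_left) hcop
  have hND : N ≤ Subgroup.centralizer (D : Set G) :=
    Cfsg.Agent.Lib.Helper32.le_centralizer_of_stable N M' D hcomm hDsymm hM'N hcop'
  have hNT : N ∈ T := ⟨hMM'.trans hM'N, inf_le_left, Subgroup.le_centralizer_iff.1 hND⟩
  exact hmax N hNT hlt

end NilAxB

section Zr

variable {G : Type*} [Group G]

/-- The `r`-part of `Z(F)` as a subgroup of the ambient group. -/
def zr (F : Subgroup G) (r : ℕ) : Subgroup G where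
  carrier := {x | x ∈ F ∧ x ∈ Subgroup.centralizer (F : Set G) ∧ ∃ k : ℕ, x ^ (r ^ k) = 1}
  mul_mem' := by
    rintro x y ⟨hxF, hxC, k, hk⟩ ⟨hyF, hyC, l, hl⟩
    refine ⟨F.mul_mem hxF hyF, Subgroup.mul_mem _ hxC hyC, k + l, ?_⟩
    have hc : Commute x y := (Subgroup.mem_centralizer_iff.1 hxC y hyF).symm
    rw [hc.mul_pow, pow_add, pow_mul, hk, one_pow, mul_comm (r ^ k) (r ^ l), pow_mul, hl, one_pow,
      one_mul]
  one_mem' := ⟨F.one_mem, Subgroup.one_mem _, 0, by simp⟩
  inv_mem' := by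
    rintro x ⟨hxF, hxC, k, hk⟩
    exact ⟨F.inv_mem hxF, Subgroup.inv_mem _ hxC, k, by rw [inv_pow, hk, inv_one]⟩

theorem mem_zr {F : Subgroup G} {r : ℕ} {x : G} :
    x ∈ zr F r ↔ x ∈ F ∧ x ∈ Subgroup.centralizer (F : Set G) ∧ ∃ k : ℕ, x ^ (r ^ k) = 1 :=
  Iff.rfl

theorem zr_le (F : Subgroup G) (r : ℕ) : zr F r ≤ F := fun _ hx => hx.1

theorem zr_le_centralizer (F : Subgroup G) (r : ℕ) :
    zr F r ≤ Subgroup.centralizer (F : Set G) := fun _ hx => hx.2.1

theorem zr_isPGroup (F : Subgroup G) (r : ℕ) : IsPGroup r (zr F r) := by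
  intro g
  obtain ⟨_, _, k, hk⟩ := g.2
  exact ⟨k, Subtype.ext (by simpa using hk)⟩

theorem le_normalizer_zr (F H : Subgroup G) (r : ℕ)
    (hHF : H ≤ Subgroup.normalizer (F : Set G)) :
    H ≤ Subgroup.normalizer (zr F r : Set G) := by
  apply le_normalizer_of_conj_mem
  rintro h hh x ⟨hxF, hxC, k, hk⟩
  refine ⟨conj_mem_of_le_normalizer hHF hh hxF, ?_, k, ?_⟩
  · rw [Subgroup.mem_centralizer_iff]
    intro f hf
    have hf' : h⁻¹ * f * h ∈ F := conj_mem_of_le_normalizer' hHF hh hf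
    have h1 := Subgroup.mem_centralizer_iff.1 hxC _ hf'
    calc f * (h * x * h⁻¹) = h * ((h⁻¹ * f * h) * x) * h⁻¹ := by group
      _ = h * (x * (h⁻¹ * f * h)) * h⁻¹ := by rw [h1]
      _ = h * x * h⁻¹ * f := by group
  · rw [conj_pow, hk, mul_one, mul_inv_cancel]

theorem zr_ne_bot [Finite G] (F : Subgroup G) (hF : Group.IsNilpotent ↥F) (r : ℕ)
    [hr : Fact r.Prime] (hdvd : r ∣ Nat.card F) : zr F r ≠ ⊥ := by
  classical
  let P : Sylow r ↥F := default
  haveI : Group.IsNilpotent ↥F := hF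
  have hPn : (P : Subgroup ↥F).Normal := inferInstance
  have hPne : (P : Subgroup ↥F) ≠ ⊥ := P.ne_bot_of_dvd_card hdvd
  obtain ⟨x, hxP, hxZ, hx1⟩ :=
    Cfsg.Agent.Lib.Helper69.exists_mem_center_of_normal (P : Subgroup ↥F) hPne
  obtain ⟨k, hk⟩ := P.isPGroup' ⟨x, hxP⟩
  have hk' : (x : G) ^ (r ^ k) = 1 := by
    have := congrArg (fun y : ↥(P : Subgroup ↥F) => ((y : ↥F) : G)) hk
    simpa using this
  have hmem : (x : G) ∈ zr F r := by
    refine ⟨x.2, ?_, k, hk'⟩
    rw [Subgroup.mem_centralizer_iff]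
    intro f hf
    have := Subgroup.mem_center_iff.1 hxZ ⟨f, hf⟩
    exact congrArg Subtype.val this
  intro hbot
  rw [hbot, Subgroup.mem_bot] at hmem
  exact hx1 (Subtype.ext hmem)

end Zr

section Thompson

open Cfsg

/-- A solvable group has trivial `p`-layer. -/
theorem pLayer_eq_bot_of_solvable {K : Type*} [Group K] (hs : Group.IsSolvable K) (p : ℕ) :
    Cfsg.pLayer p K = ⊥ := by
  unfold Cfsg.pLayer
  rw [sSup_eq_bot]
  intro L hL
  exfalso
  have hc := hL.2.1
  have hs' : Group.IsSolvable (K ⧸ Cfsg.pPrimeCore p K) :=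
    Group.isSolvable_of_surjective (QuotientGroup.mk'_surjective (Cfsg.pPrimeCore p K))
  exact Cfsg.Agent.Lib.Helper30.component_not_le_solvable hc
    (N := (⊤ : Subgroup (K ⧸ Cfsg.pPrimeCore p K))) inferInstance le_top

/-- **Thompson**: in a finite solvable group, a `p'`-subgroup `D` of `N_K(T)` (`T` a `p`-subgroup)
normalized by `N_K(T)` lies in `O_{p'}(K)`. -/
theorem le_pPrimeCore_of_normalizer {K : Type*} [Group K] [Finite K] (hs : Group.IsSolvable K)
    (p : ℕ) [Fact p.Prime] (T D : Subgroup K) (hT : IsPGroup p T)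
    (hD : (Nat.card D).Coprime p) (hDT : D ≤ Subgroup.normalizer (T : Set K))
    (hND : Subgroup.normalizer (T : Set K) ≤ Subgroup.normalizer (D : Set K)) :
    D ≤ Cfsg.pPrimeCore p K := by
  have h1 : (D.subgroupOf (Subgroup.normalizer (T : Set K))).Normal :=
    (Subgroup.normal_subgroupOf_iff_le_normalizer hDT).2 hND
  have h2 : Nat.card (D.subgroupOf (Subgroup.normalizer (T : Set K))) = Nat.card D :=
    Nat.card_congr (Subgroup.subgroupOfEquivOfLe hDT).toEquiv
  have h3 : D.subgroupOf (Subgroup.normalizer (T : Set K)) ≤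
      Cfsg.pPrimeCore p ↥(Subgroup.normalizer (T : Set K)) :=
    le_sSup ⟨h1, by rw [h2]; exact hD⟩
  have h4 := Subgroup.map_mono (f := (Subgroup.normalizer (T : Set K)).subtype) h3
  rw [Subgroup.map_subgroupOf_eq_of_le hDT] at h4
  exact h4.trans (Cfsg.Agent.Lib.Helper29.pLayer_normalizer_eq_bot p
    (pLayer_eq_bot_of_solvable hs p) T hT).2

variable {G : Type*} [Group G]

/-- `O_{p'}(R)` as a subgroup of the ambient group. -/
def ppc (p : ℕ) (R : Subgroup G) : Subgroup G := (Cfsg.pPrimeCore p ↥R).map R.subtype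

theorem ppc_le (p : ℕ) (R : Subgroup G) : ppc p R ≤ R := Subgroup.map_subtype_le _

instance pPrimeCore_normal' (p : ℕ) (K : Type*) [Group K] : (Cfsg.pPrimeCore p K).Normal :=
  Subgroup.sSup_normal _ (fun _ h => h.1)

theorem le_normalizer_ppc (p : ℕ) (R : Subgroup G) :
    R ≤ Subgroup.normalizer (ppc p R : Set G) := by
  have h := Subgroup.le_normalizer_map (H := Cfsg.pPrimeCore p ↥R) R.subtype
  rw [Subgroup.normalizer_eq_top_iff.2 (pPrimeCore_normal' p ↥R), ← MonoidHom.range_eq_map,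
    Subgroup.range_subtype] at h
  exact h

theorem card_ppc_coprime [Finite G] (p : ℕ) (R : Subgroup G) :
    (Nat.card (ppc p R)).Coprime p := by
  have h1 : Nat.card (ppc p R) = Nat.card (Cfsg.pPrimeCore p ↥R) :=
    Subgroup.card_map_of_injective R.subtype_injective
  rw [h1]
  exact Cfsg.Agent.Lib.Helper01.pPrimeCore_card_coprime p

/-- Ambient form of Thompson's lemma. -/
theorem le_ppc [Finite G] (R : Subgroup G) (hs : Group.IsSolvable ↥R) (p : ℕ) [Fact p.Prime]
    (T D : Subgroup G) (hTR : T ≤ R) (hDR : D ≤ R) (hT : IsPGroup p T)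
    (hD : (Nat.card D).Coprime p) (hDT : D ≤ Subgroup.normalizer (T : Set G))
    (hND : Subgroup.normalizer (T : Set G) ⊓ R ≤ Subgroup.normalizer (D : Set G)) :
    D ≤ ppc p R := by
  have hTn : Subgroup.normalizer ((T.subgroupOf R : Subgroup ↥R) : Set ↥R) =
      (Subgroup.normalizer (T : Set G)).subgroupOf R := by
    ext x
    rw [Subgroup.mem_subgroupOf, Subgroup.mem_normalizer_iff, Subgroup.mem_normalizer_iff]
    constructor
    · intro h g
      constructor
      · intro hg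
        have := (h ⟨g, hTR hg⟩).1 (by rw [Subgroup.mem_subgroupOf]; exact hg)
        rw [Subgroup.mem_subgroupOf] at this
        simpa using this
      · intro hg
        have hgR : g ∈ R := by
          have h3 : (x : G)⁻¹ * ((x : G) * g * (x : G)⁻¹) * (x : G) ∈ R :=
            R.mul_mem (R.mul_mem (R.inv_mem x.2) (hTR hg)) x.2
          have h4 : (x : G)⁻¹ * ((x : G) * g * (x : G)⁻¹) * (x : G) = g := by group
          rwa [h4] at h3
        have := (h ⟨g, hgR⟩).2 (by rw [Subgroup.mem_subgroupOf]; simpa using hg)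
        rw [Subgroup.mem_subgroupOf] at this
        simpa using this
    · intro h g
      rw [Subgroup.mem_subgroupOf, Subgroup.mem_subgroupOf]
      simpa using h (g : G)
  have hDn : Subgroup.normalizer (T : Set G) ⊓ R ≤ Subgroup.normalizer (D : Set G) := hND
  have key := le_pPrimeCore_of_normalizer (K := ↥R) hs p (T.subgroupOf R) (D.subgroupOf R)
    (hT.comap_of_injective R.subtype R.subtype_injective) ?_ ?_ ?_
  · have h4 := Subgroup.map_mono (f := R.subtype) key
    rwa [Subgroup.map_subgroupOf_eq_of_le hDR] at h4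
  · have : Nat.card (D.subgroupOf R) = Nat.card D :=
      Nat.card_congr (Subgroup.subgroupOfEquivOfLe hDR).toEquiv
    rw [this]; exact hD
  · rw [hTn]
    intro x hx
    rw [Subgroup.mem_subgroupOf] at hx ⊢
    exact hDT hx
  · rw [hTn]
    intro x hx
    rw [Subgroup.mem_subgroupOf] at hx
    have h5 : (x : G) ∈ Subgroup.normalizer (D : Set G) := hDn (Subgroup.mem_inf.2 ⟨hx, x.2⟩)
    rw [Subgroup.mem_normalizer_iff] at h5 ⊢
    intro g
    rw [Subgroup.mem_subgroupOf, Subgroup.mem_subgroupOf]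
    simpa using h5 (g : G)

end Thompson

section Abstract

open Cfsg Cfsg.Agent.Lib.Helper31

variable {G : Type*} [Group G] [Finite G]

/-- The abstract situation: `F` plays the role of `F(H)` for a maximal local subgroup `H`. -/
structure Setup (H F : Subgroup G) : Prop where
  le : F ≤ H
  norm : H ≤ Subgroup.normalizer (F : Set G)
  nil : Group.IsNilpotent ↥F
  cent : ∀ S : Subgroup G, S ≤ H ⊓ Subgroup.centralizer (F : Set G) →
    H ⊓ Subgroup.centralizer (F : Set G) ≤ Subgroup.normalizer (S : Set G) →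
    Group.IsSolvable ↥S → S ≤ F
  loc : ∀ r : ℕ, r.Prime → r ∣ Nat.card F → Subgroup.normalizer (zr F r : Set G) = H

variable {H F : Subgroup G}

theorem Setup.zr_le_of (_hS : Setup H F) {M : Subgroup G} (hM : M ≤ F)
    (hCM : F ⊓ Subgroup.centralizer (M : Set G) ≤ M) (r : ℕ) : zr F r ≤ M := by
  intro x hx
  apply hCM
  refine Subgroup.mem_inf.2 ⟨zr_le F r hx, ?_⟩
  exact Subgroup.centralizer_le hM (zr_le_centralizer F r hx)

/-- `Z(F)_r` acts fixed-point-freely on `M`-invariant subgroups of `R₁` of order prime to `#F`. -/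
theorem Setup.fixed_eq_bot (hS : Setup H F) {M : Subgroup G} (hM : M ≤ F)
    (hCM : F ⊓ Subgroup.centralizer (M : Set G) ≤ M) {R₁ : Subgroup G}
    (hR₁ : Group.IsSolvable ↥R₁)
    (hXR₁ : H ⊓ Subgroup.centralizer (F : Set G) ≤ Subgroup.normalizer (R₁ : Set G))
    {r : ℕ} (hr : r.Prime) (hrF : r ∣ Nat.card F) {Y : Subgroup G} (hYR : Y ≤ R₁)
    (hMY : M ≤ Subgroup.normalizer (Y : Set G)) (hcop : (Nat.card Y).Coprime (Nat.card F)) :
    Y ⊓ Subgroup.centralizer (zr F r : Set G) = ⊥ := by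
  have hloc := hS.loc r hr hrF
  set A := zr F r with hA
  set D : Subgroup G := Y ⊓ Subgroup.centralizer (A : Set G) with hD
  have hDY : D ≤ Y := inf_le_left
  have hYF : Y ⊓ F = ⊥ := Subgroup.inf_eq_bot_of_coprime hcop
  -- 1. `D ≤ H`
  have hDH : D ≤ H := by
    intro d hd
    rw [← hloc]
    have hdc : d ∈ Subgroup.centralizer (A : Set G) := (Subgroup.mem_inf.1 hd).2
    rw [Subgroup.mem_normalizer_iff]
    intro a
    have key : ∀ a ∈ A, d * a * d⁻¹ = a := by
      intro a ha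
      have := Subgroup.mem_centralizer_iff.1 hdc a ha
      rw [← this]; group
    constructor
    · intro ha
      rw [key a ha]; exact ha
    · intro ha
      have h1 := key _ ha
      have h2 : a = d * a * d⁻¹ := by
        have : d⁻¹ * (d * (d * a * d⁻¹) * d⁻¹) * d = d⁻¹ * (d * a * d⁻¹) * d := by rw [h1]
        have e1 : d⁻¹ * (d * (d * a * d⁻¹) * d⁻¹) * d = d * a * d⁻¹ := by group
        have e2 : d⁻¹ * (d * a * d⁻¹) * d = a := by group
        rw [e1, e2] at this
        exact this.symm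
      rw [h2]; exact ha
  -- 2. `M` normalizes `D`
  have hMH : M ≤ H := hM.trans hS.le
  have hMA : M ≤ Subgroup.normalizer (A : Set G) := by rw [hloc]; exact hMH
  have hMD : M ≤ Subgroup.normalizer (D : Set G) :=
    le_normalizer_inf hMY (le_normalizer_centralizer hMA)
  -- 3. `D` centralizes `M`
  have hDM : D ≤ Subgroup.centralizer (M : Set G) := by
    intro d hd
    rw [Subgroup.mem_centralizer_iff]
    intro m hm
    have h1 : m * d * m⁻¹ ∈ D := conj_mem_of_le_normalizer hMD hm hd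
    have h2 : m * d * m⁻¹ * d⁻¹ ∈ D := D.mul_mem h1 (D.inv_mem hd)
    have h3 : d * m⁻¹ * d⁻¹ ∈ F :=
      conj_mem_of_le_normalizer hS.norm (hDH hd) (F.inv_mem (hM hm))
    have h4 : m * d * m⁻¹ * d⁻¹ ∈ F := by
      have : m * d * m⁻¹ * d⁻¹ = m * (d * m⁻¹ * d⁻¹) := by group
      rw [this]; exact F.mul_mem (hM hm) h3
    have h5 : m * d * m⁻¹ * d⁻¹ ∈ Y ⊓ F := Subgroup.mem_inf.2 ⟨hDY h2, h4⟩
    rw [hYF, Subgroup.mem_bot] at h5
    calc m * d = (m * d * m⁻¹ * d⁻¹) * d * m := by group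
      _ = d * m := by rw [h5, one_mul]
  -- 4. `D` centralizes `F`
  have hcopD : (Nat.card D).Coprime (Nat.card F) :=
    Nat.Coprime.coprime_dvd_left (Subgroup.card_dvd_of_le hDY) hcop
  have hDF : D ≤ Subgroup.centralizer (F : Set G) :=
    nil_axb F M D hS.nil hM hCM (hDH.trans hS.norm) hDM hcopD
  -- 5. `D ≤ F`
  set X : Subgroup G := H ⊓ Subgroup.centralizer (F : Set G) with hX
  have hSsolv : Group.IsSolvable ↥(X ⊓ R₁) := by
    haveI := hR₁
    exact Group.isSolvable_of_isSolvable_injective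
      (f := Subgroup.inclusion (inf_le_right : X ⊓ R₁ ≤ R₁)) (Subgroup.inclusion_injective _)
  have hSF : X ⊓ R₁ ≤ F :=
    hS.cent (X ⊓ R₁) inf_le_left (le_normalizer_inf Subgroup.le_normalizer hXR₁) hSsolv
  have hDle : D ≤ X ⊓ R₁ := le_inf (le_inf hDH hDF) (hDY.trans hYR)
  have : D ≤ Y ⊓ F := le_inf hDY (hDle.trans hSF)
  rw [hYF] at this
  exact le_bot_iff.1 this

/-- `M`-invariant subgroups of `R₁` of order prime to `#F` lie in `O_{p'}(R₁)` for every prime
divisor `p` of `#F`. -/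
theorem Setup.le_ppc_of_inv (hS : Setup H F) (hF2 : 2 ≤ (Nat.card F).primeFactors.card)
    {M : Subgroup G} (hM : M ≤ F)
    (hCM : F ⊓ Subgroup.centralizer (M : Set G) ≤ M) {R₁ : Subgroup G}
    (hR₁ : Group.IsSolvable ↥R₁) (hMR₁ : M ≤ R₁)
    (hXR₁ : H ⊓ Subgroup.centralizer (F : Set G) ≤ Subgroup.normalizer (R₁ : Set G))
    {p : ℕ} (hp : p.Prime) (hpF : p ∣ Nat.card F) {Y : Subgroup G} (hYR : Y ≤ R₁)
    (hMY : M ≤ Subgroup.normalizer (Y : Set G)) (hcop : (Nat.card Y).Coprime (Nat.card F)) :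
    Y ≤ ppc p R₁ := by
  haveI : Fact p.Prime := ⟨hp⟩
  have hF0 : Nat.card F ≠ 0 := Nat.card_pos.ne'
  have hpm : p ∈ (Nat.card F).primeFactors := Nat.mem_primeFactors.2 ⟨hp, hpF, hF0⟩
  obtain ⟨r, hrm, hrp⟩ := Finset.exists_mem_ne (by omega : 1 < (Nat.card F).primeFactors.card) p
  have hr : r.Prime := (Nat.mem_primeFactors.1 hrm).1
  have hrF : r ∣ Nat.card F := (Nat.mem_primeFactors.1 hrm).2.1
  haveI : Fact r.Prime := ⟨hr⟩
  have hAr : zr F r ≤ M := hS.zr_le_of hM hCM r
  have hAp : zr F p ≤ M := hS.zr_le_of hM hCM p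
  -- `A_r ≤ O_{p'}(R₁)`
  have h1 : zr F r ≤ ppc p R₁ := by
    refine le_ppc R₁ hR₁ p (zr F p) (zr F r) (hAp.trans hMR₁) (hAr.trans hMR₁)
      (zr_isPGroup F p) ?_ ?_ ?_
    · obtain ⟨k, hk⟩ := IsPGroup.iff_card.1 (zr_isPGroup F r)
      rw [hk]
      exact Nat.Coprime.pow_left k ((Nat.coprime_primes hr hp).2 hrp)
    · rw [hS.loc p hp hpF]
      exact (zr_le F r).trans hS.le
    · rw [hS.loc p hp hpF, ← hS.loc r hr hrF]
      exact inf_le_left
  -- decomposition
  have hsolv : Group.IsSolvable ↥(zr F r) := by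
    haveI : Group.IsNilpotent ↥(zr F r) := (zr_isPGroup F r).isNilpotent
    infer_instance
  have hcopr : (Nat.card Y).Coprime (Nat.card (zr F r)) :=
    Nat.Coprime.coprime_dvd_right (Subgroup.card_dvd_of_le (zr_le F r)) hcop
  have h2 := Cfsg.Agent.Lib.Helper32.le_centralizer_sup_commutator (R := Y) (B := zr F r)
    (hAr.trans hMY) hcopr (Or.inr hsolv)
  rw [hS.fixed_eq_bot hM hCM hR₁ hXR₁ hr hrF hYR hMY hcop, bot_sup_eq] at h2
  refine h2.trans ?_
  rw [Subgroup.commutator_le]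
  intro y hy a ha
  have hyN : y ∈ Subgroup.normalizer (ppc p R₁ : Set G) := le_normalizer_ppc p R₁ (hYR hy)
  have h3 : y * a * y⁻¹ ∈ ppc p R₁ := (Subgroup.mem_normalizer_iff.1 hyN a).1 (h1 ha)
  rw [commutatorElement_def]
  exact (ppc p R₁).mul_mem h3 ((ppc p R₁).inv_mem (h1 ha))

end Abstract

section AbstractMain

open Cfsg Cfsg.Agent.Lib.Helper31
open scoped Pointwise

variable {G : Type*} [Group G] [Finite G]

/-- `N_G(R)` normalizes `O_π(R)`. -/
theorem normalizer_le_normalizer_piCoreOf (π : Set ℕ) (R : Subgroup G) :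
    Subgroup.normalizer (R : Set G) ≤ Subgroup.normalizer (piCoreOf π R : Set G) := by
  apply le_normalizer_of_conj_mem
  intro k hk n hn
  set K := piCoreOf π R with hK
  have hKR : K ≤ R := piCoreOf_le π R
  have hRK : R ≤ Subgroup.normalizer (K : Set G) := le_normalizer_piCoreOf π R
  let Y : Subgroup G := K.map (MulAut.conj k).toMonoidHom
  have hYR : Y ≤ R := by
    rintro _ ⟨a, ha, rfl⟩
    exact (Subgroup.mem_normalizer_iff.1 hk a).1 (hKR ha)
  have hRY : R ≤ Subgroup.normalizer (Y : Set G) := by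
    apply le_normalizer_of_conj_mem
    rintro x hx _ ⟨a, ha, rfl⟩
    have hx' : k⁻¹ * x * k ∈ R := by
      have := (Subgroup.mem_normalizer_iff.1 (Subgroup.inv_mem _ hk) x).1 hx
      simpa using this
    have h1 : (k⁻¹ * x * k) * a * (k⁻¹ * x * k)⁻¹ ∈ K := conj_mem_of_le_normalizer hRK hx' ha
    refine ⟨(k⁻¹ * x * k) * a * (k⁻¹ * x * k)⁻¹, h1, ?_⟩
    simp only [MulEquiv.coe_toMonoidHom, MulAut.conj_apply]
    group
  have hcard : Nat.card Y = Nat.card K :=
    Subgroup.card_map_of_injective (MulAut.conj k).injective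
  have hYπ : ∀ p : ℕ, p.Prime → p ∣ Nat.card Y → p ∈ π := by
    rw [hcard]; exact piCoreOf_pi π R
  have := le_piCoreOf π R Y hYR hRY hYπ
  exact this ⟨n, hn, rfl⟩

variable {H F : Subgroup G}

/-- **Bender's lemma**, abstract form. -/
theorem Setup.main (hS : Setup H F) (hF2 : 2 ≤ (Nat.card F).primeFactors.card)
    (M : Subgroup G) (hM : M ≤ F)
    (hCM : F ⊓ Subgroup.centralizer (M : Set G) ≤ M) (R : Subgroup G)
    (hR : Group.IsSolvable ↥R) (hMR : M ≤ Subgroup.normalizer (R : Set G))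
    (hXR : H ⊓ Subgroup.centralizer (F : Set G) ≤ Subgroup.normalizer (R : Set G))
    (q : ℕ) [hq : Fact q.Prime] (hqF : ¬ q ∣ Nat.card F) :
    ∃! Q : Subgroup G, Q ∈ maxInvSubgroups R M {q} ∧
      (∀ Q' : Subgroup G, Q' ∈ maxInvSubgroups R M {q} →
        Q' ≤ piCoreOf (primesNotDvd (Nat.card F)) R ∧
        ¬ q ∣ Q'.relIndex (piCoreOf (primesNotDvd (Nat.card F)) R)) := by
  classical
  set π' := primesNotDvd (Nat.card F) with hπ'
  set K := piCoreOf π' R with hK
  -- the solvable group `R₁ = R M`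
  set R₁ : Subgroup G := R ⊔ M with hR₁def
  have hMsolv : Group.IsSolvable ↥M := by
    haveI : Group.IsNilpotent ↥F := hS.nil
    haveI : Group.IsSolvable ↥F := inferInstance
    exact Group.isSolvable_of_isSolvable_injective
      (f := Subgroup.inclusion hM) (Subgroup.inclusion_injective _)
  have hR₁ : Group.IsSolvable ↥R₁ :=
    Cfsg.Agent.Lib.Helper29.sup_isSolvable_of_le_normalizer R M hMR hR hMsolv
  have hRR₁ : R ≤ R₁ := le_sup_left
  have hMR₁ : M ≤ R₁ := le_sup_right
  have hXM : H ⊓ Subgroup.centralizer (F : Set G) ≤ Subgroup.normalizer (M : Set G) := by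
    intro x hx
    have hxc : x ∈ Subgroup.centralizer (M : Set G) :=
      Subgroup.centralizer_le hM (Subgroup.mem_inf.1 hx).2
    rw [Subgroup.mem_normalizer_iff]
    intro m
    have key : ∀ m ∈ M, x * m * x⁻¹ = m := by
      intro m hm
      have := Subgroup.mem_centralizer_iff.1 hxc m hm
      rw [← this]; group
    constructor
    · intro hm; rw [key m hm]; exact hm
    · intro hm
      have h1 := key _ hm
      have e1 : x⁻¹ * (x * (x * m * x⁻¹) * x⁻¹) * x = x * m * x⁻¹ := by group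
      have e2 : x⁻¹ * (x * m * x⁻¹) * x = m := by group
      have : x * m * x⁻¹ = m := by
        have h2 : x⁻¹ * (x * (x * m * x⁻¹) * x⁻¹) * x = x⁻¹ * (x * m * x⁻¹) * x := by rw [h1]
        rw [e1, e2] at h2
        exact h2
      rw [← this]; exact hm
  have hXR₁ : H ⊓ Subgroup.centralizer (F : Set G) ≤ Subgroup.normalizer (R₁ : Set G) :=
    le_normalizer_sup hXR hXM
  -- E: invariant coprime subgroups of `R` lie in `K`
  have hE : ∀ Y : Subgroup G, Y ≤ R → M ≤ Subgroup.normalizer (Y : Set G) →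
      (Nat.card Y).Coprime (Nat.card F) → Y ≤ K := by
    intro Y hYR hMY hcop
    let K' : Subgroup G := R ⊓ ⨅ p ∈ (Nat.card F).primeFactors, ppc p R₁
    have hYK' : Y ≤ K' := by
      refine le_inf hYR ?_
      refine le_iInf₂ ?_
      intro p hp
      exact hS.le_ppc_of_inv hF2 hM hCM hR₁ hMR₁ hXR₁ (Nat.mem_primeFactors.1 hp).1
        (Nat.mem_primeFactors.1 hp).2.1 (hYR.trans hRR₁) hMY hcop
    refine hYK'.trans ?_
    refine le_piCoreOf π' R K' inf_le_left ?_ ?_
    · apply le_normalizer_of_conj_mem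
      intro x hx n hn
      obtain ⟨hnR, hn2⟩ := Subgroup.mem_inf.1 hn
      refine Subgroup.mem_inf.2 ⟨R.mul_mem (R.mul_mem hx hnR) (R.inv_mem hx), ?_⟩
      simp only [Subgroup.mem_iInf] at hn2 ⊢
      intro p hp
      exact conj_mem_of_le_normalizer (le_normalizer_ppc p R₁) (hRR₁ hx) (hn2 p hp)
    · intro p hp hpK'
      refine ⟨hp, fun hpF => ?_⟩
      have hpm : p ∈ (Nat.card F).primeFactors :=
        Nat.mem_primeFactors.2 ⟨hp, hpF, Nat.card_pos.ne'⟩
      have hle : K' ≤ ppc p R₁ := inf_le_right.trans (iInf₂_le p hpm)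
      have h1 : p ∣ Nat.card (ppc p R₁) := dvd_trans hpK' (Subgroup.card_dvd_of_le hle)
      have h2 := card_ppc_coprime p R₁
      exact (Nat.Prime.coprime_iff_not_dvd hp).1 h2.symm h1
  -- facts on `K`
  have hKR : K ≤ R := piCoreOf_le π' R
  have hMK : M ≤ Subgroup.normalizer (K : Set G) :=
    hMR.trans (normalizer_le_normalizer_piCoreOf π' R)
  have hKcop : (Nat.card K).Coprime (Nat.card F) :=
    forall_prime_mem_primesNotDvd_iff.1 (piCoreOf_pi π' R)
  have hF0 : Nat.card F ≠ 0 := Nat.card_pos.ne'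
  -- a prime divisor `r` of `#F`
  have hne : (Nat.card F).primeFactors.Nonempty := by
    rw [← Finset.card_pos]; omega
  obtain ⟨r, hrm⟩ := hne
  have hr : r.Prime := (Nat.mem_primeFactors.1 hrm).1
  have hrF : r ∣ Nat.card F := (Nat.mem_primeFactors.1 hrm).2.1
  have hKfix : K ⊓ Subgroup.centralizer (M : Set G) = ⊥ := by
    have h1 := hS.fixed_eq_bot hM hCM hR₁ hXR₁ hr hrF (hKR.trans hRR₁) hMK hKcop
    have h2 : Subgroup.centralizer (M : Set G) ≤ Subgroup.centralizer (zr F r : Set G) :=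
      Subgroup.centralizer_le (hS.zr_le_of hM hCM r)
    exact le_bot_iff.1 (h1 ▸ inf_le_inf_left K h2)
  have hcopMK : (Nat.card M).Coprime (Nat.card K) :=
    (Nat.Coprime.coprime_dvd_right (Subgroup.card_dvd_of_le hM) hKcop).symm
  -- the invariant Sylow subgroup
  obtain ⟨P₀, -, hP₀M⟩ := Cfsg.Agent.S0025.result M K hMK hcopMK (Or.inl hMsolv) q ⊥ bot_le
    IsPGroup.of_bot (by intro m _; rw [Subgroup.mem_normalizer_iff]; intro n; simp)
  set Q₀ : Subgroup G := (P₀ : Subgroup K).map K.subtype with hQ₀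
  have hQ₀K : Q₀ ≤ K := Subgroup.map_subtype_le _
  have hQ₀q : IsPGroup q Q₀ := P₀.isPGroup'.map _
  -- every invariant `q`-subgroup of `R` lies in `Q₀`
  have hall : ∀ U : Subgroup G, U ≤ R → IsPGroup q U → M ≤ Subgroup.normalizer (U : Set G) →
      U ≤ Q₀ := by
    intro U hUR hUq hMU
    have hUK : U ≤ K := hE U hUR hMU (coprime_of_isPGroup q U F hUq hqF)
    obtain ⟨P, hUP, hPM⟩ := Cfsg.Agent.S0025.result M K hMK hcopMK (Or.inl hMsolv) q U hUK hUq hMU
    obtain ⟨c, hcM, hc⟩ := Cfsg.Agent.S0024.result M K hMK hcopMK (Or.inl hMsolv) q P₀ P hP₀M hPM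
    have hc1 : (c : G) ∈ K ⊓ Subgroup.centralizer (M : Set G) := Subgroup.mem_inf.2 ⟨c.2, hcM⟩
    rw [hKfix, Subgroup.mem_bot] at hc1
    have hc1' : c = 1 := Subtype.ext hc1
    rw [hc1', map_one, one_smul] at hc
    rw [hQ₀, hc]
    exact hUP
  have hQ₀inv : Q₀ ∈ invSubgroups R M {q} :=
    ⟨hQ₀K.trans hKR, forall_prime_of_isPGroup q Q₀ hQ₀q, hP₀M⟩
  have hQ₀max : Q₀ ∈ maxInvSubgroups R M {q} := by
    refine ⟨hQ₀inv, ?_⟩
    intro U hU hle
    have hUq : IsPGroup q U := isPGroup_of_forall_prime q U hU.2.1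
    exact le_antisymm (hall U hU.1 hUq hU.2.2) hle
  have huniq : ∀ Q' : Subgroup G, Q' ∈ maxInvSubgroups R M {q} → Q' = Q₀ := by
    intro Q' hQ'
    have hQ'q : IsPGroup q Q' := isPGroup_of_forall_prime q Q' hQ'.1.2.1
    have hle : Q' ≤ Q₀ := hall Q' hQ'.1.1 hQ'q hQ'.1.2.2
    exact (hQ'.2 Q₀ hQ₀inv hle).symm
  refine ⟨Q₀, ⟨hQ₀max, ?_⟩, fun Q hQ => huniq Q hQ.1⟩
  intro Q' hQ'
  rw [huniq Q' hQ']
  refine ⟨hQ₀K, ?_⟩
  have h1 : Q₀.subgroupOf K = (P₀ : Subgroup K) := by
    rw [hQ₀, Subgroup.subgroupOf, Subgroup.comap_map_eq_self_of_injective K.subtype_injective]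
  rw [Subgroup.relIndex, h1]
  exact P₀.not_dvd_index

end AbstractMain

section Concrete

open Cfsg Cfsg.Agent.Lib.Helper31

variable {G : Type*} [Group G] [Finite G]

instance fittingSubgroup_normal' (K : Type*) [Group K] : (Cfsg.fittingSubgroup K).Normal :=
  Subgroup.sSup_normal _ (fun _ h => h.1)

theorem fittingOf_le' (H : Subgroup G) : fittingOf H ≤ H := Subgroup.map_subtype_le _

theorem le_normalizer_fittingOf (H : Subgroup G) :
    H ≤ Subgroup.normalizer (fittingOf H : Set G) := by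
  have h := Subgroup.le_normalizer_map (H := Cfsg.fittingSubgroup ↥H) H.subtype
  rw [Subgroup.normalizer_eq_top_iff.2 (fittingSubgroup_normal' ↥H), ← MonoidHom.range_eq_map,
    Subgroup.range_subtype] at h
  exact h

theorem fittingOf_isNilpotent (H : Subgroup G) : Group.IsNilpotent ↥(fittingOf H) := by
  haveI : Group.IsNilpotent ↥(Cfsg.fittingSubgroup ↥H) :=
    Cfsg.Agent.Lib.Helper01.fitting_isNilpotent
  exact Group.nilpotent_of_mulEquiv
    ((Cfsg.fittingSubgroup ↥H).equivMapOfInjective H.subtype H.subtype_injective)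

theorem mem_fittingOf_iff {H : Subgroup G} (x : ↥H) :
    (x : G) ∈ fittingOf H ↔ x ∈ Cfsg.fittingSubgroup ↥H := by
  constructor
  · rintro ⟨y, hy, hxy⟩
    have : y = x := Subtype.ext hxy
    rwa [← this]
  · intro hx
    exact ⟨x, hx, rfl⟩

/-- The maximal local subgroup `H` with `F = F(H)` satisfies the abstract hypotheses. -/
theorem setup_of_maxLocal (H : Subgroup G)
    (hHmax : ∀ L : Subgroup G, Cfsg.IsLocalSubgroup L → H ≤ L → L = H) :
    Setup H (fittingOf H) where
  le := fittingOf_le' H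
  norm := le_normalizer_fittingOf H
  nil := fittingOf_isNilpotent H
  cent := by
    intro S hSX hXS hSsolv
    have hSH : S ≤ H := hSX.trans inf_le_left
    have h1 : S.subgroupOf H ≤ Cfsg.fittingSubgroup ↥H := by
      refine Cfsg.Agent.Lib.Helper28.solvable_le_fitting_of_le_centralizer (S.subgroupOf H) ?_ ?_ ?_
      · intro x hx
        rw [Subgroup.mem_subgroupOf] at hx
        have hxc : (x : G) ∈ Subgroup.centralizer (fittingOf H : Set G) :=
          (Subgroup.mem_inf.1 (hSX hx)).2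
        rw [Subgroup.mem_centralizer_iff] at hxc ⊢
        intro f hf
        exact Subtype.ext (hxc (f : G) ((mem_fittingOf_iff f).2 hf))
      · intro y hy
        have hyX : (y : G) ∈ H ⊓ Subgroup.centralizer (fittingOf H : Set G) := by
          refine Subgroup.mem_inf.2 ⟨y.2, ?_⟩
          rw [Subgroup.mem_centralizer_iff] at hy ⊢
          rintro _ ⟨f, hf, rfl⟩
          exact congrArg Subtype.val (hy f hf)
        have hyN := hXS hyX
        rw [Subgroup.mem_normalizer_iff] at hyN ⊢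
        intro g
        rw [Subgroup.mem_subgroupOf, Subgroup.mem_subgroupOf]
        simpa using hyN (g : G)
      · haveI := hSsolv
        exact Group.isSolvable_of_isSolvable_injective
          (f := (Subgroup.subgroupOfEquivOfLe hSH).toMonoidHom)
          (Subgroup.subgroupOfEquivOfLe hSH).injective
    intro s hs
    have := h1 (show (⟨s, hSH hs⟩ : ↥H) ∈ S.subgroupOf H from by
      rw [Subgroup.mem_subgroupOf]; exact hs)
    exact (mem_fittingOf_iff (⟨s, hSH hs⟩ : ↥H)).2 this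
  loc := by
    intro r hr hrF
    haveI : Fact r.Prime := ⟨hr⟩
    apply hHmax
    · exact ⟨r, zr (fittingOf H) r, hr, zr_isPGroup _ r,
        zr_ne_bot _ (fittingOf_isNilpotent H) r hrF, rfl⟩
    · exact le_normalizer_zr _ H r (le_normalizer_fittingOf H)

/-- **Bender's lemma** (statement S1481). -/
theorem bender_main (H : Subgroup G)
    (hHmax : ∀ L : Subgroup G, Cfsg.IsLocalSubgroup L → H ≤ L → L = H)
    (hF2 : 2 ≤ (Nat.card (Cfsg.fittingOf H)).primeFactors.card)
    (M : Subgroup G) (hM : M ≤ Cfsg.fittingOf H)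
    (hCM : Cfsg.fittingOf H ⊓ Subgroup.centralizer (M : Set G) ≤ M)
    (R : Subgroup G) (hR : Group.IsSolvable R) (hMR : M ≤ Subgroup.normalizer (R : Set G))
    (hXR : H ⊓ Subgroup.centralizer (Cfsg.fittingOf H : Set G) ≤
      Subgroup.normalizer (R : Set G))
    (q : ℕ) [Fact q.Prime] (hq : ¬ q ∣ Nat.card (Cfsg.fittingOf H)) :
    ∃! Q : Subgroup G, Q ∈ Cfsg.maxInvSubgroups R M {q} ∧
      (∀ Q' : Subgroup G, Q' ∈ Cfsg.maxInvSubgroups R M {q} →
        Q' ≤ Cfsg.piCoreOf (Cfsg.primesNotDvd (Nat.card (Cfsg.fittingOf H))) R ∧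
        ¬ q ∣ Q'.relIndex (Cfsg.piCoreOf (Cfsg.primesNotDvd (Nat.card (Cfsg.fittingOf H))) R)) :=
  (setup_of_maxLocal H hHmax).main hF2 M hM hCM R hR hMR hXR q hq

end Concrete

end Cfsg.Agent.Lib.Helper31.BenderFit
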