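import Cfsg.Agent.Lib.Helper31.Transitivity

set_option autoImplicit false

/-! Bender–Glauberman §7: helpers for Theorems 7.3 and 7.4 (rank conditions on `Z(A)`). -/

namespace Cfsg.Agent.Lib.Helper31

open scoped Pointwise
open Cfsg

theorem exists_elemAb_of_not_rankLE {G : Type*} [Group G] (Z : Subgroup G) (k : ℕ)
    (h : ¬ RankLE k ↥Z) :
    ∃ (p : ℕ) (E : Subgroup G), p.Prime ∧ E ≤ Z ∧ IsElementaryAbelian p E ∧
      p ^ k < Nat.card E := by
  unfold RankLE PRankLE at h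
  push Not at h
  obtain ⟨p, hp, E₀, hcomm, hexp, hcard⟩ := h
  refine ⟨p, E₀.map Z.subtype, hp, Subgroup.map_subtype_le _, ⟨?_, ?_⟩, ?_⟩
  · refine ⟨⟨?_⟩⟩
    rintro ⟨x, hx⟩ ⟨y, hy⟩
    obtain ⟨x', hx', rfl⟩ := hx
    obtain ⟨y', hy', rfl⟩ := hy
    apply Subtype.ext
    have h1 := mul_comm' (⟨x', hx'⟩ : E₀) ⟨y', hy'⟩
    have h2 := congrArg (fun z : E₀ => ((z : Z) : G)) h1
    simpa using h2
  · rintro a ⟨a', ha', rfl⟩
    have h1 := hexp a' ha'
    have h2 := congrArg (fun z : Z => (z : G)) h1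
    simpa using h2
  · rwa [Subgroup.card_map_of_injective Z.subtype_injective]

theorem not_isCyclic_of_exp {G : Type*} [Group G] [Finite G] (p : ℕ) (hp : p.Prime)
    (E : Subgroup G) (hexp : ∀ a ∈ E, a ^ p = 1) (hcard : p < Nat.card E) : ¬ IsCyclic E := by
  intro hc
  obtain ⟨g, hg⟩ := IsCyclic.exists_generator (α := E)
  have h1 : orderOf g = Nat.card E := orderOf_eq_card_of_forall_mem_zpowers hg
  have h2 : g ^ p = 1 := Subtype.ext (by simpa using hexp g g.2)
  have h3 := Nat.le_of_dvd hp.pos (orderOf_dvd_of_pow_eq_one h2)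
  omega

theorem bot_mem_invSubgroups {G : Type*} [Group G] (A : Subgroup G) (π : Set ℕ) :
    (⊥ : Subgroup G) ∈ invSubgroups ⊤ A π := by
  refine ⟨le_top, ?_, ?_⟩
  · intro p hp hpd
    rw [Subgroup.card_bot] at hpd
    exact absurd (Nat.dvd_one.1 hpd) hp.ne_one
  · intro a _
    rw [Cfsg.Agent.Lib.Helper01.mem_normalizer_iff_conj_smul, Subgroup.smul_bot]

theorem le_normalizer_of_le_centralizer {G : Type*} [Group G] (A Y : Subgroup G)
    (h : Y ≤ Subgroup.centralizer (A : Set G)) : A ≤ Subgroup.normalizer (Y : Set G) :=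
  (Subgroup.le_centralizer_iff.1 h).trans (Subgroup.centralizer_le_normalizer _)

/-- If `a ∈ Z(A)#` has nontrivial centralizer in both `Q₁` and `Q₂`, they are `K`-conjugate. -/
theorem conj_of_common_elt {G : Type*} [Group G] [Finite G] (hG : IsMinimalSimple G)
    {A : Subgroup G} (hA : TransitivityHypothesis A) (q : ℕ) [Fact q.Prime]
    (hqA : ¬ q ∣ Nat.card A) (Q₁ Q₂ : Subgroup G) (h₁ : Q₁ ∈ maxInvSubgroups ⊤ A {q})
    (h₂ : Q₂ ∈ maxInvSubgroups ⊤ A {q}) (a : G) (haC : a ∈ Subgroup.centralizer (A : Set G))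
    (ha1 : a ≠ 1) (hc₁ : Q₁ ⊓ Subgroup.centralizer {a} ≠ ⊥)
    (hc₂ : Q₂ ⊓ Subgroup.centralizer {a} ≠ ⊥) :
    ∃ k ∈ KK A, Q₂ = MulAut.conj k • Q₁ := by
  have hS : IsSimpleGroup G := hG.1
  have hH : Subgroup.centralizer ({a} : Set G) ≠ ⊤ := by
    intro h
    have hac : a ∈ Subgroup.center G := by
      rw [Subgroup.mem_center_iff]
      intro g
      have hg : g ∈ Subgroup.centralizer ({a} : Set G) := h ▸ Subgroup.mem_top g
      exact (Subgroup.mem_centralizer_iff.1 hg a rfl).symm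
    rcases (inferInstance : (Subgroup.center G).Normal).eq_bot_or_eq_top with h0 | h0
    · rw [h0, Subgroup.mem_bot] at hac
      exact ha1 hac
    · apply hG.2.1
      refine ⟨⟨fun x y => ?_⟩⟩
      have hx : x ∈ Subgroup.center G := h0 ▸ Subgroup.mem_top x
      exact (Subgroup.mem_center_iff.1 hx y).symm
  have hAH : A ≤ Subgroup.centralizer ({a} : Set G) := by
    intro x hx
    rw [Subgroup.mem_centralizer_iff]
    intro y hy
    rw [Set.mem_singleton_iff] at hy
    subst hy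
    exact (Subgroup.mem_centralizer_iff.1 haC x hx).symm
  exact transitivity_of_meet hG hA q hqA Q₁ Q₂ h₁ h₂ _ hH hAH (by rwa [inf_comm])
    (by rwa [inf_comm])

end Cfsg.Agent.Lib.Helper31
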