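import Mathlib
import Cfsg.Prelude.Def_Local
import Cfsg.Agent.S0026
import Cfsg.Agent.S0028
import Cfsg.Agent.Lib.Helper31.SemiPQ
import Cfsg.Agent.Lib.Helper40.Cores

set_option autoImplicit false

/-! The key lemma behind the Thompson transitivity theorem in `p`-constrained groups:
if `H` is `p`-constrained, `A` is a `p`-subgroup containing every `p`-element of `C_H(A)` and `Y`
is an `A`-invariant `p'`-subgroup, then `Y ≤ O_{p'}(H)` (for `p = 2`: Sylow class at most 2). -/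

namespace Cfsg.Agent.Lib.Helper31

open scoped Pointwise commutatorElement
open Cfsg

/-! ### The class-2 variant of the semidirect `P × Q` lemma -/

/-- The elements normalizing `T` and acting trivially on `T` modulo `T₀`. -/
def stabMod {G : Type*} [Group G] (T T₀ : Subgroup G) : Subgroup G where
  carrier := {g | g ∈ Subgroup.normalizer (T : Set G) ∧ ∀ t ∈ T, t⁻¹ * (g * t * g⁻¹) ∈ T₀}
  one_mem' := by
    refine ⟨Subgroup.one_mem _, ?_⟩
    intro t _
    have : t⁻¹ * (1 * t * (1 : G)⁻¹) = 1 := by group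
    rw [this]; exact T₀.one_mem
  mul_mem' := by
    rintro g h ⟨hg, hg'⟩ ⟨hh, hh'⟩
    refine ⟨Subgroup.mul_mem _ hg hh, ?_⟩
    intro t ht
    have ht' : h * t * h⁻¹ ∈ T := (Subgroup.mem_normalizer_iff.1 hh t).1 ht
    have h1 := hh' t ht
    have h2 := hg' _ ht'
    have : t⁻¹ * (g * h * t * (g * h)⁻¹) =
        (t⁻¹ * (h * t * h⁻¹)) * ((h * t * h⁻¹)⁻¹ * (g * (h * t * h⁻¹) * g⁻¹)) := by group
    rw [this]
    exact T₀.mul_mem h1 h2
  inv_mem' := by
    rintro g ⟨hg, hg'⟩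
    refine ⟨Subgroup.inv_mem _ hg, ?_⟩
    intro t ht
    have ht' : g⁻¹ * t * g⁻¹⁻¹ ∈ T :=
      (Subgroup.mem_normalizer_iff.1 (Subgroup.inv_mem _ hg) t).1 ht
    have h1 := hg' _ ht'
    have : t⁻¹ * (g⁻¹ * t * g⁻¹⁻¹) =
        ((g⁻¹ * t * g⁻¹⁻¹)⁻¹ * (g * (g⁻¹ * t * g⁻¹⁻¹) * g⁻¹))⁻¹ := by group
    rw [this]
    exact T₀.inv_mem h1

theorem mem_stabMod {G : Type*} [Group G] {T T₀ : Subgroup G} {g : G} :
    g ∈ stabMod T T₀ ↔ g ∈ Subgroup.normalizer (T : Set G) ∧ ∀ t ∈ T, t⁻¹ * (g * t * g⁻¹) ∈ T₀ :=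
  Iff.rfl

/-- conjugating `stabMod` by an element normalizing `T` and centralizing `T₀` -/
theorem conj_mem_stabMod {G : Type*} [Group G] {T T₀ : Subgroup G} {g y : G}
    (hg : g ∈ stabMod T T₀) (hyT : y ∈ Subgroup.normalizer (T : Set G))
    (hy0 : y ∈ Subgroup.centralizer (T₀ : Set G)) : y * g * y⁻¹ ∈ stabMod T T₀ := by
  obtain ⟨hg1, hg2⟩ := hg
  refine ⟨Subgroup.mul_mem _ (Subgroup.mul_mem _ hyT hg1) (Subgroup.inv_mem _ hyT), ?_⟩
  intro t ht
  have ht' : y⁻¹ * t * y⁻¹⁻¹ ∈ T :=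
    (Subgroup.mem_normalizer_iff.1 (Subgroup.inv_mem _ hyT) t).1 ht
  have h1 := hg2 _ ht'
  have h2 : y * ((y⁻¹ * t * y⁻¹⁻¹)⁻¹ * (g * (y⁻¹ * t * y⁻¹⁻¹) * g⁻¹)) =
      ((y⁻¹ * t * y⁻¹⁻¹)⁻¹ * (g * (y⁻¹ * t * y⁻¹⁻¹) * g⁻¹)) * y :=
    (Subgroup.mem_centralizer_iff.1 hy0 _ h1).symm
  have : t⁻¹ * (y * g * y⁻¹ * t * (y * g * y⁻¹)⁻¹) =
      y * ((y⁻¹ * t * y⁻¹⁻¹)⁻¹ * (g * (y⁻¹ * t * y⁻¹⁻¹) * g⁻¹)) * y⁻¹ := by group
  rw [this, h2]
  have : (y⁻¹ * t * y⁻¹⁻¹)⁻¹ * (g * (y⁻¹ * t * y⁻¹⁻¹) * g⁻¹) * y * y⁻¹ =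
      (y⁻¹ * t * y⁻¹⁻¹)⁻¹ * (g * (y⁻¹ * t * y⁻¹⁻¹) * g⁻¹) := by group
  rw [this]
  exact h1

/-- A `p'`-element stabilizing the chain `T ≥ T₀ ≥ 1` of a `p`-group centralizes `T`. -/
theorem commute_of_mem_stabMod {G : Type*} [Group G] [Finite G] (p : ℕ) [Fact p.Prime]
    {T T₀ : Subgroup G} (hT₀ : IsPGroup p T₀) {y : G} (hy : y ∈ stabMod T T₀)
    (hy0 : y ∈ Subgroup.centralizer (T₀ : Set G)) (hyp : (orderOf y).Coprime p)
    {t : G} (ht : t ∈ T) : y * t = t * y := by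
  obtain ⟨_, hy2⟩ := hy
  set c := t⁻¹ * (y * t * y⁻¹) with hc
  have hcT₀ : c ∈ T₀ := hy2 t ht
  have hyc : y * c = c * y := (Subgroup.mem_centralizer_iff.1 hy0 c hcT₀).symm
  have hconj : y * t * y⁻¹ = t * c := by rw [hc]; group
  have hpow : ∀ n : ℕ, y ^ n * t * (y ^ n)⁻¹ = t * c ^ n := by
    intro n
    induction n with
    | zero => simp
    | succ k ih =>
      have hyck : y * c ^ k = c ^ k * y := (Commute.pow_right (show Commute y c from hyc) k)
      calc y ^ (k + 1) * t * (y ^ (k + 1))⁻¹ = y * (y ^ k * t * (y ^ k)⁻¹) * y⁻¹ := by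
            rw [pow_succ']; group
        _ = y * (t * c ^ k) * y⁻¹ := by rw [ih]
        _ = (y * t * y⁻¹) * (y * c ^ k) * y⁻¹ := by group
        _ = (t * c) * (c ^ k * y) * y⁻¹ := by rw [hconj, hyck]
        _ = t * c ^ (k + 1) := by rw [pow_succ']; group
  have h1 := hpow (orderOf y)
  rw [pow_orderOf_eq_one, one_mul, inv_one, mul_one] at h1
  have h2 : c ^ orderOf y = 1 := by
    have := mul_left_cancel (a := t) (b := 1) (c := c ^ orderOf y) (by rw [mul_one]; exact h1)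
    exact this.symm
  have hcop : (Nat.card T₀).Coprime (orderOf y) := by
    obtain ⟨k, hk⟩ := IsPGroup.iff_card.1 hT₀
    rw [hk]
    exact (Nat.Coprime.pow_right k hyp).symm
  have hc1 : c = 1 := pow_eq_one_of_coprime T₀ (orderOf y) hcop hcT₀ h2
  rw [hc1, mul_one] at hconj
  calc y * t = y * t * y⁻¹ * y := by group
    _ = t * y := by rw [hconj]

/-- **Semidirect `P × Q` lemma, class-2 variant** (any `p`): as `semi_pq`, but assuming that
`⁅T, A⁆` is centralized by `A`. -/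
theorem semi_pq_class2 {G : Type*} [Group G] [Finite G] (p : ℕ) [Fact p.Prime]
    (T Y A : Subgroup G) (hT : IsPGroup p T) (hY : (Nat.card Y).Coprime p) (hA : IsPGroup p A)
    (hYT : Y ≤ Subgroup.normalizer (T : Set G)) (hAT : A ≤ Subgroup.normalizer (T : Set G))
    (hAY : A ≤ Subgroup.normalizer (Y : Set G))
    (hcl : ⁅T, A⁆ ≤ Subgroup.centralizer (A : Set G))
    (hC : T ⊓ Subgroup.centralizer (A : Set G) ≤ Subgroup.centralizer (Y : Set G)) :
    T ≤ Subgroup.centralizer (Y : Set G) := by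
  obtain ⟨T₀, hT₀def⟩ : ∃ T₀, T₀ = ⁅T, A⁆ := ⟨_, rfl⟩
  have hT₀T : T₀ ≤ T := by rw [hT₀def]; exact commutator_le_of_le_normalizer hAT
  have hT₀Y : T₀ ≤ Subgroup.centralizer (Y : Set G) := by
    refine le_trans (le_inf hT₀T ?_) hC
    rw [hT₀def]; exact hcl
  have hYT₀ : Y ≤ Subgroup.centralizer (T₀ : Set G) := Subgroup.le_centralizer_iff.1 hT₀Y
  have hT₀p : IsPGroup p T₀ := hT.to_le hT₀T
  -- `A ≤ stabMod T T₀`
  have hAK : A ≤ stabMod T T₀ := by
    intro a ha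
    refine ⟨hAT ha, ?_⟩
    intro t ht
    have : t⁻¹ * (a * t * a⁻¹) = ⁅t⁻¹, a⁆ := by rw [commutatorElement_def]; group
    rw [this, hT₀def]
    exact Subgroup.commutator_mem_commutator (T.inv_mem ht) ha
  -- `⁅Y, A⁆ ≤ stabMod T T₀`
  have hYAK : ⁅Y, A⁆ ≤ stabMod T T₀ := by
    rw [Subgroup.commutator_le]
    intro y hy a ha
    have h1 : y * a * y⁻¹ ∈ stabMod T T₀ := conj_mem_stabMod (hAK ha) (hYT hy) (hYT₀ hy)
    have : ⁅y, a⁆ = (y * a * y⁻¹) * a⁻¹ := by rw [commutatorElement_def]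
    rw [this]
    exact Subgroup.mul_mem _ h1 (Subgroup.inv_mem _ (hAK ha))
  have hYAle : ⁅Y, A⁆ ≤ Y := commutator_le_of_le_normalizer hAY
  -- `⁅Y, A⁆` centralizes `T`
  have h1 : ⁅Y, A⁆ ≤ Subgroup.centralizer (T : Set G) := by
    intro y hy
    rw [Subgroup.mem_centralizer_iff]
    intro t ht
    have hyY : y ∈ Y := hYAle hy
    have hord : (orderOf y).Coprime p :=
      Nat.Coprime.coprime_dvd_left (Subgroup.orderOf_dvd_natCard Y hyY) hY
    exact (commute_of_mem_stabMod p hT₀p (hYAK hy) (hYT₀ hyY) hord ht).symm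
  -- `C_Y(A)` centralizes `T`
  have hY₀card : (Nat.card (Y ⊓ Subgroup.centralizer (A : Set G) : Subgroup G)).Coprime p :=
    Nat.Coprime.coprime_dvd_left (Subgroup.card_dvd_of_le inf_le_left) hY
  have h2 : Y ⊓ Subgroup.centralizer (A : Set G) ≤ Subgroup.centralizer (T : Set G) := by
    refine Cfsg.Agent.S0028.result p A (Y ⊓ Subgroup.centralizer (A : Set G)) T hA hY₀card hT
      ?_ hAT (inf_le_left.trans hYT) ?_
    · exact Subgroup.le_centralizer_iff.1 (inf_le_right)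
    · exact hC.trans (Subgroup.centralizer_le (by exact_mod_cast (inf_le_left : Y ⊓ Subgroup.centralizer (A : Set G) ≤ Y)))
  have hcop : (Nat.card A).Coprime (Nat.card Y) := by
    obtain ⟨k, hk⟩ := IsPGroup.iff_card.1 hA
    rw [hk]
    exact (Nat.Coprime.pow_right k hY).symm
  have hAnil : Group.IsNilpotent A := hA.isNilpotent
  have hAsolv : Group.IsSolvable A := inferInstance
  have h3 := Cfsg.Agent.S0026.result A Y hAY hcop (Or.inl hAsolv)
  have h4 : Y ≤ Subgroup.centralizer (T : Set G) := by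
    rw [← h3]
    exact sup_le h1 h2
  exact Subgroup.le_centralizer_iff.1 h4


/-! ### The key lemma -/

theorem le_normalizer_sup' {G : Type*} [Group G] {X H₁ H₂ : Subgroup G}
    (h₁ : X ≤ Subgroup.normalizer (H₁ : Set G)) (h₂ : X ≤ Subgroup.normalizer (H₂ : Set G)) :
    X ≤ Subgroup.normalizer ((H₁ ⊔ H₂ : Subgroup G) : Set G) := by
  rw [Cfsg.Agent.Lib.Helper01.le_normalizer_iff_conj_smul]
  intro x hx
  rw [Subgroup.smul_sup, Cfsg.Agent.Lib.Helper01.mem_normalizer_iff_conj_smul.mp (h₁ hx),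
    Cfsg.Agent.Lib.Helper01.mem_normalizer_iff_conj_smul.mp (h₂ hx)]

/-- a `p'`-subgroup of `O_{p',p}` lies in `O_{p'}` (after helper29) -/
theorem le_pPrimeCore_of_le_pPrimePCore' {K : Type*} [Group K] [Finite K] (q : ℕ) [Fact q.Prime]
    (R : Subgroup K) (hR : R ≤ pPrimePCore q K) (hc : (Nat.card R).Coprime q) :
    R ≤ pPrimeCore q K := by
  set π := QuotientGroup.mk' (pPrimeCore q K) with hπ
  have h1 : R.map π ≤ pCore q (K ⧸ pPrimeCore q K) := by
    rintro _ ⟨x, hx, rfl⟩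
    exact hR hx
  have h2 : IsPGroup q ↥(R.map π) :=
    (Cfsg.Agent.Lib.Helper40.pCore_isPGroup' q _).to_le h1
  have h3 : (Nat.card ↥(R.map π)).Coprime q :=
    Nat.Coprime.coprime_dvd_left (Subgroup.card_map_dvd _ _) hc
  have h4 : R.map π = ⊥ := by
    obtain ⟨n, hn⟩ := IsPGroup.iff_card.mp h2
    rw [hn] at h3
    rcases Nat.eq_zero_or_pos n with h0 | hpos
    · rw [h0, pow_zero] at hn
      exact Subgroup.card_eq_one.mp hn
    · exfalso
      have h5 : q ∣ q ^ n := dvd_pow_self q hpos.ne'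
      have h6 : q ∣ Nat.gcd (q ^ n) q := Nat.dvd_gcd h5 dvd_rfl
      rw [h3] at h6
      exact (Fact.out : q.Prime).one_lt.ne' (Nat.dvd_one.mp h6)
  intro x hx
  have : π x ∈ R.map π := Subgroup.mem_map_of_mem _ hx
  rw [h4, Subgroup.mem_bot] at this
  exact (QuotientGroup.eq_one_iff x).mp this

/-- **Key lemma**: in a `p`-constrained group `H`, if the `p`-subgroup `A` contains every
`p`-element of `C_H(A)`, then every `A`-invariant `p'`-subgroup lies in `O_{p'}(H)`.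
For `p = 2` the `p`-subgroups are assumed to have class at most 2. -/
theorem key_lemma {H : Type*} [Group H] [Finite H] (p : ℕ) [Fact p.Prime]
    (hcon : Cfsg.IsPConstrained p H)
    (A : Subgroup H) (hA : IsPGroup p A)
    (hfull : ∀ x ∈ Subgroup.centralizer (A : Set H), IsPGroup p (Subgroup.zpowers x) → x ∈ A)
    (h2 : p = 2 → ∀ S : Subgroup H, IsPGroup p S → ∀ x ∈ S, ∀ y ∈ S, ∀ z ∈ S, ⁅⁅x, y⁆, z⁆ = 1)
    (Y : Subgroup H) (hY : (Nat.card Y).Coprime p) (hAY : A ≤ Subgroup.normalizer (Y : Set H)) :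
    Y ≤ Cfsg.pPrimeCore p H := by
  obtain ⟨N, hNdef⟩ : ∃ N, N = pPrimeCore p H := ⟨_, rfl⟩
  obtain ⟨L, hLdef⟩ : ∃ L, L = pPrimePCore p H := ⟨_, rfl⟩
  have hNnorm : N.Normal := by
    rw [hNdef]
    have := Cfsg.Agent.Lib.Helper40.pPrimeCore_characteristic p H
    infer_instance
  have hLnorm : L.Normal := by rw [hLdef]; infer_instance
  have hNL : N ≤ L := by rw [hNdef, hLdef]; exact Cfsg.Agent.Lib.Helper40.pPrimeCore_le_pPrimePCore p H
  have hNcard : (Nat.card N).Coprime p := by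
    rw [hNdef]; exact Cfsg.Agent.Lib.Helper40.pPrimeCore_card_coprime' p H
  obtain ⟨S, hAS⟩ := hA.exists_le_sylow
  obtain ⟨P', hP'⟩ := Cfsg.Agent.Lib.Helper40.exists_sylow_map_eq_inf S (pPrimePCore p H)
  obtain ⟨P, hPdef⟩ : ∃ P, P = (S : Subgroup H) ⊓ L := ⟨_, rfl⟩
  have hP'P : (P' : Subgroup ↥(pPrimePCore p H)).map (pPrimePCore p H).subtype = P := by
    rw [hP', hPdef, hLdef]
  have hCP : Subgroup.centralizer (P : Set H) ≤ L := by
    have := hcon P'
    rw [hP'P] at this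
    rw [hLdef]; exact this
  have hPS : P ≤ (S : Subgroup H) := by rw [hPdef]; exact inf_le_left
  have hPL : P ≤ L := by rw [hPdef]; exact inf_le_right
  have hPp : IsPGroup p P := S.isPGroup'.to_le hPS
  have hXL : ∀ X : Subgroup H, X ≤ Subgroup.normalizer (L : Set H) := by
    intro X
    rw [Subgroup.normalizer_eq_top_iff.2 hLnorm]; exact le_top
  have hXN : ∀ X : Subgroup H, X ≤ Subgroup.normalizer (N : Set H) := by
    intro X
    rw [Subgroup.normalizer_eq_top_iff.2 hNnorm]; exact le_top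
  have hAP : A ≤ Subgroup.normalizer (P : Set H) := by
    rw [hPdef]
    exact le_normalizer_inf' (hAS.trans Subgroup.le_normalizer) (hXL A)
  -- Frattini
  have hfrat : ∀ h : H, ∃ m ∈ Subgroup.normalizer (P : Set H), ∃ n ∈ N, h = m * n := by
    intro h
    have h1 := Sylow.normalizer_sup_eq_top P'
    rw [hP'P] at h1
    have h2 : h ∈ ((Subgroup.normalizer (P : Set H) ⊔ pPrimePCore p H : Subgroup H) : Set H) := by
      rw [h1]; exact Subgroup.mem_top h
    rw [Subgroup.mul_normal] at h2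
    obtain ⟨m, hm, l, hl, rfl⟩ := Set.mem_mul.1 h2
    have hlL : l ∈ L := by rw [hLdef]; exact hl
    have h3 : l ∈ (((S : Subgroup H) ⊔ N : Subgroup H) : Set H) := by
      have := Cfsg.Agent.Lib.Helper40.pPrimePCore_le_sylow_sup S hl
      rw [hNdef]; exact this
    rw [Subgroup.mul_normal] at h3
    obtain ⟨s, hs, n, hn, rfl⟩ := Set.mem_mul.1 h3
    have hsL : s ∈ L := by
      have : s = s * n * n⁻¹ := by group
      rw [this]
      exact L.mul_mem hlL (L.inv_mem (hNL hn))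
    have hsP : s ∈ P := by rw [hPdef]; exact ⟨hs, hsL⟩
    refine ⟨m * s, Subgroup.mul_mem _ hm (Subgroup.le_normalizer hsP), n, hn, ?_⟩
    rw [mul_assoc]
  -- `W = Y N` and `Ys = W ∩ N_H(P)`
  obtain ⟨W, hWdef⟩ : ∃ W, W = Y ⊔ N := ⟨_, rfl⟩
  have hWcard : (Nat.card W).Coprime p := by
    rw [hWdef]; exact Cfsg.Agent.Lib.Helper40.card_sup_coprime' p Y N hY hNcard
  have hAW : A ≤ Subgroup.normalizer (W : Set H) := by
    rw [hWdef]; exact le_normalizer_sup' hAY (hXN A)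
  obtain ⟨Ys, hYsdef⟩ : ∃ Ys, Ys = W ⊓ Subgroup.normalizer (P : Set H) := ⟨_, rfl⟩
  have hYsW : Ys ≤ W := by rw [hYsdef]; exact inf_le_left
  have hYsP : Ys ≤ Subgroup.normalizer (P : Set H) := by rw [hYsdef]; exact inf_le_right
  have hYscard : (Nat.card Ys).Coprime p :=
    Nat.Coprime.coprime_dvd_left (Subgroup.card_dvd_of_le hYsW) hWcard
  have hAYs : A ≤ Subgroup.normalizer (Ys : Set H) := by
    rw [hYsdef]
    exact le_normalizer_inf' hAW (hAP.trans Subgroup.le_normalizer)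
  have hPYs : P ⊓ Ys = ⊥ :=
    Cfsg.Agent.Lib.Helper40.isPGroup_inf_coprime_eq_bot P Ys hPp hYscard
  -- `Ys` centralizes `C_P(A)`
  have hC : P ⊓ Subgroup.centralizer (A : Set H) ≤ Subgroup.centralizer (Ys : Set H) := by
    rintro x ⟨hxP, hxA⟩
    have hxA' : x ∈ A := by
      refine hfull x hxA ?_
      exact hPp.to_le (by rw [Subgroup.zpowers_le]; exact hxP)
    rw [Subgroup.mem_centralizer_iff]
    intro y hy
    have h1 : ⁅x, y⁆ ∈ P := by
      have h3 : y * x⁻¹ * y⁻¹ ∈ P :=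
        (Subgroup.mem_normalizer_iff.1 (hYsP hy) x⁻¹).1 (P.inv_mem hxP)
      have : ⁅x, y⁆ = x * (y * x⁻¹ * y⁻¹) := by rw [commutatorElement_def]; group
      rw [this]; exact P.mul_mem hxP h3
    have h2 : ⁅x, y⁆ ∈ Ys := by
      have h3 : x * y * x⁻¹ ∈ Ys := (Subgroup.mem_normalizer_iff.1 (hAYs hxA') y).1 hy
      have : ⁅x, y⁆ = (x * y * x⁻¹) * y⁻¹ := by rw [commutatorElement_def]
      rw [this]; exact Ys.mul_mem h3 (Ys.inv_mem hy)
    have h3 : ⁅x, y⁆ ∈ P ⊓ Ys := ⟨h1, h2⟩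
    rw [hPYs, Subgroup.mem_bot, commutatorElement_eq_one_iff_mul_comm] at h3
    exact h3.symm
  -- `Ys` centralizes `P`
  have hcent : P ≤ Subgroup.centralizer (Ys : Set H) := by
    by_cases hp2 : p = 2
    · refine semi_pq_class2 p P Ys A hPp hYscard hA hYsP hAP hAYs ?_ hC
      rw [Subgroup.commutator_le]
      intro x hx a ha
      rw [Subgroup.mem_centralizer_iff]
      intro z hz
      have := h2 hp2 (S : Subgroup H) S.isPGroup' x (hPS hx) a (hAS ha) z (hAS hz)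
      rw [commutatorElement_eq_one_iff_mul_comm] at this
      exact this.symm
    · exact semi_pq p hp2 P Ys A hPp hYscard hA hYsP hAP hAYs hC
  have hYsL : Ys ≤ L := (Subgroup.le_centralizer_iff.1 hcent).trans hCP
  have hYsN : Ys ≤ N := by
    rw [hNdef]
    exact le_pPrimeCore_of_le_pPrimePCore' p Ys (by rw [← hLdef]; exact hYsL) hYscard
  -- conclude
  rw [← hNdef]
  intro y hy
  obtain ⟨m, hm, n, hn, rfl⟩ := hfrat y
  have hmW : m ∈ W := by
    have : m = m * n * n⁻¹ := by group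
    rw [this, hWdef]
    exact Subgroup.mul_mem _ (Subgroup.mem_sup_left hy) (Subgroup.inv_mem _ (Subgroup.mem_sup_right hn))
  have hmYs : m ∈ Ys := by rw [hYsdef]; exact ⟨hmW, hm⟩
  exact N.mul_mem (hYsN hmYs) hn

end Cfsg.Agent.Lib.Helper31
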