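import Mathlib
import Cfsg.Prelude.Def_Local
import Cfsg.Agent.Lib.Helper31.KeyLemma
import Cfsg.Agent.Lib.Helper32.OddFix
import Cfsg.Agent.Lib.Helper32.PLengthOne

set_option autoImplicit false

/-! A generic form of the key lemma (`Y ≤ O_{p'}(H)` for `A`-invariant `p'`-subgroups `Y`),
and its variant for groups of `p`-length one. -/

namespace Cfsg.Agent.Lib.Helper31

open scoped Pointwise commutatorElement
open Cfsg

/-- Generic key lemma: the hypothesis `hcent` provides the centralizing step. -/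
theorem key_lemma_gen {H : Type*} [Group H] [Finite H] (p : ℕ) [Fact p.Prime]
    (hcon : Cfsg.IsPConstrained p H)
    (A : Subgroup H) (hA : IsPGroup p A)
    (Y : Subgroup H) (hY : (Nat.card Y).Coprime p) (hAY : A ≤ Subgroup.normalizer (Y : Set H))
    (hcentgen : ∀ (S : Sylow p H) (P Ys : Subgroup H), A ≤ (S : Subgroup H) →
      P = (S : Subgroup H) ⊓ pPrimePCore p H → (Nat.card Ys).Coprime p →
      Ys ≤ Subgroup.normalizer (P : Set H) → A ≤ Subgroup.normalizer (P : Set H) →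
      A ≤ Subgroup.normalizer (Ys : Set H) → P ≤ Subgroup.centralizer (Ys : Set H)) :
    Y ≤ Cfsg.pPrimeCore p H := by
  obtain ⟨N, hNdef⟩ : ∃ N, N = pPrimeCore p H := ⟨_, rfl⟩
  obtain ⟨L, hLdef⟩ : ∃ L, L = pPrimePCore p H := ⟨_, rfl⟩
  have hNnorm : N.Normal := by
    rw [hNdef]
    have := Cfsg.Agent.Lib.Helper40.pPrimeCore_characteristic p H
    infer_instance
  have hLnorm : L.Normal := by rw [hLdef]; infer_instance
  have hNL : N ≤ L := by rw [hNdef, hLdef]; exact Cfsg.Agent.Lib.Helper40.pPrimeCore_le_pPrimePCore p H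
  have hNcard : (Nat.card N).Coprime p := by
    rw [hNdef]; exact Cfsg.Agent.Lib.Helper40.pPrimeCore_card_coprime' p H
  obtain ⟨S, hAS⟩ := hA.exists_le_sylow
  obtain ⟨P', hP'⟩ := Cfsg.Agent.Lib.Helper40.exists_sylow_map_eq_inf S (pPrimePCore p H)
  obtain ⟨P, hPdef⟩ : ∃ P, P = (S : Subgroup H) ⊓ L := ⟨_, rfl⟩
  have hP'P : (P' : Subgroup ↥(pPrimePCore p H)).map (pPrimePCore p H).subtype = P := by
    rw [hP', hPdef, hLdef]
  have hCP : Subgroup.centralizer (P : Set H) ≤ L := by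
    have := hcon P'
    rw [hP'P] at this
    rw [hLdef]; exact this
  have hPS : P ≤ (S : Subgroup H) := by rw [hPdef]; exact inf_le_left
  have hPL : P ≤ L := by rw [hPdef]; exact inf_le_right
  have hPp : IsPGroup p P := S.isPGroup'.to_le hPS
  have hXL : ∀ X : Subgroup H, X ≤ Subgroup.normalizer (L : Set H) := by
    intro X
    rw [Subgroup.normalizer_eq_top_iff.2 hLnorm]; exact le_top
  have hXN : ∀ X : Subgroup H, X ≤ Subgroup.normalizer (N : Set H) := by
    intro X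
    rw [Subgroup.normalizer_eq_top_iff.2 hNnorm]; exact le_top
  have hAP : A ≤ Subgroup.normalizer (P : Set H) := by
    rw [hPdef]
    exact le_normalizer_inf' (hAS.trans Subgroup.le_normalizer) (hXL A)
  -- Frattini
  have hfrat : ∀ h : H, ∃ m ∈ Subgroup.normalizer (P : Set H), ∃ n ∈ N, h = m * n := by
    intro h
    have h1 := Sylow.normalizer_sup_eq_top P'
    rw [hP'P] at h1
    have h2 : h ∈ ((Subgroup.normalizer (P : Set H) ⊔ pPrimePCore p H : Subgroup H) : Set H) := by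
      rw [h1]; exact Subgroup.mem_top h
    rw [Subgroup.mul_normal] at h2
    obtain ⟨m, hm, l, hl, rfl⟩ := Set.mem_mul.1 h2
    have hlL : l ∈ L := by rw [hLdef]; exact hl
    have h3 : l ∈ (((S : Subgroup H) ⊔ N : Subgroup H) : Set H) := by
      have := Cfsg.Agent.Lib.Helper40.pPrimePCore_le_sylow_sup S hl
      rw [hNdef]; exact this
    rw [Subgroup.mul_normal] at h3
    obtain ⟨s, hs, n, hn, rfl⟩ := Set.mem_mul.1 h3
    have hsL : s ∈ L := by
      have : s = s * n * n⁻¹ := by group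
      rw [this]
      exact L.mul_mem hlL (L.inv_mem (hNL hn))
    have hsP : s ∈ P := by rw [hPdef]; exact ⟨hs, hsL⟩
    refine ⟨m * s, Subgroup.mul_mem _ hm (Subgroup.le_normalizer hsP), n, hn, ?_⟩
    rw [mul_assoc]
  -- `W = Y N` and `Ys = W ∩ N_H(P)`
  obtain ⟨W, hWdef⟩ : ∃ W, W = Y ⊔ N := ⟨_, rfl⟩
  have hWcard : (Nat.card W).Coprime p := by
    rw [hWdef]; exact Cfsg.Agent.Lib.Helper40.card_sup_coprime' p Y N hY hNcard
  have hAW : A ≤ Subgroup.normalizer (W : Set H) := by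
    rw [hWdef]; exact le_normalizer_sup' hAY (hXN A)
  obtain ⟨Ys, hYsdef⟩ : ∃ Ys, Ys = W ⊓ Subgroup.normalizer (P : Set H) := ⟨_, rfl⟩
  have hYsW : Ys ≤ W := by rw [hYsdef]; exact inf_le_left
  have hYsP : Ys ≤ Subgroup.normalizer (P : Set H) := by rw [hYsdef]; exact inf_le_right
  have hYscard : (Nat.card Ys).Coprime p :=
    Nat.Coprime.coprime_dvd_left (Subgroup.card_dvd_of_le hYsW) hWcard
  have hAYs : A ≤ Subgroup.normalizer (Ys : Set H) := by
    rw [hYsdef]
    exact le_normalizer_inf' hAW (hAP.trans Subgroup.le_normalizer)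
  have hPYs : P ⊓ Ys = ⊥ :=
    Cfsg.Agent.Lib.Helper40.isPGroup_inf_coprime_eq_bot P Ys hPp hYscard
  have hcent : P ≤ Subgroup.centralizer (Ys : Set H) :=
    hcentgen S P Ys hAS (by rw [hPdef, hLdef]) hYscard hYsP hAP hAYs
  have hYsL : Ys ≤ L := (Subgroup.le_centralizer_iff.1 hcent).trans hCP
  have hYsN : Ys ≤ N := by
    rw [hNdef]
    exact le_pPrimeCore_of_le_pPrimePCore' p Ys (by rw [← hLdef]; exact hYsL) hYscard
  -- conclude
  rw [← hNdef]
  intro y hy
  obtain ⟨m, hm, n, hn, rfl⟩ := hfrat y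
  have hmW : m ∈ W := by
    have : m = m * n * n⁻¹ := by group
    rw [this, hWdef]
    exact Subgroup.mul_mem _ (Subgroup.mem_sup_left hy) (Subgroup.inv_mem _ (Subgroup.mem_sup_right hn))
  have hmYs : m ∈ Ys := by rw [hYsdef]; exact ⟨hmW, hm⟩
  exact N.mul_mem (hYsN hmYs) hn


/-- If `K ≤ L` are normal, `K` a `p'`-group and `|L : K|` a power of `p`, then `L ≤ O_{p',p}`. -/
theorem le_pPrimePCore_of_relIndex {H : Type*} [Group H] [Finite H] (p : ℕ) [Fact p.Prime]
    (K L : Subgroup H) (hK : K.Normal) (hL : L.Normal) (hKc : (Nat.card K).Coprime p)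
    (k : ℕ) (hk : K.relIndex L = p ^ k) : L ≤ pPrimePCore p H := by
  have hKN : K ≤ pPrimeCore p H := Cfsg.Agent.Lib.Helper40.le_pPrimeCore' K hK hKc
  intro x hx
  have h1 : L.map (QuotientGroup.mk' (pPrimeCore p H)) ≤ pCore p (H ⧸ pPrimeCore p H) := by
    refine le_sSup ⟨Subgroup.Normal.map hL _ (QuotientGroup.mk'_surjective _), ?_⟩
    rintro ⟨y, hy⟩
    obtain ⟨z, hz, rfl⟩ := hy
    refine ⟨k, ?_⟩
    apply Subtype.ext
    have hn : (K.subgroupOf L).Normal := inferInstance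
    have h2 : (⟨z, hz⟩ : L) ^ (K.subgroupOf L).index ∈ K.subgroupOf L :=
      Subgroup.pow_index_mem _ _
    have h3 : (K.subgroupOf L).index = p ^ k := hk
    rw [h3, Subgroup.mem_subgroupOf] at h2
    have h4 : z ^ p ^ k ∈ pPrimeCore p H := hKN (by simpa using h2)
    show (QuotientGroup.mk' (pPrimeCore p H)) z ^ p ^ k = 1
    rw [← map_pow]
    exact (QuotientGroup.eq_one_iff _).mpr h4
  exact h1 (Subgroup.mem_map_of_mem _ hx)

/-- **Key lemma, `p`-length one** (`p` odd): if `H` is `p`-constrained of `p`-length at most one and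
the `p`-subgroup `A` contains every element of order dividing `p` of `C_H(A)`, then every
`A`-invariant `p'`-subgroup lies in `O_{p'}(H)`. -/
theorem key_lemma_plen {H : Type*} [Group H] [Finite H] (p : ℕ) [Fact p.Prime] (hp2 : p ≠ 2)
    (hcon : Cfsg.IsPConstrained p H) (hpl : Cfsg.PLengthLE p 1 H)
    (A : Subgroup H) (hA : IsPGroup p A)
    (hfull : ∀ x ∈ Subgroup.centralizer (A : Set H), x ^ p = 1 → x ∈ A)
    (Y : Subgroup H) (hY : (Nat.card Y).Coprime p) (hAY : A ≤ Subgroup.normalizer (Y : Set H)) :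
    Y ≤ Cfsg.pPrimeCore p H := by
  obtain ⟨K, L, hK, hL, hKL, hKc, ⟨k, hk⟩, hLi⟩ :=
    Cfsg.Agent.Lib.Helper32.exists_of_pLengthLE_one p hpl
  have hLL : L ≤ pPrimePCore p H := le_pPrimePCore_of_relIndex p K L hK hL hKc k hk
  refine key_lemma_gen p hcon A hA Y hY hAY ?_
  intro S P Ys hAS hPdef hYsc hYsP hAP hAYs
  have hSL : (S : Subgroup H) ≤ pPrimePCore p H :=
    (Cfsg.Agent.Lib.Helper32.sylow_le_of_normal_of_not_dvd_index' L hLi S).trans hLL
  have hPS : P = (S : Subgroup H) := by rw [hPdef]; exact inf_of_le_left hSL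
  have hPp : IsPGroup p P := by rw [hPS]; exact S.isPGroup'
  have hAPle : A ≤ P := by rw [hPS]; exact hAS
  have hPYs : P ⊓ Ys = ⊥ :=
    Cfsg.Agent.Lib.Helper40.isPGroup_inf_coprime_eq_bot P Ys hPp hYsc
  -- `Ys` centralizes `A`
  have hAYsc : A ≤ Subgroup.centralizer (Ys : Set H) := by
    intro x hxA
    have hxP : x ∈ P := hAPle hxA
    rw [Subgroup.mem_centralizer_iff]
    intro y hy
    have h1 : ⁅x, y⁆ ∈ P := by
      have h3 : y * x⁻¹ * y⁻¹ ∈ P :=
        (Subgroup.mem_normalizer_iff.1 (hYsP hy) x⁻¹).1 (P.inv_mem hxP)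
      have : ⁅x, y⁆ = x * (y * x⁻¹ * y⁻¹) := by rw [commutatorElement_def]; group
      rw [this]; exact P.mul_mem hxP h3
    have h2 : ⁅x, y⁆ ∈ Ys := by
      have h3 : x * y * x⁻¹ ∈ Ys := (Subgroup.mem_normalizer_iff.1 (hAYs hxA) y).1 hy
      have : ⁅x, y⁆ = (x * y * x⁻¹) * y⁻¹ := by rw [commutatorElement_def]
      rw [this]; exact Ys.mul_mem h3 (Ys.inv_mem hy)
    have h3 : ⁅x, y⁆ ∈ P ⊓ Ys := ⟨h1, h2⟩
    rw [hPYs, Subgroup.mem_bot, commutatorElement_eq_one_iff_mul_comm] at h3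
    exact h3.symm
  have hYsA : Ys ≤ Subgroup.centralizer (A : Set H) := Subgroup.le_centralizer_iff.1 hAYsc
  -- `Ys` centralizes `C_P(A)`
  have hYsU : Ys ≤ Subgroup.normalizer ((P ⊓ Subgroup.centralizer (A : Set H) : Subgroup H) : Set H) :=
    le_normalizer_inf' hYsP
      (le_normalizer_centralizer' (hYsA.trans (Subgroup.centralizer_le_normalizer _)))
  have hC : P ⊓ Subgroup.centralizer (A : Set H) ≤ Subgroup.centralizer (Ys : Set H) := by
    refine Cfsg.Agent.Lib.Helper32.centralizes_of_fixes_order_p p hp2 Ys hYsc _ _ rfl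
      (hPp.to_le inf_le_left) hYsU ?_
    intro x hx hxp
    exact hAYsc (hfull x hx.2 hxp)
  have h5 := Cfsg.Agent.S0028.result p A Ys P hA hYsc hPp hAYsc hAP hYsP hC
  exact Subgroup.le_centralizer_iff.1 h5

end Cfsg.Agent.Lib.Helper31
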