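import Cfsg.Agent.Lib.Helper31.Scn3Main

/-!
# Bender–Glauberman, Lemma 9.5: conclusion
-/

set_option autoImplicit false
set_option linter.unusedSectionVars false

namespace Cfsg.Agent.Lib.Helper31.Scn3

open Cfsg Cfsg.Agent.Lib.Helper31 Cfsg.Agent.Lib.Helper55 Cfsg.Agent.Lib.Helper54
open scoped commutatorElement

variable {G : Type*} [Group G] [Finite G] {p : ℕ} [Fact p.Prime]

theorem rankLE_fittingSubgroup {M : Subgroup G} (hr : RankLE 2 ↥(fittingOf M)) :
    RankLE 2 ↥(fittingSubgroup ↥M) := by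
  intro r hrp
  exact pRankLE_of_inj
    ((Subgroup.equivMapOfInjective (fittingSubgroup ↥M) M.subtype M.subtype_injective).toMonoidHom)
    (Subgroup.equivMapOfInjective (fittingSubgroup ↥M) M.subtype M.subtype_injective).injective
    (hr r hrp)

/-- `O_p(M)` and `O_{p'}(M)` commute -/
theorem pCoreOf_le_centralizer_opc (M : Subgroup G) :
    pCoreOf p M ≤ Subgroup.centralizer ((opc p M : Subgroup G) : Set G) := by
  apply le_centralizer_of_normalizes
  · exact (pCoreOf_le p M).trans (le_normalizer_opc p M)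
  · exact (opc_le p M).trans (le_normalizer_pCoreOf p M)
  · refine (Subgroup.disjoint_of_coprime_natCard ?_).eq_bot
    obtain ⟨k, hk⟩ := IsPGroup.iff_card.mp (isPGroup_pCoreOf p M)
    rw [hk]
    exact Nat.Coprime.pow_left k (card_opc_coprime M).symm

variable {P : Sylow p G} {A : Subgroup G}

/-- **type (b)**: if `r(F(M)) ≤ 2` then `P₀ ≤ O_p(M)`. -/
theorem Hyp.P0_le_pCoreOf (h : Hyp p P A) (hnu : ¬ InUniqueMaximal A) {M : Subgroup G}
    (hM : IsCoatom M) (hCM : Subgroup.centralizer (A : Set G) ≤ M)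
    (hr : RankLE 2 ↥(fittingOf M)) : P0 P ≤ pCoreOf p M := by
  have : Group.IsSolvable ↥M := ms_solvable h.hG hM.1
  have hodd : Odd (Nat.card M) := ms_odd h.hG M
  have hnil : Group.IsNilpotent ↥(commutator ↥M) :=
    (Cfsg.Agent.S1451.result hodd (Or.inr (rankLE_fittingSubgroup hr))).1
  have h1 : commutator ↥M ≤ fittingSubgroup ↥M := le_sSup ⟨inferInstance, hnil⟩
  have h2 : ⁅M, M⁆ ≤ fittingOf M := by
    rw [← Subgroup.map_subtype_commutator]
    exact Subgroup.map_mono h1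
  have hNP := h.normalizer_sylow_le hnu hM hCM
  have h3 : P0 P ≤ fittingOf M :=
    inf_le_right.trans ((Subgroup.commutator_mono hNP hNP).trans h2)
  exact le_pCoreOf_of_le_fittingOf p h3 (P0_isPGroup P)

/-- a maximal subgroup containing `C_G(A)` and `O_{p'}(M)` is `M` -/
theorem Hyp.eq_of_opc_le (h : Hyp p P A) (hnu : ¬ InUniqueMaximal A) {M H : Subgroup G}
    (hM : IsCoatom M) (hCM : Subgroup.centralizer (A : Set G) ≤ M)
    (hH : IsCoatom H) (hCH : Subgroup.centralizer (A : Set G) ≤ H) (hKH : opc p M ≤ H) :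
    H = M := by
  have hPM : (P : Subgroup G) ≤ M := Subgroup.le_normalizer.trans (h.normalizer_sylow_le hnu hM hCM)
  have hSyl : IsSylowIn p M (P : Subgroup G) := isSylowIn_of_sylow_le P hPM
  have hfrat := le_opc_sup_normalizer_inf_oppc hSyl
  have hA1 : A ≤ oppc p M := le_oppc_of_abelian_normal (ms_solvable h.hG hM.1) (ms_odd h.hG M)
    hSyl h.scn.1 h.isComm h.scn.2.1
  have hN : Subgroup.normalizer (((P : Subgroup G) ⊓ oppc p M : Subgroup G) : Set G) ≤ H :=
    h.normalizer_le_of_coatom hnu hH hCH (P.isPGroup'.to_le inf_le_left) (le_inf h.scn.1 hA1)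
      (inf_le_left.trans h.scn.2.1)
  exact (ms_coatom_eq_of_le hH hM (hfrat.trans (sup_le hKH hN))).symm

/-- in a counterexample, `C_G(A)` lies in at most one maximal subgroup -/
theorem Hyp.coatom_unique (h : Hyp p P A) (hnu : ¬ InUniqueMaximal A) {M₁ M₂ : Subgroup G}
    (hM₁ : IsCoatom M₁) (hC₁ : Subgroup.centralizer (A : Set G) ≤ M₁)
    (hM₂ : IsCoatom M₂) (hC₂ : Subgroup.centralizer (A : Set G) ≤ M₂) : M₁ = M₂ := by
  have hP01 : P0 P ≠ ⊥ := P0_ne_bot h.hG P h.sylow_ne_bot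
  have hP0top : P0 P ≠ ⊤ := ms_pgroup_ne_top h.hG (P0_isPGroup P)
  obtain ⟨H, hH, hNH⟩ := ms_exists_coatom_ge (ms_normalizer_ne_top h.hG hP01 hP0top)
  have hCP0 : Subgroup.centralizer ((P0 P : Subgroup G) : Set G) ≤ H :=
    (Subgroup.centralizer_le_normalizer _).trans hNH
  -- type (a) members equal `H`
  have typeA : ∀ M : Subgroup G, IsCoatom M → Subgroup.centralizer (A : Set G) ≤ M →
      ¬ RankLE 2 ↥(fittingOf M) → H = M := by
    intro M hM hCM hr
    unfold RankLE at hr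
    push Not at hr
    obtain ⟨s, hsp, hF⟩ := hr
    have : Fact s.Prime := ⟨hsp⟩
    have h1 : pCoreOf s M ≤ H :=
      (le_centralizer_symm (h.P0_le_centralizer_pCoreOf hnu hM hCM hF)).trans hCP0
    exact eq_of_rank3 h.hG hM hF (not_pRankLE_pCoreOf hF) hH hM h1 (pCoreOf_le s M)
  -- type (b) members equal every member containing `N_G(P₀)`
  have typeB : ∀ M : Subgroup G, IsCoatom M → Subgroup.centralizer (A : Set G) ≤ M →
      RankLE 2 ↥(fittingOf M) → Subgroup.centralizer (A : Set G) ≤ H → H = M := by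
    intro M hM hCM hr hCH
    refine h.eq_of_opc_le hnu hM hCM hH hCH ?_
    have h1 : opc p M ≤ Subgroup.centralizer ((pCoreOf p M : Subgroup G) : Set G) :=
      le_centralizer_symm (pCoreOf_le_centralizer_opc M)
    exact (h1.trans (Subgroup.centralizer_le (h.P0_le_pCoreOf hnu hM hCM hr))).trans hCP0
  by_cases hr₁ : RankLE 2 ↥(fittingOf M₁)
  · by_cases hr₂ : RankLE 2 ↥(fittingOf M₂)
    · -- both of type (b): use `X = O_p(M₁) ∩ O_p(M₂) ⊇ P₀`
      set X : Subgroup G := pCoreOf p M₁ ⊓ pCoreOf p M₂ with hX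
      have hP0X : P0 P ≤ X := le_inf (h.P0_le_pCoreOf hnu hM₁ hC₁ hr₁) (h.P0_le_pCoreOf hnu hM₂ hC₂ hr₂)
      have hX1 : X ≠ ⊥ := fun h0 => hP01 (eq_bot_iff.mpr (h0 ▸ hP0X))
      have hXp : IsPGroup p X := (isPGroup_pCoreOf p M₁).to_le inf_le_left
      obtain ⟨H', hH', hNH'⟩ := ms_exists_coatom_ge
        (ms_normalizer_ne_top h.hG hX1 (ms_pgroup_ne_top h.hG hXp))
      have hI : M₁ ⊓ M₂ ≤ Subgroup.normalizer (X : Set G) := by
        intro g hg
        rw [Subgroup.mem_normalizer_iff]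
        intro x
        have e1 := Subgroup.mem_normalizer_iff.mp (le_normalizer_pCoreOf p M₁ hg.1) x
        have e2 := Subgroup.mem_normalizer_iff.mp (le_normalizer_pCoreOf p M₂ hg.2) x
        exact ⟨fun hx => ⟨e1.mp hx.1, e2.mp hx.2⟩, fun hx => ⟨e1.mpr hx.1, e2.mpr hx.2⟩⟩
      have hCH' : Subgroup.centralizer (A : Set G) ≤ H' := (le_inf hC₁ hC₂).trans (hI.trans hNH')
      have hCX : Subgroup.centralizer (X : Set G) ≤ H' :=
        (Subgroup.centralizer_le_normalizer _).trans hNH'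
      have e1 : H' = M₁ := by
        refine h.eq_of_opc_le hnu hM₁ hC₁ hH' hCH' ?_
        exact ((le_centralizer_symm (pCoreOf_le_centralizer_opc M₁)).trans
          (Subgroup.centralizer_le inf_le_left)).trans hCX
      have e2 : H' = M₂ := by
        refine h.eq_of_opc_le hnu hM₂ hC₂ hH' hCH' ?_
        exact ((le_centralizer_symm (pCoreOf_le_centralizer_opc M₂)).trans
          (Subgroup.centralizer_le inf_le_right)).trans hCX
      rw [← e1, ← e2]
    · have e2 : H = M₂ := typeA M₂ hM₂ hC₂ hr₂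
      have e1 : H = M₁ := typeB M₁ hM₁ hC₁ hr₁ (e2 ▸ hC₂)
      rw [← e1, ← e2]
  · have e1 : H = M₁ := typeA M₁ hM₁ hC₁ hr₁
    by_cases hr₂ : RankLE 2 ↥(fittingOf M₂)
    · have e2 : H = M₂ := typeB M₂ hM₂ hC₂ hr₂ (e1 ▸ hC₁)
      rw [← e1, ← e2]
    · have e2 : H = M₂ := typeA M₂ hM₂ hC₂ hr₂
      rw [← e1, ← e2]

/-- **Bender–Glauberman, Lemma 9.5** -/
theorem Hyp.inUniqueMaximal (h : Hyp p P A) : InUniqueMaximal A := by
  by_contra hnu
  have hCtop : Subgroup.centralizer (A : Set G) ≠ ⊤ := by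
    intro h1
    have : Subgroup.normalizer (A : Set G) = ⊤ :=
      top_le_iff.mp (h1 ▸ Subgroup.centralizer_le_normalizer _)
    exact ms_normalizer_ne_top h.hG h.ne_bot h.ne_top this
  obtain ⟨M, hM, hCM⟩ := ms_exists_coatom_ge hCtop
  have hCU : InUniqueMaximal (Subgroup.centralizer (A : Set G)) :=
    ⟨M, ⟨hM, hCM⟩, fun M' hM' => h.coatom_unique hnu hM'.1 hM'.2 hM hCM⟩
  have hAC : A ≤ Subgroup.centralizer ((Subgroup.centralizer (A : Set G) : Subgroup G) : Set G) :=
    le_centralizer_symm le_rfl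
  exact hnu (Cfsg.Agent.S1399.result h.hG _ A hCU hAC h.not_rankLE_one)

end Cfsg.Agent.Lib.Helper31.Scn3
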