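import Cfsg.Agent.Lib.Helper31.Scn3Base
import Cfsg.Agent.Lib.Helper59.BenderFStar
import Cfsg.Agent.Lib.Helper54.Subnormal
import Cfsg.Agent.S1451

/-!
# Bender–Glauberman, Lemma 9.5: the two types of maximal subgroups over `A`

For a maximal subgroup `M ⊇ A` (in the `SCN_3` setting, with `A` in at least two maximal subgroups) we
produce a prime `q ≠ p` and a maximal `A`-invariant `q`-subgroup `Q` with `N_G(Q) ≤ M`:
* if `r_s(F(M)) ≥ 3` then `s` is a "uniqueness prime" and any `Q ⊇ O_s(M)` works;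
* if `r(F(M)) ≤ 2` then the Sylow subgroup of `M` for the largest prime is normal, and works.
Consequently every maximal subgroup containing `C_G(A)` contains the normalizer of every `p`-subgroup in
which `A` is normal.
-/

set_option autoImplicit false
set_option linter.unusedSectionVars false

namespace Cfsg.Agent.Lib.Helper31.Scn3

open Cfsg Cfsg.Agent.Lib.Helper31 Cfsg.Agent.Lib.Helper55 Cfsg.Agent.Lib.Helper54

variable {G : Type*} [Group G] [Finite G] {p : ℕ} [Fact p.Prime]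

/-- `s`-subgroups of `F(M)` lie in `O_s(M)` -/
theorem le_pCoreOf_of_le_fittingOf {M E : Subgroup G} (s : ℕ) [Fact s.Prime]
    (hE : E ≤ fittingOf M) (hEs : IsPGroup s E) : E ≤ pCoreOf s M := by
  intro x hx
  obtain ⟨y, hy, rfl⟩ := hE hx
  obtain ⟨k, hk⟩ := hEs ⟨M.subtype y, hx⟩
  have hyk : y ^ (s ^ k) = 1 := by
    apply Subtype.ext
    have := congrArg Subtype.val hk
    simpa using this
  exact ⟨y, Cfsg.Agent.Lib.Helper59.Bender.mem_pCore_of_pow s hy hyk, rfl⟩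

theorem pCoreOf_le_fittingOf' (M : Subgroup G) (s : ℕ) [Fact s.Prime] :
    pCoreOf s M ≤ fittingOf M :=
  Subgroup.map_mono (Cfsg.Agent.Lib.Helper01.pCore_le_fitting s)

/-- monotonicity of the `p`-rank in the ambient group -/
theorem not_pRankLE_mono {s k : ℕ} {X Y : Subgroup G} (hXY : X ≤ Y) (h : ¬ PRankLE s k ↥X) :
    ¬ PRankLE s k ↥Y := by
  obtain ⟨E, hEX, h1, h2, h3⟩ := not_pRankLE_sub_iff.mp h
  exact not_pRankLE_sub_iff.mpr ⟨E, hEX.trans hXY, h1, h2, h3⟩

/-- if `F(M)` has `s`-rank at least three, so has `O_s(M)` -/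
theorem not_pRankLE_pCoreOf {M : Subgroup G} {s : ℕ} [Fact s.Prime]
    (hF : ¬ PRankLE s 2 ↥(fittingOf M)) : ¬ PRankLE s 2 ↥(pCoreOf s M) := by
  obtain ⟨E, hEF, hEc, hEe, hE3⟩ := not_pRankLE_sub_iff.mp hF
  exact not_pRankLE_sub_iff.mpr
    ⟨E, le_pCoreOf_of_le_fittingOf s hEF (isPGroup_of_pow_eq_one hEe), hEc, hEe, hE3⟩

/-- **uniqueness primes**: if `r_s(F(M)) ≥ 3` for some maximal subgroup `M`, every `s`-subgroup of rank
at least three lies in at most one maximal subgroup -/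
theorem eq_of_rank3 (hG : IsMinSimpleOddOrder G) {M : Subgroup G} (hM : IsCoatom M) {s : ℕ}
    [Fact s.Prime] (hF : ¬ PRankLE s 2 ↥(fittingOf M)) {X : Subgroup G}
    (hX3 : ¬ PRankLE s 2 ↥X) {H₁ H₂ : Subgroup G} (h₁ : IsCoatom H₁) (h₂ : IsCoatom H₂)
    (hX₁ : X ≤ H₁) (hX₂ : X ≤ H₂) : H₁ = H₂ := by
  obtain ⟨E, hEX, hEc, hEe, hE3⟩ := not_pRankLE_sub_iff.mp hX3
  have hU : InUniqueMaximal E := uniq_of_fitting_rank_three hG hM hF (isPGroup_of_pow_eq_one hEe) hEc
    (not_pRankLE_sub_iff.mpr ⟨E, le_rfl, hEc, hEe, hE3⟩)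
  exact hU.unique ⟨h₁, hEX.trans hX₁⟩ ⟨h₂, hEX.trans hX₂⟩

/-- a normal Sylow subgroup contains every `s`-subgroup -/
theorem le_of_normal_isSylowIn {s : ℕ} [Fact s.Prime] {K T Z : Subgroup G} (h : IsSylowIn s K T)
    (hn : K ≤ Subgroup.normalizer (T : Set G)) (hZK : Z ≤ K) (hZ : IsPGroup s Z) : Z ≤ T := by
  have h1 : IsPGroup s (Z ⊔ T : Subgroup G) := IsPGroup.to_sup_of_normal_right' hZ h.2.1 (hZK.trans hn)
  have h2 := h.2.2 (Z ⊔ T) (sup_le hZK h.1) h1 le_sup_right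
  rw [← h2]; exact le_sup_left

variable {P : Sylow p G} {A : Subgroup G}

/-- in a counterexample, no Fitting subgroup of a maximal subgroup has `p`-rank at least three -/
theorem Hyp.fitting_pRankLE (h : Hyp p P A) (hnu : ¬ InUniqueMaximal A) {M : Subgroup G}
    (hM : IsCoatom M) : PRankLE p 2 ↥(fittingOf M) := by
  by_contra hF
  exact hnu (uniq_of_fitting_rank_three h.hG hM hF h.isPGroup h.comm h.r3)

/-- **type (a)**: `r_s(F(M)) ≥ 3` -/
theorem Hyp.exists_Q_of_rank3 (h : Hyp p P A) (hnu : ¬ InUniqueMaximal A) {M : Subgroup G}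
    (hM : IsCoatom M) (hAM : A ≤ M) {s : ℕ} [Fact s.Prime]
    (hF : ¬ PRankLE s 2 ↥(fittingOf M)) :
    s ≠ p ∧ ∃ Q ∈ maxInvSubgroups ⊤ A {s}, Subgroup.normalizer (Q : Set G) ≤ M := by
  have hsp : s ≠ p := by
    rintro rfl
    exact hF (h.fitting_pRankLE hnu hM)
  refine ⟨hsp, ?_⟩
  have hS3 := not_pRankLE_pCoreOf hF
  have hSs : IsPGroup s (pCoreOf s M) := isPGroup_pCoreOf s M
  have hSinv : pCoreOf s M ∈ invSubgroups ⊤ A {s} :=
    mem_invSubgroups_of_isPGroup s A _ hSs (hAM.trans (le_normalizer_pCoreOf s M))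
  obtain ⟨Q, hQ, hSQ⟩ := exists_maxInv_ge A {s} _ hSinv
  refine ⟨Q, hQ, ?_⟩
  have hQs : IsPGroup s Q := isPGroup_of_forall_prime s Q hQ.1.2.1
  have hQ3 : ¬ PRankLE s 2 ↥Q := not_pRankLE_mono hSQ hS3
  have hQ1 : Q ≠ ⊥ := by
    rintro rfl
    apply hQ3
    intro E _ _
    have h1 : Nat.card E = 1 := by
      have : Subsingleton (⊥ : Subgroup G) := inferInstance
      have : Subsingleton E := inferInstance
      exact Nat.card_unique
    rw [h1]
    exact Nat.one_le_pow _ _ (Fact.out : s.Prime).pos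
  have hN : Subgroup.normalizer (Q : Set G) ≠ ⊤ :=
    ms_normalizer_ne_top h.hG hQ1 (ms_pgroup_ne_top h.hG hQs)
  obtain ⟨H, hH, hNH⟩ := ms_exists_coatom_ge hN
  have hHM : H = M := eq_of_rank3 h.hG hM hF hS3 hH hM
    (hSQ.trans (Subgroup.le_normalizer.trans hNH)) (pCoreOf_le s M)
  rw [← hHM]; exact hNH

/-- **type (b)**: `r(F(M)) ≤ 2` -/
theorem Hyp.exists_Q_of_rankLE (h : Hyp p P A) {M : Subgroup G}
    (hM : IsCoatom M) (hAM : A ≤ M) (hr : RankLE 2 ↥(fittingOf M)) :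
    ∃ s : ℕ, s.Prime ∧ s ≠ p ∧ ∃ Q ∈ maxInvSubgroups ⊤ A {s},
      Subgroup.normalizer (Q : Set G) ≤ M := by
  have hp : p.Prime := Fact.out
  have : Group.IsSolvable ↥M := ms_solvable h.hG hM.1
  have hodd : Odd (Nat.card M) := ms_odd h.hG M
  have hr' : RankLE 2 ↥(fittingSubgroup ↥M) := by
    intro r hrp
    exact pRankLE_of_inj
      ((Subgroup.equivMapOfInjective (fittingSubgroup ↥M) M.subtype M.subtype_injective).toMonoidHom)
      (Subgroup.equivMapOfInjective (fittingSubgroup ↥M) M.subtype M.subtype_injective).injective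
      (hr r hrp)
  -- the largest prime divisor of `|M|`
  have hM1 : Nat.card M ≠ 1 := by
    intro h1
    have : M = ⊥ := Subgroup.card_eq_one.mp h1
    exact h.ne_bot (eq_bot_iff.mpr (this ▸ hAM))
  have hne : (Nat.card M).primeFactors.Nonempty := by
    rw [Nat.nonempty_primeFactors]
    have : 0 < Nat.card M := Nat.card_pos
    omega
  obtain ⟨s, hsmem, hsmax'⟩ : ∃ s ∈ (Nat.card M).primeFactors,
      ∀ r ∈ (Nat.card M).primeFactors, r ≤ s :=
    ⟨_, Finset.max'_mem _ hne, fun r hr => Finset.le_max' _ r hr⟩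
  have hsp : s.Prime := Nat.prime_of_mem_primeFactors hsmem
  have hsM : s ∣ Nat.card M := Nat.dvd_of_mem_primeFactors hsmem
  have hsmax : ∀ r : ℕ, r.Prime → r ∣ Nat.card M → r ≤ s := by
    intro r hr1 hr2
    exact hsmax' r (Nat.mem_primeFactors.mpr ⟨hr1, hr2, Nat.card_pos.ne'⟩)
  have : Fact s.Prime := ⟨hsp⟩
  obtain ⟨N, hNchar, hNhall⟩ := (Cfsg.Agent.S1451.result hodd (Or.inr hr')).2.2 (s - 1)
  have hNs : IsPGroup s N := by
    apply isPGroup_of_forall_prime s N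
    intro r hr1 hr2
    have h1 := (hNhall.1 r hr1 hr2).2
    have h2 := hsmax r hr1 (hr2.trans (Subgroup.card_subgroup_dvd_card N))
    show r = s
    omega
  have hNidx : ¬ s ∣ N.index := hNhall.2 s hsp ⟨hsp, by have := hsp.two_le; omega⟩
  have hNn : N.Normal := inferInstance
  set Q : Subgroup G := N.map M.subtype with hQdef
  have hQM : Q ≤ M := Subgroup.map_subtype_le _
  have hMQ : M ≤ Subgroup.normalizer (Q : Set G) := by
    have h0 := Subgroup.le_normalizer_map (H := N) M.subtype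
    rw [Subgroup.normalizer_eq_top_iff.2 hNn, ← MonoidHom.range_eq_map,
      Subgroup.range_subtype] at h0
    exact h0
  have hQs : IsPGroup s Q := hNs.map _
  have hSyl : IsSylowIn s M Q := by
    have := isSylowIn_of_sylow (hNs.toSylow hNidx)
    rwa [IsPGroup.toSylow_coe] at this
  have hQ1 : Q ≠ ⊥ := by
    intro hQb
    have hN1 : N = ⊥ := (Subgroup.map_eq_bot_iff_of_injective _ M.subtype_injective).mp hQb
    have h1 : Nat.card N * N.index = Nat.card M := Subgroup.card_mul_index N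
    have h2 : s ∣ Nat.card N * N.index := h1 ▸ hsM
    rcases (Nat.Prime.dvd_mul hsp).mp h2 with h3 | h3
    · rw [hN1, Subgroup.card_bot] at h3
      exact hsp.one_lt.ne' (Nat.dvd_one.mp h3)
    · exact hNidx h3
  have hNQ : Subgroup.normalizer (Q : Set G) = M := ms_normalizer_eq h.hG hM hQ1 hQM hMQ
  have hsne : s ≠ p := by
    intro hsp'
    have hAQ : A ≤ Q := le_of_normal_isSylowIn hSyl hMQ hAM (hsp' ▸ h.isPGroup)
    have hQF : Q ≤ fittingOf M := (Cfsg.Agent.Lib.Helper54.le_pCoreOf hQM hMQ hQs).trans (pCoreOf_le_fittingOf' M s)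
    exact not_pRankLE_mono (hAQ.trans hQF) h.r3 (hr p hp)
  refine ⟨s, hsp, hsne, Q, ⟨mem_invSubgroups_of_isPGroup s A Q hQs (hAM.trans hMQ), ?_⟩, hNQ.le⟩
  intro R hR hQR
  have hRs : IsPGroup s R := isPGroup_of_forall_prime s R hR.2.1
  exact hSyl.eq_of_normalizer_le hRs hQR (inf_le_right.trans hNQ.le)

/-- **Step 1**: every maximal subgroup over `A` contains the normalizer of a maximal `A`-invariant
`q`-subgroup for some prime `q ≠ p`. -/
theorem Hyp.exists_Q (h : Hyp p P A) (hnu : ¬ InUniqueMaximal A) {M : Subgroup G}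
    (hM : IsCoatom M) (hAM : A ≤ M) :
    ∃ s : ℕ, s.Prime ∧ s ≠ p ∧ ∃ Q ∈ maxInvSubgroups ⊤ A {s},
      Subgroup.normalizer (Q : Set G) ≤ M := by
  by_cases hr : RankLE 2 ↥(fittingOf M)
  · exact h.exists_Q_of_rankLE hM hAM hr
  · unfold RankLE at hr
    push Not at hr
    obtain ⟨s, hsp, hF⟩ := hr
    have : Fact s.Prime := ⟨hsp⟩
    obtain ⟨h1, h2⟩ := h.exists_Q_of_rank3 hnu hM hAM hF
    exact ⟨s, hsp, h1, h2⟩

/-- **Step 1, final form**: a maximal subgroup containing `C_G(A)` contains the normalizer of every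
`p`-subgroup in which `A` is normal. -/
theorem Hyp.normalizer_le_of_coatom (h : Hyp p P A) (hnu : ¬ InUniqueMaximal A) {M : Subgroup G}
    (hM : IsCoatom M) (hCM : Subgroup.centralizer (A : Set G) ≤ M)
    {S : Subgroup G} (hSp : IsPGroup p S) (hAS : A ≤ S)
    (hSA : S ≤ Subgroup.normalizer (A : Set G)) :
    Subgroup.normalizer (S : Set G) ≤ M := by
  obtain ⟨s, hsp, hsne, Q, hQ, hNQ⟩ := h.exists_Q hnu hM (h.le_centralizer.trans hCM)
  exact h.normalizer_le hCM hsp hsne hQ hNQ hSp hAS hSA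

theorem Hyp.normalizer_sylow_le (h : Hyp p P A) (hnu : ¬ InUniqueMaximal A) {M : Subgroup G}
    (hM : IsCoatom M) (hCM : Subgroup.centralizer (A : Set G) ≤ M) :
    Subgroup.normalizer ((P : Subgroup G) : Set G) ≤ M :=
  h.normalizer_le_of_coatom hnu hM hCM P.isPGroup' h.scn.1 h.scn.2.1

end Cfsg.Agent.Lib.Helper31.Scn3
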