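import Cfsg.Agent.S1403
import Cfsg.Agent.Lib.Helper55.SylowIn
import Cfsg.Agent.Lib.Helper55.Uniq2
import Cfsg.Agent.Lib.Helper55.Uniq3
import Cfsg.Agent.Lib.Helper06.NormalRankTwo

set_option autoImplicit false

/-! Bender–Glauberman section 10, first consequences of the Uniqueness Theorem
for primes outside `σ(M)`. -/

namespace Cfsg.Agent.Lib.Helper31.Bg10

open Cfsg Cfsg.Agent.Lib.Helper55

variable {G : Type*} [Group G] [Finite G] {p : ℕ} [Fact p.Prime]

/-- if the normalizer of a Sylow `p`-subgroup `T ≠ 1` of `M` lies in `M` then `p ∈ σ(M)` -/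
theorem mem_sigma_of_normalizer_le {M T : Subgroup G} (hT : IsSylowIn p M T) (hT1 : T ≠ ⊥)
    (hN : Subgroup.normalizer (T : Set G) ≤ M) : p ∈ sigma M := by
  have hp : p.Prime := Fact.out
  refine ⟨hp, ?_, hT.toSylow, ?_⟩
  · have h1 : Nat.card T ∣ Nat.card M := Subgroup.card_dvd_of_le hT.1
    obtain ⟨n, hn⟩ := hT.2.1.exists_card_eq
    have hn0 : n ≠ 0 := by
      rintro rfl
      rw [pow_zero] at hn
      exact hT1 (Subgroup.card_eq_one.mp hn)
    exact (dvd_trans (dvd_pow_self p hn0) (hn ▸ dvd_rfl)).trans h1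
  · rw [hT.map_toSylow]
    exact hN

/-- a nontrivial `p`-subgroup of `M` lying in a unique maximal subgroup forces `p ∈ σ(M)` -/
theorem mem_sigma_of_uniq (hG : IsMinSimpleOddOrder G) {M : Subgroup G} (hM : IsCoatom M)
    {A : Subgroup G} (hAM : A ≤ M) (hAp : IsPGroup p A) (hA1 : A ≠ ⊥) (hAU : InUniqueMaximal A) :
    p ∈ sigma M := by
  obtain ⟨T, hT, hAT⟩ := exists_isSylowIn_ge hAM hAp
  have hT1 : T ≠ ⊥ := by
    rintro rfl
    exact hA1 (le_bot_iff.mp hAT)
  have hTtop : T ≠ ⊤ := ms_pgroup_ne_top hG hT.2.1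
  obtain ⟨L, hL, hNL⟩ := ms_exists_coatom_ge (ms_normalizer_ne_top hG hT1 hTtop)
  have hLM : L = M :=
    hAU.unique ⟨hL, hAT.trans (Subgroup.le_normalizer.trans hNL)⟩ ⟨hM, hAM⟩
  exact mem_sigma_of_normalizer_le hT hT1 (hLM ▸ hNL)

/-- an elementary abelian `p`-subgroup of order at least `p ^ 3` of `M` forces `p ∈ σ(M)` -/
theorem mem_sigma_of_rank_three (hG : IsMinSimpleOddOrder G) {M : Subgroup G} (hM : IsCoatom M)
    (hr : ¬ PRankLE p 2 ↥M) : p ∈ sigma M := by
  have hp : p.Prime := Fact.out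
  obtain ⟨E, hEM, hEc, hEe, hE3⟩ := not_pRankLE_sub_iff.mp hr
  have hEel : IsElementaryAbelian p E :=
    ⟨⟨⟨fun a b => Subtype.ext (hEc a a.2 b b.2)⟩⟩, hEe⟩
  have hEU := Cfsg.Agent.S1403.elemAb_uniq hG p hp E hEel hE3
  have hE1 : E ≠ ⊥ := by
    rintro rfl
    rw [Subgroup.card_bot] at hE3
    have := Nat.one_le_pow 2 p hp.pos
    omega
  exact mem_sigma_of_uniq hG hM hEM (isPGroup_of_pow_eq_one hEe) hE1 hEU

/-- an elementary abelian subgroup `A` of order `p ^ 2` properly contained in an elementary abelian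
`p`-subgroup lies in a unique maximal subgroup -/
theorem uniq_of_lt_elemAb (hG : IsMinSimpleOddOrder G) {A B : Subgroup G}
    (hA : IsElementaryAbelian p A) (hAcard : Nat.card A = p ^ 2)
    (hB : IsElementaryAbelian p B) (hAB : A ≤ B) (hne : B ≠ A) : InUniqueMaximal A := by
  have hp : p.Prime := Fact.out
  have hBc : ∀ a ∈ B, ∀ b ∈ B, a * b = b * a := fun a ha b hb =>
    congrArg Subtype.val (hB.1.is_comm.comm ⟨a, ha⟩ ⟨b, hb⟩)
  have hcard : p ^ 2 < Nat.card B := by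
    by_contra hle
    push Not at hle
    exact hne (Subgroup.eq_of_le_of_card_ge hAB (hAcard ▸ hle)).symm
  have hBU := Cfsg.Agent.S1403.elemAb_uniq hG p hp B hB hcard
  have hAnc : ¬ IsCyclic A := by
    apply Cfsg.Agent.Lib.Helper31.not_isCyclic_of_exp p hp A hA.2
    rw [hAcard]
    nlinarith [hp.two_le]
  have hBC : B ≤ Subgroup.centralizer (A : Set G) := by
    intro b hb
    rw [Subgroup.mem_centralizer_iff]
    intro a ha
    exact hBc a (hAB ha) b hb
  exact uniq_of_rank_three hG (isPGroup_of_pow_eq_one hB.2) hBc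
    (not_pRankLE_sub_iff.mpr ⟨B, le_rfl, hBc, hB.2, hcard⟩) hBU
    (isPGroup_of_pow_eq_one hA.2) hAnc
    (not_pRankLE_sub_iff.mpr ⟨B, hBC, hBc, hB.2, hcard⟩)

end Cfsg.Agent.Lib.Helper31.Bg10
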