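import Cfsg.Agent.Lib.Helper31.Bg10a
import Cfsg.Agent.Lib.Helper55.ElemAb

set_option autoImplicit false

/-! Bender–Glauberman Lemma 10.5 (second half): a subgroup `X` of order `p` with `N_G(X) ≤ M`,
`p ∉ σ(M)`, lies in an elementary abelian subgroup of order `p ^ 2` of `M`. -/

namespace Cfsg.Agent.Lib.Helper31.Bg10

open Cfsg Cfsg.Agent.Lib.Helper55

variable {G : Type*} [Group G] [Finite G] {p : ℕ} [Fact p.Prime]

/-- a central element of order `p` in a nontrivial `p`-subgroup -/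
theorem exists_central_order_p {T : Subgroup G} (hT : IsPGroup p T) (hT1 : T ≠ ⊥) :
    ∃ z ∈ T, orderOf z = p ∧ ∀ t ∈ T, t * z = z * t := by
  have : Nontrivial T := (Subgroup.nontrivial_iff_ne_bot T).mpr hT1
  have := hT.center_nontrivial
  have hpc : IsPGroup p (Subgroup.center T) := hT.to_subgroup _
  obtain ⟨n, hn⟩ := hpc.exists_card_eq
  have hn0 : n ≠ 0 := by
    rintro rfl
    rw [pow_zero] at hn
    have := (Nat.card_eq_one_iff_unique.mp hn).1
    exact not_subsingleton _ this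
  have hdvd : p ∣ Nat.card (Subgroup.center T) := by rw [hn]; exact dvd_pow_self p hn0
  obtain ⟨z, hz⟩ := exists_prime_orderOf_dvd_card' p hdvd
  refine ⟨((z : T) : G), (z : T).2, ?_, fun t ht => ?_⟩
  · rw [Subgroup.orderOf_coe, Subgroup.orderOf_coe, hz]
  · have := Subgroup.mem_center_iff.mp z.2 ⟨t, ht⟩
    exact congrArg Subtype.val this

omit [Finite G] in
theorem le_normalizer_of_conj_mem {K N : Subgroup G}
    (h : ∀ k ∈ K, ∀ n ∈ N, k * n * k⁻¹ ∈ N) : K ≤ Subgroup.normalizer (N : Set G) := by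
  intro k hk
  rw [Subgroup.mem_normalizer_iff]
  intro n
  constructor
  · exact h k hk n
  · intro hn
    have := h k⁻¹ (K.inv_mem hk) _ hn
    simpa [mul_assoc] using this

/-- the join of a subgroup `X` of order `p` and a commuting element `z` of order `p` outside `X`
is elementary abelian of order `p ^ 2` -/
theorem elemAb_sup_zpowers {X : Subgroup G} (hX : Nat.card X = p) {z : G} (hz : orderOf z = p)
    (hzX : ∀ x ∈ X, x * z = z * x) (hnot : z ∉ X) :
    IsElementaryAbelian p (X ⊔ Subgroup.zpowers z) ∧ Nat.card ↥(X ⊔ Subgroup.zpowers z) = p ^ 2 := by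
  have hp : p.Prime := Fact.out
  have hZcard : Nat.card (Subgroup.zpowers z) = p := by rw [Nat.card_zpowers, hz]
  have hXc : IsCyclic X := isCyclic_of_prime_card hX
  have hXcomm : ∀ a ∈ X, ∀ b ∈ X, a * b = b * a := by
    intro a ha b hb
    have := hXc.isMulCommutative
    exact congrArg Subtype.val (this.is_comm.comm ⟨a, ha⟩ ⟨b, hb⟩)
  have hXexp : ∀ a ∈ X, a ^ p = 1 := by
    intro a ha
    have : (⟨a, ha⟩ : X) ^ Nat.card X = 1 := pow_card_eq_one'
    rw [hX] at this
    exact congrArg Subtype.val this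
  have hZexp : ∀ a ∈ Subgroup.zpowers z, a ^ p = 1 := by
    intro a ha
    obtain ⟨k, rfl⟩ := Subgroup.mem_zpowers_iff.mp ha
    rw [← zpow_natCast, ← zpow_mul, mul_comm, zpow_mul, zpow_natCast, ← hz, pow_orderOf_eq_one,
      one_zpow]
  have hzC : Subgroup.zpowers z ≤ Subgroup.centralizer (X : Set G) := by
    rw [Subgroup.zpowers_le]
    rw [Subgroup.mem_centralizer_iff]
    intro x hx
    exact hzX x hx
  have hXZ : ∀ h ∈ X, ∀ k ∈ Subgroup.zpowers z, h * k = k * h := by
    intro h hh k hk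
    exact (Subgroup.mem_centralizer_iff.mp (hzC hk)) h hh
  have hdisj : X ⊓ Subgroup.zpowers z = ⊥ := by
    by_contra hne
    have hle : X ⊓ Subgroup.zpowers z ≤ Subgroup.zpowers z := inf_le_right
    have hdvd : Nat.card ↥(X ⊓ Subgroup.zpowers z) ∣ p := hZcard ▸ Subgroup.card_dvd_of_le hle
    rcases (Nat.dvd_prime hp).mp hdvd with h1 | h1
    · exact hne (Subgroup.card_eq_one.mp h1)
    · have := Subgroup.eq_of_le_of_card_ge hle (by rw [h1, hZcard])
      have hzmem : z ∈ X ⊓ Subgroup.zpowers z := by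
        rw [this]
        exact Subgroup.mem_zpowers z
      exact hnot hzmem.1
  refine ⟨?_, ?_⟩
  · let A : Bool → Subgroup G := fun i => bif i then X else Subgroup.zpowers z
    have hsup : X ⊔ Subgroup.zpowers z = ⨆ i, A i := by rw [iSup_bool_eq]; rfl
    have hcomm : ∀ i j, A i ≤ Subgroup.centralizer ((A j : Subgroup G) : Set G) := by
      intro i j a ha
      rw [Subgroup.mem_centralizer_iff]
      intro b hb
      cases i <;> cases j <;> simp only [A, cond_true, cond_false] at ha hb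
      · obtain ⟨k, rfl⟩ := Subgroup.mem_zpowers_iff.mp ha
        obtain ⟨l, rfl⟩ := Subgroup.mem_zpowers_iff.mp hb
        rw [← zpow_add, ← zpow_add, add_comm]
      · exact hXZ b hb a ha
      · exact (hXZ a ha b hb).symm
      · exact hXcomm b hb a ha
    have hexp : ∀ i, ∀ a ∈ A i, a ^ p = 1 := by
      intro i a ha
      cases i <;> simp only [A, cond_true, cond_false] at ha
      · exact hZexp a ha
      · exact hXexp a ha
    obtain ⟨h1, h2⟩ := iSup_comm_exp A hcomm hexp
    rw [hsup]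
    exact isElementaryAbelian_of_le h1 h2 le_rfl
  · rw [Cfsg.Agent.Lib.Helper06.card_sup_of_commute_of_disjoint X _ hXZ hdisj, hX, hZcard, sq]

/-- **Bender–Glauberman, Lemma 10.5 (b)**, main step -/
theorem exists_elemAb_sq {M : Subgroup G}
    (hp : p ∉ sigma M) {X : Subgroup G} (hX : Nat.card X = p)
    (hNX : Subgroup.normalizer (X : Set G) ≤ M) :
    ∃ A : Subgroup G, A ≤ M ∧ IsElementaryAbelian p A ∧ Nat.card A = p ^ 2 ∧ X ≤ A := by
  have hpp : p.Prime := Fact.out
  have hXM : X ≤ M := Subgroup.le_normalizer.trans hNX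
  have hXp : IsPGroup p X := IsPGroup.of_card (n := 1) (by rw [hX, pow_one])
  have hX1 : X ≠ ⊥ := by
    rintro rfl
    rw [Subgroup.card_bot] at hX
    exact hpp.one_lt.ne hX
  obtain ⟨T, hT, hXT⟩ := exists_isSylowIn_ge hXM hXp
  have hT1 : T ≠ ⊥ := by
    rintro rfl
    exact hX1 (le_bot_iff.mp hXT)
  by_cases h : ∃ z ∈ T, orderOf z = p ∧ (∀ t ∈ T, t * z = z * t) ∧ z ∉ X
  · obtain ⟨z, hzT, hzo, hzc, hzX⟩ := h
    obtain ⟨h1, h2⟩ := elemAb_sup_zpowers hX hzo (fun x hx => hzc x (hXT hx)) hzX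
    refine ⟨X ⊔ Subgroup.zpowers z, ?_, h1, h2, le_sup_left⟩
    exact sup_le hXM ((Subgroup.zpowers_le.mpr hzT).trans hT.1)
  · exfalso
    push Not at h
    obtain ⟨z₀, hz₀T, hz₀o, hz₀c⟩ := exists_central_order_p hT.2.1 hT1
    have hz₀X : z₀ ∈ X := h z₀ hz₀T hz₀o hz₀c
    have hXeq : Subgroup.zpowers z₀ = X := by
      apply Subgroup.eq_of_le_of_card_ge (Subgroup.zpowers_le.mpr hz₀X)
      rw [Nat.card_zpowers, hz₀o, hX]
    have hNT : Subgroup.normalizer (T : Set G) ≤ Subgroup.normalizer (X : Set G) := by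
      apply le_normalizer_of_conj_mem
      intro g hg n hn
      rw [← hXeq] at hn
      obtain ⟨k, rfl⟩ := Subgroup.mem_zpowers_iff.mp hn
      have hconj : g * z₀ * g⁻¹ ∈ X := by
        apply h
        · exact (Subgroup.mem_normalizer_iff.mp hg z₀).mp hz₀T
        · have : g * z₀ * g⁻¹ = MulAut.conj g z₀ := by simp
          rw [this, MulEquiv.orderOf_eq, hz₀o]
        · intro t ht
          have hginv : g⁻¹ ∈ Subgroup.normalizer (T : Set G) := Subgroup.inv_mem _ hg
          have ht' : g⁻¹ * t * g⁻¹⁻¹ ∈ T := (Subgroup.mem_normalizer_iff.mp hginv t).mp ht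
          rw [inv_inv] at ht'
          have hc := hz₀c _ ht'
          calc t * (g * z₀ * g⁻¹) = g * ((g⁻¹ * t * g) * z₀) * g⁻¹ := by group
            _ = g * (z₀ * (g⁻¹ * t * g)) * g⁻¹ := by rw [hc]
            _ = g * z₀ * g⁻¹ * t := by group
      have : g * z₀ ^ k * g⁻¹ = (g * z₀ * g⁻¹) ^ k := by
        have h1 : g * z₀ ^ k * g⁻¹ = MulAut.conj g (z₀ ^ k) := by simp
        have h2 : g * z₀ * g⁻¹ = MulAut.conj g z₀ := by simp
        rw [h1, h2, map_zpow]
      rw [this]
      exact X.zpow_mem hconj k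
    exact hp (mem_sigma_of_normalizer_le hT hT1 (hNT.trans hNX))

end Cfsg.Agent.Lib.Helper31.Bg10
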