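import Mathlib
import Cfsg.Agent.S1403
import Cfsg.Agent.S1404
import Cfsg.Agent.Lib.Helper55.CoprimeGen
import Cfsg.Agent.Lib.Helper71.BG11b

set_option autoImplicit false
set_option linter.unusedSectionVars false
set_option linter.unusedVariables false

/-! Bender–Glauberman: `sigma_disjoint` (BG 10.?) and Lemma 12.2(b). -/

namespace Cfsg.Agent.Lib.Helper31.BG12

open Cfsg Cfsg.Agent.Lib.Helper55 Cfsg.Agent.Lib.Helper31 Cfsg.Agent.Lib.Helper71.BG10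
  Cfsg.Agent.Lib.Helper71.BG11 Cfsg.Agent.Lib.Helper69.BG10

variable {G : Type*} [Group G] [Finite G]

/-- `σ` is invariant under conjugation -/
theorem mem_sigma_cj {p : ℕ} [Fact p.Prime] {M : Subgroup G} (hp : p ∈ sigma M) (g : G) :
    p ∈ sigma (cj g M) := by
  obtain ⟨S, hS⟩ := exists_good_of_sigma hp
  have h2 := good_cj hS g
  refine ⟨Fact.out, ?_, h2.sylowIn.toSylow, ?_⟩
  · rw [card_cj]; exact hp.2.1
  · rw [h2.sylowIn.map_toSylow]; exact h2.2.2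

/-- `sigma_disjoint` (a): for non-conjugate maximal subgroups, `α(M) ∩ σ(H) = ∅` -/
theorem alpha_sigma_disjoint (hG : IsMinSimpleOddOrder G) {M H : Subgroup G} (hM : IsCoatom M)
    (hH : IsCoatom H) (hnc : ∀ g : G, cj g M ≠ H) {q : ℕ} (hqα : q ∈ alpha M)
    (hqσ : q ∈ sigma H) : False := by
  have : Fact q.Prime := ⟨hqα.1⟩
  obtain ⟨E, hEM, hEc, hEp, hE3⟩ := not_pRankLE_sub_iff.mp hqα.2
  have hEea : IsElementaryAbelian q E :=
    ⟨⟨⟨fun a b => Subtype.ext (hEc a a.2 b b.2)⟩⟩, hEp⟩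
  have hU := Cfsg.Agent.S1403.elemAb_uniq hG q hqα.1 E hEea hE3
  obtain ⟨S, hS⟩ := exists_good_of_sigma hqσ
  obtain ⟨k, -, hk⟩ := hS.1.exists_conj_le (le_top : E ≤ ⊤)
    (Cfsg.Agent.Lib.Helper55.isPGroup_of_pow_eq_one hEp)
  have hU2 := inUniqueMaximal_cj k hU
  obtain ⟨L, ⟨hL, hEL⟩, huniq⟩ := hU2
  have h1 : H = L := huniq H ⟨hH, hk.trans hS.2.1⟩
  have h2 : cj k M = L := huniq (cj k M) ⟨isCoatom_cj k hM, cj_mono hEM⟩
  exact hnc k (h2.trans h1.symm)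

/-- a subgroup whose order has no prime divisor is trivial -/
theorem eq_bot_of_forall_prime_not_dvd {D : Subgroup G}
    (h : ∀ r : ℕ, r.Prime → ¬ r ∣ Nat.card D) : D = ⊥ := by
  by_contra hD
  have hDc : Nat.card D ≠ 1 := fun h1 => hD (Subgroup.card_eq_one.mp h1)
  obtain ⟨q, hqp, hqD⟩ := Nat.exists_prime_and_dvd hDc
  exact h q hqp hqD

theorem alphaCore_pi {M : Subgroup G} {r : ℕ} (hr : r.Prime)
    (hrd : r ∣ Nat.card (alphaCore M)) : r ∈ alpha M :=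
  piCoreOf_pi (alpha M) M r hr hrd

/-- `sigma_disjoint` (a): `M_α ∩ H_σ = 1` for non-conjugate maximal subgroups -/
theorem alphaCore_inf_sigmaCore (hG : IsMinSimpleOddOrder G) {M H : Subgroup G} (hM : IsCoatom M)
    (hH : IsCoatom H) (hnc : ∀ g : G, cj g M ≠ H) : alphaCore M ⊓ sigmaCore H = ⊥ := by
  apply eq_bot_of_forall_prime_not_dvd
  intro r hr hrd
  have h1 : r ∈ alpha M := alphaCore_pi hr (hrd.trans (Subgroup.card_dvd_of_le inf_le_left))
  have h2 : r ∈ sigma H :=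
    sigmaCore_pi hG hH hr (hrd.trans (Subgroup.card_dvd_of_le inf_le_right))
  exact alpha_sigma_disjoint hG hM hH hnc h1 h2

/-- `sigma_disjoint` (b): if `M_σ` is nilpotent and `M`, `H` are not conjugate then
`σ(M) ∩ σ(H) = ∅` -/
theorem sigma_sigma_disjoint (hG : IsMinSimpleOddOrder G) {M H : Subgroup G} (hM : IsCoatom M)
    (hH : IsCoatom H) (hnc : ∀ g : G, cj g M ≠ H) (hnil : Group.IsNilpotent (sigmaCore M))
    {q : ℕ} (hq : q ∈ sigma M) (hqH : q ∈ sigma H) : False := by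
  have : Fact q.Prime := ⟨hq.1⟩
  obtain ⟨Q, hQ, -⟩ := exists_isSylowIn_ge (p := q) (K := sigmaCore M) (Z := ⊥) bot_le
    IsPGroup.of_bot
  have hQtop : IsSylowIn q ⊤ Q :=
    isSylowIn_top_of_not_dvd_index hQ.2.1
      (not_dvd_index_of_isSylowIn hQ (sigmaCore_index hG hM hq))
  have hQ1 : Q ≠ ⊥ := by
    rintro rfl
    have h1 : ¬ q ∣ (⊥ : Subgroup G).index :=
      not_dvd_index_of_isSylowIn hQ (sigmaCore_index hG hM hq)
    rw [Subgroup.index_bot] at h1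
    exact h1 (hq.2.1.trans (Subgroup.card_subgroup_dvd_card M))
  have hMQ : M ≤ Subgroup.normalizer (Q : Set G) :=
    sylow_normal_of_nilpotent hnil hQ (le_normalizer_sigmaCore M)
  have hNQ : Subgroup.normalizer (Q : Set G) = M :=
    ms_normalizer_eq hG hM hQ1 (hQ.1.trans (sigmaCore_le M)) hMQ
  obtain ⟨S, hS⟩ := exists_good_of_sigma hqH
  obtain ⟨x, -, hx⟩ := hQtop.exists_conj hS.1
  have h3 : cj x M ≤ H := by
    rw [← hNQ, cj_normalizer, hx]
    exact hS.2.2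
  exact hnc x (ms_coatom_eq_of_le hH (isCoatom_cj x hM) h3)

/-- `sigma_disjoint` (b): `M_σ ∩ H_σ = 1` -/
theorem sigmaCore_inf_sigmaCore (hG : IsMinSimpleOddOrder G) {M H : Subgroup G} (hM : IsCoatom M)
    (hH : IsCoatom H) (hnc : ∀ g : G, cj g M ≠ H) (hnil : Group.IsNilpotent (sigmaCore M)) :
    sigmaCore M ⊓ sigmaCore H = ⊥ := by
  apply eq_bot_of_forall_prime_not_dvd
  intro r hr hrd
  have h1 : r ∈ sigma M :=
    sigmaCore_pi hG hM hr (hrd.trans (Subgroup.card_dvd_of_le inf_le_left))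
  have h2 : r ∈ sigma H :=
    sigmaCore_pi hG hH hr (hrd.trans (Subgroup.card_dvd_of_le inf_le_right))
  exact sigma_sigma_disjoint hG hM hH hnc hnil h1 h2

/-- BG Lemma 12.2(b), `σ` case: if `p ∈ σ(M)`, `1 ≠ X ≤ M` is a `p`-group and `N(X) ≤ g M g⁻¹`,
then `g M g⁻¹ = M` -/
theorem cj_eq_of_normalizer_le (hG : IsMinSimpleOddOrder G) {M : Subgroup G} (hM : IsCoatom M)
    {p : ℕ} [Fact p.Prime] (hp : p ∈ sigma M) {X : Subgroup G} (hXp : IsPGroup p X)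
    (hX1 : X ≠ ⊥) (hXM : X ≤ M) {g : G}
    (hN : Subgroup.normalizer (X : Set G) ≤ cj g M) : cj g M = M := by
  have hXg : cj g⁻¹ X ≤ M := by
    rw [← le_cj_iff]
    exact Subgroup.le_normalizer.trans hN
  obtain ⟨m, hm, c, hc, hgmc⟩ :=
    (Cfsg.Agent.S1404.result hG M hM p hp X hXp hX1 hXM).1 g⁻¹ hXg
  -- g = c⁻¹ m⁻¹
  have hg : g = c⁻¹ * m⁻¹ := by
    have : g = (g⁻¹)⁻¹ := (inv_inv g).symm
    rw [this, hgmc, mul_inv_rev]
  have h1 : cj g M = cj c⁻¹ M := by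
    rw [hg, cj_mul, cj_eq_self_of_mem (M.inv_mem hm)]
  have hcN : c⁻¹ ∈ cj c⁻¹ M := by
    rw [← h1]
    exact hN ((Subgroup.centralizer_le_normalizer _) (Subgroup.inv_mem _ hc))
  rw [mem_cj] at hcN
  have hcM : c⁻¹ ∈ M := by simpa using hcN
  rw [h1, cj_eq_self_of_mem hcM]

end Cfsg.Agent.Lib.Helper31.BG12
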