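import Mathlib
import Cfsg.Agent.S1414
import Cfsg.Agent.Lib.Helper01.BGBeta
import Cfsg.Agent.Lib.Helper40.BG36C1
import Cfsg.Agent.Lib.Helper31.BG12a

set_option autoImplicit false
set_option linter.unusedSectionVars false
set_option linter.unusedVariables false

/-! Bender–Glauberman Lemma 12.3. -/

namespace Cfsg.Agent.Lib.Helper31.BG12

open Cfsg Cfsg.Agent.Lib.Helper55 Cfsg.Agent.Lib.Helper31 Cfsg.Agent.Lib.Helper71.BG10
  Cfsg.Agent.Lib.Helper71.BG11 Cfsg.Agent.Lib.Helper69.BG10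
open scoped commutatorElement

variable {G : Type*} [Group G] [Finite G]

/-- `[K, A] ≤ K ∩ N` when `A ≤ N`, `A` normalizes `K`, and `K` normalizes `N` -/
theorem commutator_le_inf {K A N : Subgroup G} (hAK : A ≤ Subgroup.normalizer (K : Set G))
    (hAN : A ≤ N) (hKN : K ≤ Subgroup.normalizer (N : Set G)) : ⁅K, A⁆ ≤ K ⊓ N := by
  rw [Subgroup.commutator_le]
  intro k hk a ha
  rw [commutatorElement_def]
  refine Subgroup.mem_inf.mpr ⟨?_, ?_⟩
  · have h1 : a * k⁻¹ * a⁻¹ ∈ K :=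
      (Subgroup.mem_normalizer_iff.mp (hAK ha) k⁻¹).mp (K.inv_mem hk)
    have : k * a * k⁻¹ * a⁻¹ = k * (a * k⁻¹ * a⁻¹) := by group
    rw [this]
    exact K.mul_mem hk h1
  · have h1 : k * a * k⁻¹ ∈ N := (Subgroup.mem_normalizer_iff.mp (hKN hk) a).mp (hAN ha)
    exact N.mul_mem h1 (N.inv_mem (hAN ha))

/-- a `p'`-subgroup of `S ⊔ A` lies in the `p'`-group `S`, when the `p`-group `A` normalizes `S` -/
theorem le_of_coprime_of_le_sup {p : ℕ} [Fact p.Prime] {S A X : Subgroup G} (hA : IsPGroup p A)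
    (hAS : A ≤ Subgroup.normalizer (S : Set G)) (hS : ¬ p ∣ Nat.card S) (hX : ¬ p ∣ Nat.card X)
    (hXle : X ≤ A ⊔ S) : X ≤ S := by
  have hp : p.Prime := Fact.out
  have hHall : IsPiHallOf {r | r ≠ p} S (A ⊔ S) := by
    refine ⟨le_sup_right, ?_, ?_⟩
    · intro r hr hrd hrp
      exact hS (hrp ▸ hrd)
    · intro r hr hrp hrd
      have h1 : S.relIndex (A ⊔ S) ∣ Nat.card A :=
        Cfsg.Agent.Lib.Helper40.BG36C1.relIndex_sup_dvd A S hAS
      obtain ⟨n, hn⟩ := IsPGroup.iff_card.mp hA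
      rw [hn] at h1
      have h2 : r ∣ p ^ n := hrd.trans h1
      exact hrp ((Nat.prime_dvd_prime_iff_eq hr hp).mp (hr.dvd_of_dvd_pow h2))
  refine le_of_isPiHallOf_normal hHall (sup_le hAS Subgroup.le_normalizer) hXle ?_
  intro r hr hrd hrp
  exact hX (hrp ▸ hrd)


/-- if `Hs` (normalized by `H`) has a normal `q`-complement, then a `q`-subgroup `T ≤ H` and a
`q'`-subgroup `A ≤ Hs` normalizing `T` commute -/
theorem comm_eq_bot_of_npc {H Hs T A : Subgroup G} {q : ℕ} [Fact q.Prime]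
    (hHs : H ≤ Subgroup.normalizer (Hs : Set G)) (hnpc : HasNormalPComplement q ↥Hs)
    (hT : IsPGroup q T) (hTH : T ≤ H) (hA : (Nat.card A).Coprime q) (hAHs : A ≤ Hs)
    (hAT : A ≤ Subgroup.normalizer (T : Set G)) : ⁅T, A⁆ = ⊥ := by
  obtain ⟨N, hNn, hNc, n, hNi⟩ := Cfsg.Agent.Lib.Helper01.BGBeta.exists_normal_of_npc hnpc
  -- characterization of `N`
  have hchar : ∀ x : ↥Hs, x ∈ N ↔ (orderOf x).Coprime q := by
    intro x
    constructor
    · intro hx
      have h1 : orderOf (⟨x, hx⟩ : N) ∣ Nat.card N := orderOf_dvd_natCard _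
      have h2 : orderOf (⟨x, hx⟩ : N) = orderOf x := Subgroup.orderOf_mk x hx
      rw [h2] at h1
      exact Nat.Coprime.coprime_dvd_left h1 hNc
    · intro hx
      have h1 : orderOf (QuotientGroup.mk' N x) ∣ orderOf x := orderOf_map_dvd _ x
      have h2 : orderOf (QuotientGroup.mk' N x) ∣ Nat.card (↥Hs ⧸ N) := orderOf_dvd_natCard _
      have h3 : Nat.card (↥Hs ⧸ N) = q ^ n := by rw [← hNi]; rfl
      rw [h3] at h2
      have h4 : (orderOf x).Coprime (q ^ n) := Nat.Coprime.pow_right n hx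
      have h5 : orderOf (QuotientGroup.mk' N x) = 1 :=
        Nat.Coprime.eq_one_of_dvd (Nat.Coprime.coprime_dvd_left h1 h4) h2
      rw [orderOf_eq_one_iff] at h5
      exact (QuotientGroup.eq_one_iff x).mp h5
  set N' : Subgroup G := N.map Hs.subtype with hN'
  have hmem : ∀ y : G, y ∈ N' ↔ y ∈ Hs ∧ (orderOf y).Coprime q := by
    intro y
    rw [hN', Subgroup.mem_map]
    constructor
    · rintro ⟨x, hx, rfl⟩
      refine ⟨x.2, ?_⟩
      have := (hchar x).mp hx
      rwa [← Subgroup.orderOf_coe] at this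
    · rintro ⟨hy, hyo⟩
      refine ⟨⟨y, hy⟩, (hchar ⟨y, hy⟩).mpr ?_, rfl⟩
      rwa [Subgroup.orderOf_mk]
  have hAN' : A ≤ N' := by
    intro a ha
    rw [hmem]
    refine ⟨hAHs ha, ?_⟩
    have h1 : orderOf (⟨a, ha⟩ : A) ∣ Nat.card A := orderOf_dvd_natCard _
    rw [Subgroup.orderOf_mk] at h1
    exact Nat.Coprime.coprime_dvd_left h1 hA
  have hTN' : T ≤ Subgroup.normalizer (N' : Set G) := by
    intro t ht
    rw [Subgroup.mem_normalizer_iff]
    intro y
    rw [hmem, hmem]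
    have h1 : y ∈ Hs ↔ t * y * t⁻¹ ∈ Hs := Subgroup.mem_normalizer_iff.mp (hHs (hTH ht)) y
    have h2 : orderOf (t * y * t⁻¹) = orderOf y := by
      have := (MulAut.conj t).orderOf_eq y
      rwa [MulAut.conj_apply] at this
    rw [h1, h2]
  have h6 : ⁅T, A⁆ ≤ T ⊓ N' := commutator_le_inf hAT hAN' hTN'
  have h7 : T ⊓ N' = ⊥ := by
    rw [eq_bot_iff]
    intro x hx
    obtain ⟨hxT, hxN⟩ := Subgroup.mem_inf.mp hx
    obtain ⟨k, hk⟩ := hT ⟨x, hxT⟩
    have h8 : x ^ q ^ k = 1 := by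
      have := congrArg Subtype.val hk
      simpa using this
    have h9 : orderOf x ∣ q ^ k := orderOf_dvd_of_pow_eq_one h8
    have h10 : (orderOf x).Coprime (q ^ k) := Nat.Coprime.pow_right k ((hmem x).mp hxN).2
    have h11 : orderOf x = 1 := Nat.Coprime.eq_one_of_dvd h10 h9
    rw [Subgroup.mem_bot]
    exact orderOf_eq_one_iff.mp h11
  rw [eq_bot_iff]
  exact h7 ▸ h6


variable {M H A A0 : Subgroup G} {p : ℕ} [Fact p.Prime]

theorem le_of_normalizer_le (hA : IsElementaryAbelian p A) (hA0 : A0 ≤ A)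
    (hN : Subgroup.normalizer (A0 : Set G) ≤ H) : A ≤ H := by
  refine le_trans ?_ ((Subgroup.centralizer_le_normalizer _).trans hN)
  intro a ha
  rw [Subgroup.mem_centralizer_iff]
  intro b hb
  exact congrArg Subtype.val (hA.1.is_comm.comm ⟨b, hA0 hb⟩ ⟨a, ha⟩)

/-- the exceptional case of BG 12.3, for a general `A`-invariant `p'`-subgroup `D` of `M` -/
theorem centralizes_inf_of_exc (hG : IsMinSimpleOddOrder G) (hExc : Exc H p A A0)
    (h117 : H ≤ Subgroup.normalizer ((sigmaCore H ⊔ A : Subgroup G) : Set G))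
    (hM : IsCoatom M) {D : Subgroup G} (hDM : D ≤ M)
    (hAD : A ≤ Subgroup.normalizer (D : Set G)) (hDp : ¬ p ∣ Nat.card D) (hAM : A ≤ M)
    (hne : H ≠ M) (hdisj : (∀ g : G, cj g M ≠ H) → D ⊓ sigmaCore H = ⊥) :
    A ≤ Subgroup.centralizer ((D ⊓ H : Subgroup G) : Set G) := by
  set K : Subgroup G := D ⊓ H with hK
  have hAH : A ≤ H := hExc.le
  have hAK : A ≤ Subgroup.normalizer (K : Set G) :=
    inf_normalizer_le A D H hAD (hAH.trans Subgroup.le_normalizer)
  set Nn : Subgroup G := sigmaCore H ⊔ A with hNn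
  have hANn : A ≤ Nn := le_sup_right
  have hKNn : K ≤ Subgroup.normalizer (Nn : Set G) := inf_le_right.trans h117
  have h1 : ⁅K, A⁆ ≤ K ⊓ Nn := commutator_le_inf hAK hANn hKNn
  have hXp : ¬ p ∣ Nat.card ↥(K ⊓ Nn) := fun hd =>
    hDp (hd.trans (Subgroup.card_dvd_of_le (inf_le_left.trans inf_le_left)))
  have h2 : K ⊓ Nn ≤ sigmaCore H :=
    le_of_coprime_of_le_sup (S := sigmaCore H) (A := A) hExc.isPGroup
      (hAH.trans (le_normalizer_sigmaCore H)) (hExc.not_dvd_card_sigmaCore hG) hXp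
      (inf_le_right.trans (by rw [hNn, sup_comm]))
  have h3 : ⁅K, A⁆ ≤ K ⊓ sigmaCore H := le_inf (h1.trans inf_le_left) (h1.trans h2)
  have h4 : K ⊓ sigmaCore H = ⊥ := by
    by_cases hc : ∃ g, cj g M = H
    · obtain ⟨g, hg⟩ := hc
      have hM' : M = cj g⁻¹ H := by rw [← hg, cj_inv_cj]
      have hgH : g⁻¹ ∉ H := fun h => hne (by rw [hM', cj_eq_self_of_mem h])
      have h5 := hExc.sigmaCore_inf_conj hG hgH (hM' ▸ hAM)
      rw [← hM'] at h5
      rw [eq_bot_iff]
      calc K ⊓ sigmaCore H ≤ M ⊓ sigmaCore H := inf_le_inf_right _ (inf_le_left.trans hDM)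
        _ = sigmaCore H ⊓ M := inf_comm _ _
        _ = ⊥ := h5
    · push Not at hc
      rw [eq_bot_iff]
      calc K ⊓ sigmaCore H ≤ D ⊓ sigmaCore H := inf_le_inf_right _ inf_le_left
        _ = ⊥ := hdisj hc
  have h6 : ⁅K, A⁆ = ⊥ := eq_bot_iff.mpr (h4 ▸ h3)
  have h7 : K ≤ Subgroup.centralizer (A : Set G) :=
    Subgroup.commutator_eq_bot_iff_le_centralizer.mp h6
  exact le_centralizer_symm h7

/-- **BG Lemma 12.3(a)** (with Theorem 11.7 for `H` as a hypothesis) -/
theorem cent_sigmaCore_inf (hG : IsMinSimpleOddOrder G) (hM : IsCoatom M) (hH : IsCoatom H)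
    (hne : H ≠ M) (hAM : A ≤ M) (hA : IsElementaryAbelian p A) (hA2 : Nat.card A = p ^ 2)
    (hA0 : A0 ≤ A) (hA0c : Nat.card A0 = p) (hN : Subgroup.normalizer (A0 : Set G) ≤ H)
    (h117 : Exc H p A A0 → H ≤ Subgroup.normalizer ((sigmaCore H ⊔ A : Subgroup G) : Set G))
    (hp : p ∉ sigma M) :
    A ≤ Subgroup.centralizer ((sigmaCore M ⊓ H : Subgroup G) : Set G) := by
  have hpp : p.Prime := Fact.out
  have hAH : A ≤ H := le_of_normalizer_le hA hA0 hN
  have hAp : IsPGroup p A := IsPGroup.of_card hA2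
  have hDp : ¬ p ∣ Nat.card (sigmaCore M) := fun hd => hp (sigmaCore_pi hG hM hpp hd)
  have hAD : A ≤ Subgroup.normalizer (sigmaCore M : Set G) :=
    hAM.trans (le_normalizer_sigmaCore M)
  by_cases hpH : p ∈ sigma H
  · have hnc : ∀ g, cj g H ≠ M := fun g e => hp (e ▸ mem_sigma_cj hpH g)
    have hAσ : A ≤ sigmaCore H := by
      refine le_of_isPiHallOf_normal (Cfsg.Agent.S1350.result hG H hH).1
        (le_normalizer_sigmaCore H) hAH ?_
      intro r hr hrd
      rw [hA2] at hrd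
      have := (Nat.prime_dvd_prime_iff_eq hr hpp).mp (hr.dvd_of_dvd_pow hrd)
      exact this ▸ hpH
    set K : Subgroup G := sigmaCore M ⊓ H with hK
    have hAK : A ≤ Subgroup.normalizer (K : Set G) :=
      inf_normalizer_le A _ H hAD (hAH.trans Subgroup.le_normalizer)
    have hKcop : (Nat.card K).Coprime p := by
      apply Nat.Coprime.symm
      rw [Nat.Prime.coprime_iff_not_dvd hpp]
      exact fun hd => hDp (hd.trans (Subgroup.card_dvd_of_le inf_le_left))
    have hKc : K ≤ Subgroup.centralizer (A : Set G) := by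
      refine le_of_invariant_sylows_le hAp hKcop hAK ?_
      intro q hq hqp T hT hAT
      have : Fact q.Prime := ⟨hq⟩
      by_cases hT1 : T = ⊥
      · rw [hT1]; exact bot_le
      have hqT : q ∣ Nat.card T := ms_prime_dvd_card hG hT.2.1 hT1
      have hqM : q ∈ sigma M :=
        sigmaCore_pi hG hM hq (hqT.trans (Subgroup.card_dvd_of_le (hT.1.trans inf_le_left)))
      have hTH : T ≤ H := hT.1.trans inf_le_right
      have hAq : (Nat.card A).Coprime q := by
        rw [hA2]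
        exact Nat.Coprime.pow_left 2 ((Nat.coprime_primes hpp hq).mpr (Ne.symm hqp))
      have hcomm : ⁅T, A⁆ = ⊥ := by
        by_cases hqH : q ∈ sigma H
        · have hqα : q ∉ alpha H := fun h => alpha_sigma_disjoint hG hH hM hnc h hqM
          have hqβ : q ∉ beta H := fun h => hqα h.1
          have hnpc := ((Cfsg.Agent.S1414.result hG H hH).2.2.2.2 q hq hqH.2.1 hqβ).2.1
          exact comm_eq_bot_of_npc (le_normalizer_sigmaCore H) hnpc hT.2.1 hTH hAq hAσ hAT
        · have h1 := commutator_le_inf hAT hAσ (hTH.trans (le_normalizer_sigmaCore H))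
          have h2 : T ⊓ sigmaCore H = ⊥ := by
            apply eq_bot_of_forall_prime_not_dvd
            intro r hr hrd
            have h3 := forall_prime_of_isPGroup q T hT.2.1 r hr
              (hrd.trans (Subgroup.card_dvd_of_le inf_le_left))
            rw [Set.mem_singleton_iff] at h3
            have h4 : r ∈ sigma H :=
              sigmaCore_pi hG hH hr (hrd.trans (Subgroup.card_dvd_of_le inf_le_right))
            exact hqH (h3 ▸ h4)
          exact eq_bot_iff.mpr (h2 ▸ h1)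
      exact Subgroup.commutator_eq_bot_iff_le_centralizer.mp hcomm
    exact le_centralizer_symm hKc
  · have hExc : Exc H p A A0 := ⟨hH, hpH, hAH, hA, hA2, hA0, hA0c, hN⟩
    refine centralizes_inf_of_exc hG hExc (h117 hExc) hM (sigmaCore_le M) hAD hDp hAM hne ?_
    intro hnc
    have hnc' : ∀ g, cj g H ≠ M := by
      intro g e
      apply hnc g⁻¹
      rw [← e, cj_inv_cj]
    have := sigmaCore_inf_sigmaCore hG hH hM hnc' (hExc.sigmaCore_nilpotent hG)
    rwa [inf_comm] at this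

/-- **BG Lemma 12.3(b)** (with Theorem 11.7 for `H` as a hypothesis) -/
theorem cent_alphaCore_inf (hG : IsMinSimpleOddOrder G) (hM : IsCoatom M) (hH : IsCoatom H)
    (hne : H ≠ M) (hAM : A ≤ M) (hA : IsElementaryAbelian p A) (hA2 : Nat.card A = p ^ 2)
    (hA0 : A0 ≤ A) (hA0c : Nat.card A0 = p) (hN : Subgroup.normalizer (A0 : Set G) ≤ H)
    (h117 : Exc H p A A0 → H ≤ Subgroup.normalizer ((sigmaCore H ⊔ A : Subgroup G) : Set G))
    (hp : p ∉ alpha M) :
    A ≤ Subgroup.centralizer ((alphaCore M ⊓ H : Subgroup G) : Set G) := by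
  have hpp : p.Prime := Fact.out
  have hAH : A ≤ H := le_of_normalizer_le hA hA0 hN
  have hAp : IsPGroup p A := IsPGroup.of_card hA2
  have hDp : ¬ p ∣ Nat.card (alphaCore M) := fun hd => hp (alphaCore_pi hpp hd)
  have hDM : alphaCore M ≤ M := piCoreOf_le (alpha M) M
  have hAD : A ≤ Subgroup.normalizer (alphaCore M : Set G) :=
    hAM.trans (le_normalizer_piCoreOf (alpha M) M)
  by_cases hpH : p ∈ sigma H
  · -- `M`, `H` are not conjugate
    have hnc : ∀ g, cj g M ≠ H := by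
      intro g e
      have hpM : p ∈ sigma M := by
        have := mem_sigma_cj hpH g⁻¹
        rwa [← e, cj_inv_cj] at this
      have hA0p : IsPGroup p A0 := IsPGroup.of_card (n := 1) (by rw [hA0c, pow_one])
      have hA01 : A0 ≠ ⊥ := by
        rintro rfl
        rw [Subgroup.card_bot] at hA0c
        exact hpp.one_lt.ne hA0c
      have := cj_eq_of_normalizer_le hG hM hpM hA0p hA01 (hA0.trans hAM) (g := g) (e ▸ hN)
      exact hne (e ▸ this)
    have hAσ : A ≤ sigmaCore H := by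
      refine le_of_isPiHallOf_normal (Cfsg.Agent.S1350.result hG H hH).1
        (le_normalizer_sigmaCore H) hAH ?_
      intro r hr hrd
      rw [hA2] at hrd
      have := (Nat.prime_dvd_prime_iff_eq hr hpp).mp (hr.dvd_of_dvd_pow hrd)
      exact this ▸ hpH
    set K : Subgroup G := alphaCore M ⊓ H with hK
    have hAK : A ≤ Subgroup.normalizer (K : Set G) :=
      inf_normalizer_le A _ H hAD (hAH.trans Subgroup.le_normalizer)
    have h1 : ⁅K, A⁆ ≤ K ⊓ sigmaCore H :=
      commutator_le_inf hAK hAσ (inf_le_right.trans (le_normalizer_sigmaCore H))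
    have h2 : K ⊓ sigmaCore H = ⊥ := by
      rw [eq_bot_iff]
      calc K ⊓ sigmaCore H ≤ alphaCore M ⊓ sigmaCore H := inf_le_inf_right _ inf_le_left
        _ = ⊥ := alphaCore_inf_sigmaCore hG hM hH hnc
    have h3 : ⁅K, A⁆ = ⊥ := eq_bot_iff.mpr (h2 ▸ h1)
    exact le_centralizer_symm (Subgroup.commutator_eq_bot_iff_le_centralizer.mp h3)
  · have hExc : Exc H p A A0 := ⟨hH, hpH, hAH, hA, hA2, hA0, hA0c, hN⟩
    exact centralizes_inf_of_exc hG hExc (h117 hExc) hM hDM hAD hDp hAM hne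
      (fun hnc => alphaCore_inf_sigmaCore hG hM hH hnc)

end Cfsg.Agent.Lib.Helper31.BG12
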