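import Mathlib
import Cfsg.Agent.Lib.Helper16.BG124Defs
import Cfsg.Agent.Lib.Helper71.BG11e
import Cfsg.Agent.Lib.Helper31.BG12b

set_option autoImplicit false
set_option linter.unusedSectionVars false

/-! BG Lemma 12.3 in helper16's shape `Hyp123 G`, from BG 11.7 (helper71's `Leaves G`). -/

namespace Cfsg.Agent.Lib.Helper31.BG12

open Cfsg Cfsg.Agent.Lib.Helper71.BG11

variable {G : Type*} [Group G] [Finite G]

/-- BG 12.3 from Theorem 11.7 given as a hypothesis for every exceptional tuple -/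
theorem hyp123_of_117 (hG : IsMinSimpleOddOrder G)
    (h117 : ∀ (H : Subgroup G) (p : ℕ) [Fact p.Prime] (A A0 : Subgroup G), Exc H p A A0 →
      H ≤ Subgroup.normalizer ((sigmaCore H ⊔ A : Subgroup G) : Set G)) :
    Cfsg.Agent.Lib.Helper16.BG124.Hyp123 G := by
  intro M H p _ A A₀ hM hH hne hAM hA hA2 hA0 hA0c hN
  exact ⟨fun hp => cent_sigmaCore_inf hG hM hH hne hAM hA hA2 hA0 hA0c hN (h117 H p A A₀) hp,
    fun hp => cent_alphaCore_inf hG hM hH hne hAM hA hA2 hA0 hA0c hN (h117 H p A A₀) hp⟩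

/-- BG 12.3 from the leaves of BG 11.7 -/
theorem hyp123_of_leaves (hG : IsMinSimpleOddOrder G) (hL : Leaves G) :
    Cfsg.Agent.Lib.Helper16.BG124.Hyp123 G :=
  hyp123_of_117 hG (fun _ _ _ _ _ h => h.le_normalizer_sup hG hL)

end Cfsg.Agent.Lib.Helper31.BG12
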