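import Mathlib
import Cfsg.Agent.Lib.Helper31.BG134Defs
import Cfsg.Agent.Lib.Helper55.SylowIn
import Cfsg.Agent.Lib.Helper55.Uniq
import Cfsg.Agent.Lib.Helper71.BG11a

/-!
# BG Lemma 13.4 (S1428), leaf Q: an `R`-invariant Sylow subgroup of `C_{M_σ}(P)` not centralized by `R`
-/

set_option autoImplicit false

namespace Cfsg.Agent.Lib.Helper31.BG134

open Cfsg Cfsg.Agent.Lib.Helper55

variable {G : Type*} [Group G] [Finite G]

/-- KEYSTONE 142820  K-S1428-Q. -/
theorem Ctx.exists_sylow_not_centralized {M P R H : Subgroup G} {p r : ℕ} (c : Ctx M P R H p r) :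
    ∃ (q : ℕ) (Q₀ : Subgroup G), q.Prime ∧ Q₀ ≤ CP M P ∧ IsPGroup q Q₀ ∧
      R ≤ Subgroup.normalizer (Q₀ : Set G) ∧ ¬ Q₀ ≤ Subgroup.centralizer (R : Set G) := by
  by_contra hcon
  push Not at hcon
  apply c.hnc
  haveI : Fact r.Prime := ⟨c.hr⟩
  have hRr : IsPGroup r R := IsPGroup.of_card (n := 1) (by rw [c.hRc, pow_one])
  have hcop : (Nat.card ↥(CP M P)).Coprime r := by
    apply Nat.Coprime.symm
    rw [Nat.Prime.coprime_iff_not_dvd c.hr]
    intro hd
    exact c.hrσ (Cfsg.Agent.Lib.Helper71.BG11.sigmaCore_pi c.hG c.hM c.hr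
      (hd.trans (Subgroup.card_dvd_of_le inf_le_left)))
  have hnorm : R ≤ Subgroup.normalizer ((CP M P : Subgroup G) : Set G) := by
    intro x hx
    have h1 : x ∈ Subgroup.normalizer (sigmaCore M : Set G) :=
      Cfsg.Agent.Lib.Helper71.BG11.le_normalizer_sigmaCore M (c.hRM hx)
    have h2 : x ∈ Subgroup.normalizer ((Subgroup.centralizer (P : Set G) : Subgroup G) : Set G) :=
      Subgroup.le_normalizer (c.hRP hx)
    rw [Subgroup.mem_normalizer_iff] at h1 h2 ⊢
    intro y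
    rw [Subgroup.mem_inf, Subgroup.mem_inf, h1 y, h2 y]
  refine Cfsg.Agent.Lib.Helper55.le_of_invariant_sylows_le (p := r) hRr hcop hnorm ?_
  intro q hq _ T hT hRT
  exact hcon q T hq hT.1 hT.2.1 hRT

end Cfsg.Agent.Lib.Helper31.BG134
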