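import Mathlib
import Cfsg.Agent.Lib.Helper31.BG134Defs2
import Cfsg.Agent.Lib.Helper31.BG12a
import Cfsg.Agent.Lib.Helper55.SylowIn
import Cfsg.Agent.Lib.Helper16.BG134Asm
import Cfsg.Agent.Lib.Helper01.BG134T3N
import Cfsg.Agent.Lib.Helper11.BG134AB
import Cfsg.Agent.Lib.Helper13.BG134A1
import Cfsg.Agent.Lib.Helper26.BG134B
import Cfsg.Agent.Lib.Helper31.BG134Q
import Cfsg.Agent.Lib.Helper52.BG134A2
import Cfsg.Agent.Lib.Helper55.BG134G9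
import Cfsg.Agent.Lib.Helper58.BG134A3
import Cfsg.Agent.Lib.Helper58.BG134G3
import Cfsg.Agent.Lib.Helper65.BG134D4
import Cfsg.Agent.Lib.Helper65.BG134G1
import Cfsg.Agent.Lib.Helper65.BG134NR
import Cfsg.Agent.Lib.Helper70.BG134G2
import Cfsg.Agent.Lib.Helper96.BG134A4
import Cfsg.Agent.Lib.Helper97.BG134G4

/-! # BG Lemma 13.4 (S1428): the leaves used by the glue, re-exported under one namespace
(each one delivered by another seat with the exact signature of notes/S1428_keystones*.lean.txt). -/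

set_option autoImplicit false

namespace Cfsg.Agent.Lib.Helper31.BG134L

open Cfsg Cfsg.Agent.Lib.Helper55 Cfsg.Agent.Lib.Helper31.BG134

variable {G : Type*} [Group G] [Finite G]

theorem le_commutator_of_mem_sigma (hG : IsMinSimpleOddOrder G) {H : Subgroup G} (hH : IsCoatom H)
    {s : ℕ} [Fact s.Prime] (hs : s ∈ sigma H) {X : Subgroup G} (hXH : X ≤ H) (hXs : IsPGroup s X) :
    X ≤ ⁅H, H⁆ :=
  Cfsg.Agent.Lib.Helper65.BG134.le_commutator_of_mem_sigma hG hH hs hXH hXs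

theorem le_commutator_of_mem_tau3 (hG : IsMinSimpleOddOrder G) {H : Subgroup G} (hH : IsCoatom H)
    {s : ℕ} [Fact s.Prime] (hs : s ∈ tau3 H) {X : Subgroup G} (hXH : X ≤ H) (hXs : IsPGroup s X) :
    X ≤ ⁅H, H⁆ :=
  Cfsg.Agent.Lib.Helper70.BG134.le_commutator_of_mem_tau3 hG hH hs hXH hXs

theorem centralizes_of_le_commutator (hG : IsMinSimpleOddOrder G) {M H : Subgroup G}
    (hM : IsCoatom M) (hH : IsCoatom H) (hnc : ∀ g : G, cj g M ≠ H)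
    {s : ℕ} [Fact s.Prime] (hsM : s ∉ sigma M) {X : Subgroup G} (hXs : IsPGroup s X)
    (hXM : X ≤ M) (hXH : X ≤ H) (hXc : X ≤ ⁅H, H⁆) :
    X ≤ Subgroup.centralizer ((sigmaCore M ⊓ H : Subgroup G) : Set G) :=
  Cfsg.Agent.Lib.Helper58.BG134.centralizes_of_le_commutator hG hM hH hnc hsM hXs hXM hXH hXc

theorem centralizes_of_mem_tau2 (hG : IsMinSimpleOddOrder G) {M H : Subgroup G}
    (hM : IsCoatom M) (hH : IsCoatom H) (hnc : ∀ g : G, cj g M ≠ H)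
    {s : ℕ} [Fact s.Prime] (hsM : s ∉ sigma M) (hsH : s ∈ tau2 H) {X : Subgroup G}
    (hXs : IsPGroup s X) (hXM : X ≤ M) (hXH : X ≤ H) :
    X ≤ Subgroup.centralizer ((sigmaCore M ⊓ H : Subgroup G) : Set G) :=
  Cfsg.Agent.Lib.Helper97.BG134.centralizes_of_mem_tau2 hG hM hH hnc hsM hsH hXs hXM hXH

theorem comm_of_sigma_sigma (hG : IsMinSimpleOddOrder G) {M H : Subgroup G} (hM : IsCoatom M)
    (hH : IsCoatom H) (hnc : ∀ g : G, cj g M ≠ H) {q : ℕ} [Fact q.Prime] (hqM : q ∈ sigma M)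
    (hqH : q ∈ sigma H) :
    q ∉ beta M ∧ ¬ q ∣ Nat.card ↥⁅sigmaCore M, sigmaCore M⁆ ∧
      ∀ Q : Subgroup G, Q ≤ M → IsPGroup q Q → ∀ a ∈ Q, ∀ b ∈ Q, a * b = b * a :=
  Cfsg.Agent.Lib.Helper55.BG134.comm_of_sigma_sigma hG hM hH hnc hqM hqH

theorem normalizer_le_of_rank (hG : IsMinSimpleOddOrder G) {H : Subgroup G} (hH : IsCoatom H)
    {Q : Subgroup G} (hQH : Q ≤ H) (hQ1 : Q ≠ ⊥)
    (hQα : ∀ q : ℕ, q.Prime → q ∣ Nat.card Q → q ∉ alpha H)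
    (hrk : ¬ RankLE 1 ↥(alphaCore H ⊓ Subgroup.centralizer (Q : Set G))) :
    Subgroup.normalizer (Q : Set G) ≤ H :=
  Cfsg.Agent.Lib.Helper65.BG134.normalizer_le_of_rank hG hH hQH hQ1 hQα hrk

theorem commutator_fix_eq_bot {q : ℕ} [Fact q.Prime] (Q₀ R : Subgroup G) (hQ₀ : IsPGroup q Q₀)
    (hab : ∀ a ∈ Q₀, ∀ b ∈ Q₀, a * b = b * a) (hRQ : R ≤ Subgroup.normalizer (Q₀ : Set G))
    (hR : ¬ q ∣ Nat.card R) :
    ⁅Q₀, R⁆ ≤ Q₀ ∧ R ≤ Subgroup.normalizer ((⁅Q₀, R⁆ : Subgroup G) : Set G) ∧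
      ⁅Q₀, R⁆ ⊓ Subgroup.centralizer (R : Set G) = ⊥ ∧
      (¬ Q₀ ≤ Subgroup.centralizer (R : Set G) → ⁅Q₀, R⁆ ≠ ⊥) :=
  Cfsg.Agent.Lib.Helper11.BG134.commutator_fix_eq_bot Q₀ R hQ₀ hab hRQ hR

theorem Ctx.q_not_tau2 {M P R H : Subgroup G} {p r : ℕ} (c : Ctx M P R H p r)
    (hnc : ∀ g : G, cj g M ≠ H) (hpσ : p ∈ sigma H) (hC : sigmaCore M ⊓ H = CP M P)
    {q : ℕ} (hq : q.Prime) (hqC : q ∣ Nat.card ↥(CP M P)) : q ∉ tau2 H :=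
  Cfsg.Agent.Lib.Helper65.BG134.Ctx.q_not_tau2 c hnc hpσ hC hq hqC

theorem Ctx.exists_sylow_not_centralized {M P R H : Subgroup G} {p r : ℕ} (c : Ctx M P R H p r) :
    ∃ (q : ℕ) (Q₀ : Subgroup G), q.Prime ∧ Q₀ ≤ CP M P ∧ IsPGroup q Q₀ ∧
      R ≤ Subgroup.normalizer (Q₀ : Set G) ∧ ¬ Q₀ ≤ Subgroup.centralizer (R : Set G) :=
  Cfsg.Agent.Lib.Helper31.BG134.Ctx.exists_sylow_not_centralized c

theorem not_normalizer_le_of_mem_tau3 (hG : IsMinSimpleOddOrder G) {H : Subgroup G} (hH : IsCoatom H)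
    {q : ℕ} [Fact q.Prime] (hq : q ∈ tau3 H) {Q : Subgroup G} (hQH : Q ≤ H) (hQq : IsPGroup q Q)
    (hQ1 : Q ≠ ⊥) : ¬ Subgroup.normalizer (Q : Set G) ≤ H :=
  Cfsg.Agent.Lib.Helper01.BG134.not_normalizer_le_of_mem_tau3 hG hH hq hQH hQq hQ1

theorem Ctx.caseB {M P R H : Subgroup G} {p r : ℕ} (c : Ctx M P R H p r)
    (hnc : ∀ g : G, cj g M ≠ H) (hr1 : r ∈ tau1 H) (hpα : p ∈ alpha H)
    {q : ℕ} [Fact q.Prime] {Q : Subgroup G} (hQC : Q ≤ CP M P) (hQq : IsPGroup q Q)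
    (hQab : ∀ a ∈ Q, ∀ b ∈ Q, a * b = b * a) (hRQ : R ≤ Subgroup.normalizer (Q : Set G))
    (hfix : Q ⊓ Subgroup.centralizer (R : Set G) = ⊥) (hQ1 : Q ≠ ⊥)
    (hrk : RankLE 1 ↥(alphaCore H ⊓ Subgroup.centralizer (Q : Set G))) : False :=
  Cfsg.Agent.Lib.Helper26.BG134.Ctx.caseB c hnc hr1 hpα hQC hQq hQab hRQ hfix hQ1 hrk

theorem Ctx.caseA_sylow {M P R H : Subgroup G} {p r : ℕ} (c : Ctx M P R H p r)
    (hnc : ∀ g : G, cj g M ≠ H) (hC : sigmaCore M ⊓ H = CP M P)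
    {q : ℕ} [Fact q.Prime] (hqH : q ∈ sigma H) {Q : Subgroup G} (hQC : Q ≤ CP M P)
    (hQq : IsPGroup q Q) (hQ1 : Q ≠ ⊥) (hNQ : Subgroup.normalizer (Q : Set G) ≤ H) :
    ∃ Sq : Subgroup G, IsSylowIn q ⊤ Sq ∧ Sq ≤ CP M P ∧
      Subgroup.normalizer (Sq : Set G) ≤ M ⊓ H :=
  Cfsg.Agent.Lib.Helper13.BG134.Ctx.caseA_sylow c hnc hC hqH hQC hQq hQ1 hNQ

theorem Ctx.caseA_compl {M P R H : Subgroup G} {p r : ℕ} (c : Ctx M P R H p r)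
    {q : ℕ} [Fact q.Prime] {Sq : Subgroup G} (hSq : IsSylowIn q ⊤ Sq) (hSqC : Sq ≤ CP M P) :
    ∃ E : Subgroup G, IsComplIn E (sigmaCore M) M ∧ P ≤ E ∧
      E ≤ Subgroup.normalizer (Sq : Set G) :=
  Cfsg.Agent.Lib.Helper52.BG134.Ctx.caseA_compl c hSq hSqC

theorem Ctx.caseA_fix {M P R H : Subgroup G} {p r : ℕ} (c : Ctx M P R H p r)
    (hnc : ∀ g : G, cj g M ≠ H) (h26 : H1426 G) {q : ℕ} [Fact q.Prime] (hqH : q ∈ sigma H)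
    {Sq : Subgroup G} (hSq : IsSylowIn q ⊤ Sq) (hSqC : Sq ≤ CP M P)
    (hN : Subgroup.normalizer (Sq : Set G) ≤ M ⊓ H) {E : Subgroup G}
    (hE : IsComplIn E (sigmaCore M) M) (hPE : P ≤ E) (hESq : E ≤ Subgroup.normalizer (Sq : Set G)) :
    ∃ E₁ : Subgroup G, IsPiHallOf (tau1 M) E₁ E ∧ IsCyclic E₁ ∧ P ≤ E₁ ∧
      Sq ⊓ Subgroup.centralizer (E₁ : Set G) = ⊥ :=
  Cfsg.Agent.Lib.Helper58.BG134.Ctx.caseA_fix c hnc h26 hqH hSq hSqC hN hE hPE hESq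

theorem Ctx.caseA_final {M P R H : Subgroup G} {p r : ℕ} (c : Ctx M P R H p r)
    (hnc : ∀ g : G, cj g M ≠ H) (h27 : H1427 G) (h131 : T131 G) (hpα : p ∈ alpha H)
    {q : ℕ} [Fact q.Prime] {Sq : Subgroup G} (hSq : IsSylowIn q ⊤ Sq)
    (hSqab : ∀ a ∈ Sq, ∀ b ∈ Sq, a * b = b * a) (hSqC : Sq ≤ CP M P)
    (hN : Subgroup.normalizer (Sq : Set G) ≤ M ⊓ H) {E : Subgroup G}
    (hE : IsComplIn E (sigmaCore M) M) {E₁ : Subgroup G} (hE₁ : IsPiHallOf (tau1 M) E₁ E)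
    (hE₁c : IsCyclic E₁) (hPE₁ : P ≤ E₁) (hE₁Sq : E₁ ≤ Subgroup.normalizer (Sq : Set G))
    (hfix : Sq ⊓ Subgroup.centralizer (E₁ : Set G) = ⊥) : False :=
  Cfsg.Agent.Lib.Helper96.BG134.Ctx.caseA_final c hnc h27 h131 hpα hSq hSqab hSqC hN hE hE₁ hE₁c hPE₁ hE₁Sq hfix

end Cfsg.Agent.Lib.Helper31.BG134L
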