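import Mathlib
import Cfsg.Agent.Lib.Helper31.BG134Leaves
import Cfsg.Agent.Lib.Helper12.CNMaxSub
import Cfsg.Agent.Lib.Helper32.BG134D2
import Cfsg.Agent.Lib.Helper82.BG134D5Main

/-!
# BG Lemma 13.4 (S1428): the glue (helper31)

`lemmaT` / `t131` (BG 13.1(a)) from the general tools G1-G4, and the final contradiction from the D-block
(helper16's `Ctx.dblock_of`) and the case-A / case-B leaves.
-/

set_option autoImplicit false
set_option linter.unusedSectionVars false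
set_option linter.unusedVariables false
set_option linter.style.haveILetI false

namespace Cfsg.Agent.Lib.Helper31.BG134

open Cfsg Cfsg.Agent.Lib.Helper55
open scoped commutatorElement

variable {G : Type*} [Group G] [Finite G]

/-- **BG 13.1(a)** from the tools G1-G4. -/
theorem lemmaT (hG : IsMinSimpleOddOrder G) {M H : Subgroup G} (hM : IsCoatom M) (hH : IsCoatom H)
    (hnc : ∀ g : G, cj g M ≠ H) {s : ℕ} [Fact s.Prime] (hsM : s ∉ sigma M) (hs1 : s ∉ tau1 H)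
    {X : Subgroup G} (hX : IsPGroup s X) (hXM : X ≤ M) (hXH : X ≤ H) :
    X ≤ Subgroup.centralizer ((sigmaCore M ⊓ H : Subgroup G) : Set G) := by
  have hs : s.Prime := Fact.out
  by_cases hX1 : X = ⊥
  · rw [hX1]; exact bot_le
  have hsX : s ∣ Nat.card X := by
    obtain ⟨n, hn⟩ := IsPGroup.iff_card.mp hX
    rcases n with _ | n
    · exfalso; apply hX1
      rw [pow_zero] at hn
      exact Subgroup.card_eq_one.mp hn
    · rw [hn]; exact dvd_pow_self s (Nat.succ_ne_zero n)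
  have hsH : s ∣ Nat.card H := hsX.trans (Subgroup.card_dvd_of_le hXH)
  by_cases hσ : s ∈ sigma H
  · exact BG134L.centralizes_of_le_commutator hG hM hH hnc hsM hX hXM hXH
      (BG134L.le_commutator_of_mem_sigma hG hH hσ hXH hX)
  · rcases Cfsg.Agent.Lib.Helper16.BG134.mem_tau_cases hG hH hs hsH hσ with h1 | h2 | h3
    · exact absurd h1 hs1
    · exact BG134L.centralizes_of_mem_tau2 hG hM hH hnc hsM h2 hX hXM hXH
    · exact BG134L.centralizes_of_le_commutator hG hM hH hnc hsM hX hXM hXH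
        (BG134L.le_commutator_of_mem_tau3 hG hH h3 hXH hX)

theorem t131 (hG : IsMinSimpleOddOrder G) : T131 G := by
  intro M H hM hH hnc s _ hsM X hX hXM hXH hs1
  exact lemmaT hG hM hH hnc hsM hs1 hX hXM hXH

/-- The contradiction in the configuration of a counterexample to BG 13.4. -/
theorem false_of_ctx {M E P R H : Subgroup G} {p : ℕ}
    (c16 : Cfsg.Agent.Lib.Helper16.BG134.Ctx M E P R H p) (h26 : H1426 G) (h27 : H1427 G) :
    False := by
  have hG := c16.hG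
  have hM := c16.hM
  have hH := c16.hH
  have c : Ctx M P R H p (Nat.card R) :=
    { hG := c16.hG, hM := c16.hM, hp := c16.hp, hPM := c16.P_le_M, hPc := c16.hP,
      hRM := c16.R_le_M, hRP := c16.R_le_cent, hRc := rfl, hr := c16.hR,
      hrσ := c16.r_not_sigma_M, hnc := c16.hne, hH := c16.hH, hNH := c16.hNP }
  have hT : ∀ {X : Subgroup G} {s : ℕ} [Fact s.Prime], s ∉ sigma M → s ∉ tau1 H → IsPGroup s X →
      X ≤ M → X ≤ H → sigmaCore M ⊓ H ≤ Subgroup.centralizer (X : Set G) := by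
    intro X s _ hsM hs1 hX hXM hXH
    have := lemmaT hG hM hH c16.not_conj hsM hs1 hX hXM hXH
    exact Subgroup.le_centralizer_iff.mp this
  obtain ⟨hnc, hpσ, hpβ, hr1, hC, hq⟩ := c16.dblock_of hT
    (fun hnc hrσ => Cfsg.Agent.Lib.Helper32.BG134.p_not_mem_tau2 c16 hnc hrσ)
    (fun hnc hpσ hC q hq hqC => BG134L.Ctx.q_not_tau2 c hnc hpσ hC hq hqC)
    (fun hnc hpσ hC h4 => Cfsg.Agent.Lib.Helper82.BG134.p_mem_beta c16 hnc hpσ hC h4)
  have hpα : p ∈ alpha H := hpβ.1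
  obtain ⟨q, Q₀, hqp, hQ₀C, hQ₀q, hRQ₀, hQ₀R⟩ := BG134L.Ctx.exists_sylow_not_centralized c
  haveI : Fact q.Prime := ⟨hqp⟩
  have hQ₀M : Q₀ ≤ M := (hQ₀C.trans inf_le_left).trans (Cfsg.Agent.Lib.Helper71.BG11.sigmaCore_le M)
  have hQ₀H : Q₀ ≤ H := hQ₀C.trans c16.C_le_H
  -- `[Q₀, R] ≤ Q₀`
  have hcomm_le : ⁅Q₀, R⁆ ≤ Q₀ := by
    rw [Subgroup.commutator_le]
    intro x hx y hy
    have h1 := (Subgroup.mem_normalizer_iff.mp (hRQ₀ hy) x⁻¹).mp (Subgroup.inv_mem _ hx)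
    have : ⁅x, y⁆ = x * (y * x⁻¹ * y⁻¹) := by rw [commutatorElement_def]; group
    rw [this]
    exact Subgroup.mul_mem _ hx h1
  have hcomm_ne : ⁅Q₀, R⁆ ≠ ⊥ := by
    intro h
    exact hQ₀R (Subgroup.commutator_eq_bot_iff_le_centralizer.mp h)
  have hcomm_q : IsPGroup q ↥⁅Q₀, R⁆ := hQ₀q.to_le hcomm_le
  have hq_dvd_of : ∀ {Y : Subgroup G}, IsPGroup q Y → Y ≠ ⊥ → q ∣ Nat.card Y := by
    intro Y hY hY1
    obtain ⟨n, hn⟩ := IsPGroup.iff_card.mp hY
    rcases n with _ | n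
    · exfalso; apply hY1
      rw [pow_zero] at hn
      exact Subgroup.card_eq_one.mp hn
    · rw [hn]; exact dvd_pow_self q (Nat.succ_ne_zero n)
  have hqd : q ∣ Nat.card ↥⁅sigmaCore M ⊓ Subgroup.centralizer (P : Set G), R⁆ :=
    (hq_dvd_of hcomm_q hcomm_ne).trans
      (Subgroup.card_dvd_of_le (Subgroup.commutator_mono hQ₀C le_rfl))
  obtain ⟨hqM, hqα, hqH⟩ := hq q hqp hqd
  -- `Q₀` is abelian
  have hq2 : q ≠ 2 := by
    intro h2
    obtain ⟨hodd, -⟩ := hG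
    have : q ∣ Nat.card G := (hq_dvd_of hQ₀q (fun h => hcomm_ne (by
      rw [eq_bot_iff]; exact hcomm_le.trans (le_of_eq h)))).trans (Subgroup.card_subgroup_dvd_card Q₀)
    rw [h2] at this
    exact (Nat.not_even_iff_odd.mpr hodd) (even_iff_two_dvd.mpr this)
  have hQ₀ab : ∀ a ∈ Q₀, ∀ b ∈ Q₀, a * b = b * a := by
    rcases hqH with hσ | h3
    · exact (BG134L.comm_of_sigma_sigma hG hM hH hnc hqM hσ).2.2 Q₀ hQ₀M hQ₀q
    · have hcyc : IsCyclic ↥Q₀ :=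
        Cfsg.Agent.Lib.Helper13.BG12.isCyclic_of_pRankLE_one hq2 h3.2.2.2 hQ₀H hQ₀q
      intro a ha b hb
      have := (hcyc.isMulCommutative).is_comm.comm ⟨a, ha⟩ ⟨b, hb⟩
      exact congrArg Subtype.val this
  have hqR : ¬ q ∣ Nat.card R := by
    intro hd
    have : q = Nat.card R := (Nat.prime_dvd_prime_iff_eq hqp c16.hR).mp hd
    exact c16.r_not_sigma_M (this ▸ hqM)
  obtain ⟨-, hRQ, hfix, -⟩ := BG134L.commutator_fix_eq_bot Q₀ R hQ₀q hQ₀ab hRQ₀ hqR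
  have hQC : ⁅Q₀, R⁆ ≤ CP M P := hcomm_le.trans hQ₀C
  have hQH : ⁅Q₀, R⁆ ≤ H := hcomm_le.trans hQ₀H
  have hQab : ∀ a ∈ ⁅Q₀, R⁆, ∀ b ∈ ⁅Q₀, R⁆, a * b = b * a :=
    fun a ha b hb => hQ₀ab a (hcomm_le ha) b (hcomm_le hb)
  by_cases hrk : RankLE 1 ↥(alphaCore H ⊓ Subgroup.centralizer ((⁅Q₀, R⁆ : Subgroup G) : Set G))
  · exact BG134L.Ctx.caseB c hnc hr1 hpα hQC hcomm_q hQab hRQ hfix hcomm_ne hrk
  · have hQα : ∀ q' : ℕ, q'.Prime → q' ∣ Nat.card ↥⁅Q₀, R⁆ → q' ∉ alpha H := by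
      intro q' hq' hd
      obtain ⟨n, hn⟩ := IsPGroup.iff_card.mp hcomm_q
      rw [hn] at hd
      have : q' = q := (Nat.prime_dvd_prime_iff_eq hq' hqp).mp (hq'.dvd_of_dvd_pow hd)
      rw [this]; exact hqα
    have hNQ := BG134L.normalizer_le_of_rank hG hH hQH hcomm_ne hQα hrk
    rcases hqH with hσ | h3
    · obtain ⟨Sq, hSq, hSqC, hNSq⟩ := BG134L.Ctx.caseA_sylow c hnc hC hσ hQC hcomm_q hcomm_ne hNQ
      obtain ⟨E', hE', hPE', hE'Sq⟩ := BG134L.Ctx.caseA_compl c hSq hSqC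
      obtain ⟨E₁, hE₁, hE₁c, hPE₁, hfix1⟩ :=
        BG134L.Ctx.caseA_fix c hnc h26 hσ hSq hSqC hNSq hE' hPE' hE'Sq
      have hSqM : Sq ≤ M :=
        (hSqC.trans inf_le_left).trans (Cfsg.Agent.Lib.Helper71.BG11.sigmaCore_le M)
      have hSqab := (BG134L.comm_of_sigma_sigma hG hM hH hnc hqM hσ).2.2 Sq hSqM hSq.2.1
      exact BG134L.Ctx.caseA_final c hnc h27 (t131 hG) hpα hSq hSqab hSqC hNSq hE' hE₁ hE₁c hPE₁
        (hE₁.1.trans hE'Sq) hfix1
    · exact BG134L.not_normalizer_le_of_mem_tau3 hG hH h3 hQH hcomm_q hcomm_ne hNQ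

/-- **BG Lemma 13.4** (S1428), modulo the statements of S1426 and S1427. -/
theorem s1428_of (hG : IsMinSimpleOddOrder G) (h26 : H1426 G) (h27 : H1427 G)
    (M : Subgroup G) (hM : IsCoatom M) (E : Subgroup G) (hE : IsComplIn E (sigmaCore M) M) (p : ℕ)
    (hp : p ∈ tau1 M) (P : Subgroup G) (hPE : P ≤ E) (hP : Nat.card P = p) (R : Subgroup G)
    (hRE : R ≤ E ⊓ Subgroup.centralizer (P : Set G)) (hR : (Nat.card R).Prime) :
    sigmaCore M ⊓ Subgroup.centralizer (P : Set G) ≤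
      sigmaCore M ⊓ Subgroup.centralizer (R : Set G) := by
  by_contra hcon
  have hne : ¬ sigmaCore M ⊓ Subgroup.centralizer (P : Set G) ≤ Subgroup.centralizer (R : Set G) :=
    fun h => hcon (le_inf inf_le_left h)
  have hP1 : P ≠ ⊥ := by
    intro h
    rw [h, Subgroup.card_bot] at hP
    exact hp.1.one_lt.ne hP
  have hPtop : P ≠ ⊤ := by
    intro h
    have hPM : P ≤ M := hPE.trans hE.1
    rw [h] at hPM
    exact hM.1 (top_le_iff.mp hPM)
  obtain ⟨H, hH, hNH⟩ := Cfsg.Agent.Lib.Helper12.CNMaxSub.exists_coatom_normalizer_le hG hP1 hPtop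
  exact false_of_ctx ⟨hG, hM, hE, hp, hPE, hP, hRE, hR, hne, hH, hNH⟩ h26 h27

end Cfsg.Agent.Lib.Helper31.BG134
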