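import Mathlib
import Cfsg.Agent.Lib.Helper31.BG134Defs2
import Cfsg.Agent.Lib.Helper31.BG12a
import Cfsg.Agent.Lib.Helper55.SylowIn
import Cfsg.Agent.Lib.Helper13.BG12B
import Cfsg.Agent.Lib.Helper52.BG134A2
import Cfsg.Agent.Lib.Helper58.BG134A3
import Cfsg.Agent.Lib.Helper16.BG134Asm
import Cfsg.Agent.S1350
import Cfsg.Agent.S0025
import Cfsg.Agent.S1415
import Cfsg.Agent.S1417
import Cfsg.Agent.S1423

/-!
# BG Theorem 13.9 (σ-partition, S1378), PART I of notes/BG13_9_proof_helper15.md, context-free leaves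

* `exists_compl_le_normalizer` (step 3): a complement `E` of `M_σ` in `M` normalizing a given Sylow
  subgroup of `M_σ`;
* `pair_fix` (steps 2, 4, 5, 6): for non-conjugate `M`, `N` with a common `σ`-prime `q` and a Sylow
  `q`-subgroup `S` of `G` with `S ≤ M_σ`, `N_G(S) ≤ M ∩ N`: `τ₂(M) = ∅`, `E = E₁ E₃`, `E₃` centralizes
  `S` and `C_S(E₁) = 1`.
(Adapted from the S1428 leaves A2 (helper52) and A3 (helper58).)
-/

set_option autoImplicit false
set_option linter.unusedVariables false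

namespace Cfsg.Agent.Lib.Helper31.BG139

open Cfsg Cfsg.Agent.Lib.Helper55 Cfsg.Agent.Lib.Helper31.BG134
open scoped commutatorElement

variable {G : Type*} [Group G] [Finite G]

/-- **step 3**: a complement of `M_σ` in `M` normalizing a given Sylow `q`-subgroup `S` of `M_σ`. -/
theorem exists_compl_le_normalizer (hG : IsMinSimpleOddOrder G) {M : Subgroup G} (hM : IsCoatom M)
    {q : ℕ} [Fact q.Prime] {S : Subgroup G} (hS : IsSylowIn q (sigmaCore M) S) :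
    ∃ E : Subgroup G, IsComplIn E (sigmaCore M) M ∧ E ≤ Subgroup.normalizer (S : Set G) := by
  have hHall := (Cfsg.Agent.S1350.result hG M hM).1
  have hn : M ≤ Subgroup.normalizer (sigmaCore M : Set G) :=
    Cfsg.Agent.Lib.Helper31.le_normalizer_piCoreOf (sigma M) M
  obtain ⟨E₁, hE₁, -⟩ :=
    Cfsg.Agent.Lib.Helper13.BG12.exists_complIn_ge hG hM hHall (K := ⊥) bot_le (by
      intro s hs hsd
      rw [Subgroup.card_bot] at hsd
      exact absurd (Nat.dvd_one.mp hsd) hs.one_lt.ne')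
  have hcopE : (Nat.card E₁).Coprime (Nat.card (sigmaCore M)) :=
    Cfsg.Agent.Lib.Helper13.BG12.coprime_of_primes_disjoint
      (Cfsg.Agent.Lib.Helper13.BG12.complIn_prime_not_mem_sigma hHall hE₁) hHall.2.1
  have hStop : sigmaCore M ≠ ⊤ := fun h => hM.1 (top_le_iff.mp (h ▸ hHall.1))
  have hsolv : Group.IsSolvable ↥(sigmaCore M) := Cfsg.Agent.Lib.Helper55.ms_solvable hG hStop
  have hE₁n : E₁ ≤ Subgroup.normalizer (sigmaCore M : Set G) := hE₁.1.trans hn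
  obtain ⟨P₁, -, hE₁P₁⟩ := Cfsg.Agent.S0025.result E₁ (sigmaCore M) hE₁n hcopE (Or.inr hsolv) q
    ⊥ bot_le (IsPGroup.of_bot)
    (by rw [Subgroup.normalizer_eq_top_iff.mpr Subgroup.normal_bot]; exact le_top)
  obtain ⟨S', hS'⟩ :
      ∃ S' : Subgroup G, S' = (P₁ : Subgroup (sigmaCore M)).map (sigmaCore M).subtype := ⟨_, rfl⟩
  have hS'syl : IsSylowIn q (sigmaCore M) S' := by rw [hS']; exact isSylowIn_of_sylow P₁
  have hE₁S' : E₁ ≤ Subgroup.normalizer (S' : Set G) := by rw [hS']; exact hE₁P₁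
  obtain ⟨d, hdσ, hd⟩ := hS'syl.exists_conj hS
  have hdM : d ∈ M := hHall.1 hdσ
  refine ⟨cj d E₁, Cfsg.Agent.Lib.Helper52.BG134.isComplIn_cj hE₁ hn hdM, ?_⟩
  have h1 : cj d E₁ ≤ cj d (Subgroup.normalizer (S' : Set G)) := cj_mono hE₁S'
  rw [cj_normalizer, hd] at h1
  exact h1

/-- **steps 2, 4, 5, 6**. -/
theorem pair_fix (hG : IsMinSimpleOddOrder G) {M N : Subgroup G} (hM : IsCoatom M)
    (hN : IsCoatom N) (hnc : ∀ g : G, cj g M ≠ N) (h26 : H1426 G) {q : ℕ} [Fact q.Prime]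
    (hqN : q ∈ sigma N) {S : Subgroup G} (hS : IsSylowIn q ⊤ S) (hSσ : S ≤ sigmaCore M)
    (hS1 : S ≠ ⊥) (hNS : Subgroup.normalizer (S : Set G) ≤ M ⊓ N) {E : Subgroup G}
    (hE : IsComplIn E (sigmaCore M) M) (hES : E ≤ Subgroup.normalizer (S : Set G)) :
    (∀ s : ℕ, s ∉ tau2 M) ∧
      ∃ E₁ E₃ : Subgroup G, IsPiHallOf (tau1 M) E₁ E ∧ IsCyclic E₁ ∧
        IsPiHallOf (tau3 M) E₃ E ∧ IsCyclic E₃ ∧ E₃ ≤ ⁅E, E⁆ ∧
        E ≤ Subgroup.normalizer (E₃ : Set G) ∧ E ≤ E₁ ⊔ E₃ ∧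
        (∀ x ∈ E₃, ∀ y ∈ S, x * y = y * x) ∧
        S ⊓ Subgroup.centralizer (E₁ : Set G) = ⊥ := by
  have hHall := (Cfsg.Agent.S1350.result hG M hM).1
  have hEtop : E ≠ ⊤ := fun h => hM.1 (top_le_iff.mp (h ▸ hE.1))
  have hsolv : Group.IsSolvable ↥E := ms_solvable hG hEtop
  obtain ⟨hnilE, h15a, h15b⟩ := Cfsg.Agent.S1415.result hG M hM E hE
  -- basic facts on `S`
  have hSMN : S ≤ M ⊓ N := Subgroup.le_normalizer.trans hNS
  have hSM : S ≤ M := hSMN.trans inf_le_left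
  have hSN : S ≤ N := hSMN.trans inf_le_right
  have hSq : IsPGroup q S := hS.2.1
  have hqM : q ∈ sigma M :=
    Cfsg.Agent.Lib.Helper71.BG11.sigmaCore_pi hG hM Fact.out
      ((Cfsg.Agent.Lib.Helper58.BG134.dvd_card_of_isPGroup_ne_bot hSq hS1).trans
        (Subgroup.card_dvd_of_le hSσ))
  -- `τ₂(M) = ∅`
  have hτ₂ : ∀ s : ℕ, s ∉ tau2 M := by
    intro s hs
    have : Fact s.Prime := ⟨hs.1⟩
    obtain ⟨A, hA⟩ := Cfsg.Agent.Lib.Helper13.BG12.exists_elemAb_sq_of_tau2 hs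
    have hnil := (Cfsg.Agent.S1417.result hG M hM s hs A hA).1
    exact Cfsg.Agent.Lib.Helper31.BG12.sigma_sigma_disjoint hG hM hN hnc hnil hqM hqN
  refine ⟨hτ₂, ?_⟩
  -- the Hall subgroups
  obtain ⟨H₁, hE₁, -⟩ := Cfsg.Agent.Lib.Helper01.BGBeta.exists_hallOf E (tau1 M)
  generalize H₁.map E.subtype = E₁ at hE₁
  have hE₁c : IsCyclic E₁ := h15a E₁ hE₁
  obtain ⟨H₀, hE₃, -⟩ := Cfsg.Agent.Lib.Helper01.BGBeta.exists_hallOf E (tau3 M)
  generalize H₀.map E.subtype = E₃ at hE₃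
  obtain ⟨hE₃c, hE₃E', hE₃n⟩ := h15b E₃ hE₃
  -- `E = E₁ E₃`
  have hEsup : E ≤ E₁ ⊔ E₃ := by
    rw [← Subgroup.relIndex_eq_one]
    by_contra h1
    obtain ⟨s, hs, hsd⟩ := Nat.exists_prime_and_dvd h1
    have hsE : s ∣ Nat.card E := hsd.trans (Subgroup.index_dvd_card _)
    have hsσ : s ∉ sigma M :=
      Cfsg.Agent.Lib.Helper13.BG12.complIn_prime_not_mem_sigma hHall hE s hs hsE
    have hsM : s ∣ Nat.card M := hsE.trans (Subgroup.card_dvd_of_le hE.1)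
    rcases Cfsg.Agent.Lib.Helper16.BG134.mem_tau_cases hG hM hs hsM hsσ with h | h | h
    · exact hE₁.2.2 s hs h (hsd.trans (Subgroup.relIndex_dvd_of_le_left E le_sup_left))
    · exact hτ₂ s h
    · exact hE₃.2.2 s hs h (hsd.trans (Subgroup.relIndex_dvd_of_le_left E le_sup_right))
  -- `S ∩ M_α = 1`
  have hSα : S ⊓ alphaCore M = ⊥ := by
    apply Cfsg.Agent.Lib.Helper31.BG12.eq_bot_of_forall_prime_not_dvd
    intro s hs hsd
    have h1 : s = q :=
      Cfsg.Agent.Lib.Helper58.BG134.eq_of_prime_dvd_card_isPGroup hSq hs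
        (hsd.trans (Subgroup.card_dvd_of_le inf_le_left))
    have h2 : s ∈ alpha M :=
      Cfsg.Agent.Lib.Helper31.BG12.alphaCore_pi hs (hsd.trans (Subgroup.card_dvd_of_le inf_le_right))
    rw [h1] at h2
    exact Cfsg.Agent.Lib.Helper31.BG12.alpha_sigma_disjoint hG hM hN hnc h2 hqN
  -- `M_σ ≤ M'`
  have hσM' : sigmaCore M ≤ ⁅M, M⁆ := by
    have h1 := (h26 M hM E hE).2.1
    calc sigmaCore M = ⁅sigmaCore M, E⁆ := h1.symm
      _ ≤ ⁅M, M⁆ := Subgroup.commutator_mono (Cfsg.Agent.Lib.Helper71.BG11.sigmaCore_le M) hE.1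
  -- `E₃` centralizes `S`
  have hE₃S : ∀ x ∈ E₃, ∀ y ∈ S, x * y = y * x := by
    intro x hx y hy
    have hxM' : x ∈ ⁅M, M⁆ := Subgroup.commutator_mono hE.1 hE.1 (hE₃E' hx)
    have hyM' : y ∈ ⁅M, M⁆ := hσM' (hSσ hy)
    have hcop : (orderOf x).Coprime (orderOf y) := by
      apply Nat.coprime_of_dvd
      intro s hs hsx hsy
      have h1 : s ∈ tau3 M := hE₃.2.1 s hs (hsx.trans (Subgroup.orderOf_dvd_natCard E₃ hx))
      have h2 : s = q :=
        Cfsg.Agent.Lib.Helper58.BG134.eq_of_prime_dvd_card_isPGroup hSq hs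
          (hsy.trans (Subgroup.orderOf_dvd_natCard S hy))
      rw [h2] at h1
      exact h1.2.1 hqM
    have h1 : ⁅x, y⁆ ∈ alphaCore M :=
      Cfsg.Agent.Lib.Helper58.BG134.commutatorElement_mem_alphaCore hG hM hxM' hyM' hcop
    have hxN : x ∈ Subgroup.normalizer (S : Set G) := hES (hE₃.1 hx)
    have h2 : ⁅x, y⁆ ∈ S := by
      rw [commutatorElement_def]
      exact S.mul_mem ((Subgroup.mem_normalizer_iff.mp hxN y).mp hy) (S.inv_mem hy)
    have h3 : ⁅x, y⁆ ∈ S ⊓ alphaCore M := ⟨h2, h1⟩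
    rw [hSα, Subgroup.mem_bot] at h3
    exact commutatorElement_eq_one_iff_mul_comm.mp h3
  refine ⟨E₁, E₃, hE₁, hE₁c, hE₃, hE₃c, hE₃E', hE₃n, hEsup, hE₃S, ?_⟩
  by_contra hne
  -- `S ∩ C(E₁) ≤ C(E)`
  set D := S ⊓ Subgroup.centralizer (E₁ : Set G) with hD
  have hDE : D ≤ Subgroup.centralizer (E : Set G) := by
    intro d hd
    have hdc : E₁ ⊔ E₃ ≤ Subgroup.centralizer ({d} : Set G) := by
      apply sup_le
      · intro e he
        rw [Subgroup.mem_centralizer_singleton_iff]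
        exact Subgroup.mem_centralizer_iff.mp hd.2 e he
      · intro e he
        rw [Subgroup.mem_centralizer_singleton_iff]
        exact hE₃S e he d hd.1
    rw [Subgroup.mem_centralizer_iff]
    intro e he
    have := hdc (hEsup he)
    rw [Subgroup.mem_centralizer_singleton_iff] at this
    exact this
  have hDσ' : D ≤ ⁅sigmaCore M, sigmaCore M⁆ := by
    intro d hd
    exact (h26 M hM E hE).1 ⟨hSσ hd.1, hDE hd⟩
  have hDq : IsPGroup q D := hSq.to_le inf_le_left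
  have hqD : q ∣ Nat.card D := Cfsg.Agent.Lib.Helper58.BG134.dvd_card_of_isPGroup_ne_bot hDq hne
  obtain ⟨d, hd⟩ := exists_prime_orderOf_dvd_card' (G := ↥D) q hqD
  have hXc : Nat.card (Subgroup.zpowers (d : G)) = q := by
    rw [Nat.card_zpowers, Subgroup.orderOf_coe, hd]
  have hXD : Subgroup.zpowers (d : G) ≤ D := by
    rw [Subgroup.zpowers_le]
    exact d.2
  have hSσS : IsSylowIn q (sigmaCore M) S :=
    ⟨hSσ, hSq, fun T' _ hT'p hle => hS.2.2 T' le_top hT'p hle⟩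
  have h23 := (Cfsg.Agent.S1423.result hG M hM q hqM (Subgroup.zpowers (d : G))
    ((hXD.trans inf_le_left).trans hSM) hXc hSσS.toSylow (Or.inr (hXD.trans hDσ'))).2.1
  rw [hSσS.map_toSylow] at h23
  obtain ⟨L', -, huniq⟩ := h23
  have e1 : M = L' := huniq M ⟨hM, hSM⟩
  have e2 : N = L' := huniq N ⟨hN, hSN⟩
  apply hnc 1
  rw [cj_one, e1, e2]

end Cfsg.Agent.Lib.Helper31.BG139
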