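import Mathlib
import Cfsg.Agent.Lib.Helper31.BG139A
import Cfsg.Agent.Lib.Helper31.BG134Glue
import Cfsg.Agent.Lib.Helper13.BG135
import Cfsg.Agent.Lib.Helper69.BGSigmaTrans
import Cfsg.Agent.Lib.Helper91.BG125e
import Cfsg.Agent.Lib.Helper55.Uniq3
import Cfsg.Agent.Lib.Helper01.BG134CJ

/-!
# BG Theorem 13.9 (σ-partition, S1378), PART I: steps 0, 8 and `τ₁(M) = τ₁(N)`

Main results (for non-conjugate maximal subgroups `M`, `N` with a common prime `p ∈ σ(M) ∩ σ(N)`):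
* `exists_common_sylow` (step 0);
* `pair_data` (steps 2-8 for an ordered pair with `N_G(S) ≤ M ∩ N`);
* `tau1_eq_of_common_sigma` : `τ₁(M) = τ₁(N)`.
The statements of S1426 and S1428 enter as hypotheses `H1426 G`, `H1428 G`.
-/

set_option autoImplicit false
set_option linter.unusedVariables false

namespace Cfsg.Agent.Lib.Helper31.BG139

open Cfsg Cfsg.Agent.Lib.Helper55 Cfsg.Agent.Lib.Helper31.BG134 Cfsg.Agent.Lib.Helper13.BG135
open Cfsg.Agent.Lib.Helper69.BG10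

variable {G : Type*} [Group G] [Finite G]

/-- a Sylow `p`-subgroup of `G` is nontrivial when `p ∣ |G|` -/
theorem sylow_ne_bot {p : ℕ} [Fact p.Prime] {S : Subgroup G} (hS : IsSylowIn p ⊤ S)
    (hp : p ∣ Nat.card G) : S ≠ ⊥ := by
  intro h
  obtain ⟨x, hx⟩ := exists_prime_orderOf_dvd_card' (G := G) p hp
  have hZ : IsPGroup p (Subgroup.zpowers x) := by
    apply IsPGroup.of_card (n := 1)
    rw [Nat.card_zpowers, hx, pow_one]
  have := hS.2.2 (Subgroup.zpowers x) le_top hZ (h ▸ bot_le)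
  rw [h, Subgroup.zpowers_eq_bot] at this
  rw [this, orderOf_one] at hx
  exact (Fact.out : p.Prime).one_lt.ne hx

/-- **step 0**: after conjugating `N`, a common Sylow `p`-subgroup `S` of `G` with `S ≤ M_σ ∩ N_σ` and
`N_G(S) ≤ M ∩ N`. -/
theorem exists_common_sylow (hG : IsMinSimpleOddOrder G) {M N : Subgroup G} (hM : IsCoatom M)
    (hN : IsCoatom N) {p : ℕ} [Fact p.Prime] (hpM : p ∈ sigma M) (hpN : p ∈ sigma N) :
    ∃ (g : G) (S : Subgroup G), IsSylowIn p ⊤ S ∧ S ≠ ⊥ ∧ S ≤ sigmaCore M ∧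
      S ≤ sigmaCore (cj g N) ∧ Subgroup.normalizer (S : Set G) ≤ M ⊓ cj g N := by
  obtain ⟨S, hS⟩ := exists_good_of_sigma hpM
  obtain ⟨S', hS'⟩ := exists_good_of_sigma hpN
  obtain ⟨k, -, hk⟩ := hS'.1.exists_conj hS.1
  have hS2 : Good p S (cj k N) := by
    have := good_cj hS' k
    rwa [hk] at this
  have hpG : p ∣ Nat.card G := hpM.2.1.trans (Subgroup.card_subgroup_dvd_card M)
  refine ⟨k, S, hS.1, sylow_ne_bot hS.1 hpG, ?_, ?_, le_inf hS.2.2 hS2.2.2⟩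
  · exact Cfsg.Agent.Lib.Helper91.BG125.le_sigmaCore_of_mem_sigma hG hM hpM hS.1.2.1 hS.2.1
  · exact Cfsg.Agent.Lib.Helper91.BG125.le_sigmaCore_of_mem_sigma hG (isCoatom_cj k hN)
      (Cfsg.Agent.Lib.Helper31.BG12.mem_sigma_cj hpN k) hS.1.2.1 hS2.2.1

/-- non-conjugacy passes to a conjugate of the second group -/
theorem not_conj_cj {M N : Subgroup G} (hnc : ∀ g : G, cj g M ≠ N) (k : G) :
    ∀ g : G, cj g M ≠ cj k N := by
  intro g h
  apply hnc (k⁻¹ * g)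
  have : cj k⁻¹ (cj g M) = cj k⁻¹ (cj k N) := by rw [h]
  rw [cj_inv_cj] at this
  rw [← this]
  ext x
  simp only [mem_cj]
  constructor <;> intro hx <;> convert hx using 1 <;> group

/-- **steps 2-8** for an ordered pair `(M, N)` with a common Sylow subgroup `S`. -/
theorem pair_data (hG : IsMinSimpleOddOrder G) (h26 : H1426 G) (h28 : H1428 G) {M N : Subgroup G}
    (hM : IsCoatom M) (hN : IsCoatom N) (hnc : ∀ g : G, cj g M ≠ N) {q : ℕ} [Fact q.Prime]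
    (hqN : q ∈ sigma N) {S : Subgroup G} (hS : IsSylowIn q ⊤ S) (hSσ : S ≤ sigmaCore M)
    (hS1 : S ≠ ⊥) (hNS : Subgroup.normalizer (S : Set G) ≤ M ⊓ N) :
    (∀ s : ℕ, s ∉ tau2 M) ∧
      ∃ E E₁ E₃ : Subgroup G, IsComplIn E (sigmaCore M) M ∧
        E ≤ Subgroup.normalizer (S : Set G) ∧ IsPiHallOf (tau1 M) E₁ E ∧ IsCyclic E₁ ∧
        IsPiHallOf (tau3 M) E₃ E ∧ IsCyclic E₃ ∧ E₃ ≤ ⁅E, E⁆ ∧
        E ≤ Subgroup.normalizer (E₃ : Set G) ∧ E ≤ E₁ ⊔ E₃ ∧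
        (∀ x ∈ E₃, ∀ y ∈ S, x * y = y * x) ∧
        S ⊓ Subgroup.centralizer (E₁ : Set G) = ⊥ ∧
        (∀ x ∈ E₁, x ≠ 1 → S ⊓ Subgroup.centralizer ({x} : Set G) = ⊥) ∧
        (∀ x ∈ E₁, x ≠ 1 → sigmaCore M ⊓ Subgroup.centralizer ({x} : Set G) =
          sigmaCore M ⊓ Subgroup.centralizer (E₁ : Set G)) ∧
        ∀ u : ℕ, u.Prime → u ∣ Nat.card E₁ → u ∈ tau1 N := by
  have hSσS : IsSylowIn q (sigmaCore M) S :=
    ⟨hSσ, hS.2.1, fun T' _ hT'p hle => hS.2.2 T' le_top hT'p hle⟩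
  obtain ⟨E, hE, hES⟩ := exists_compl_le_normalizer hG hM hSσS
  obtain ⟨hτ₂, E₁, E₃, hE₁, hE₁c, hE₃, hE₃c, hE₃E', hE₃n, hEsup, hE₃S, hfix⟩ :=
    pair_fix hG hM hN hnc h26 hqN hS hSσ hS1 hNS hE hES
  have hfrob : ∀ x ∈ E₁, x ≠ 1 → S ⊓ Subgroup.centralizer ({x} : Set G) = ⊥ :=
    fun x hx hx1 => inf_centralizer_singleton_eq_bot hG h28 hM hE hE₁ hE₁c hSσ hfix hx hx1
  refine ⟨hτ₂, E, E₁, E₃, hE, hES, hE₁, hE₁c, hE₃, hE₃c, hE₃E', hE₃n, hEsup, hE₃S, hfix, hfrob,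
    fun x hx hx1 => prime_action hG h28 hM hE hE₁ hE₁c hx hx1, ?_⟩
  -- step 8
  intro u hu hud
  by_contra hu1
  haveI : Fact u.Prime := ⟨hu⟩
  obtain ⟨x, hx⟩ := exists_prime_orderOf_dvd_card' (G := ↥E₁) u hud
  have hx1 : (x : G) ≠ 1 := by
    intro h
    have : x = 1 := Subtype.ext h
    rw [this, orderOf_one] at hx
    exact hu.one_lt.ne hx
  have huM : u ∈ tau1 M := hE₁.2.1 u hu hud
  have hUp : IsPGroup u (Subgroup.zpowers (x : G)) := by
    apply IsPGroup.of_card (n := 1)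
    rw [Nat.card_zpowers, Subgroup.orderOf_coe, hx, pow_one]
  have hUE : Subgroup.zpowers (x : G) ≤ E₁ := by
    rw [Subgroup.zpowers_le]; exact x.2
  have hUMN : Subgroup.zpowers (x : G) ≤ M ⊓ N := (hUE.trans hE₁.1).trans (hES.trans hNS)
  have hcent := lemmaT hG hM hN hnc huM.2.1 hu1 hUp (hUMN.trans inf_le_left)
    (hUMN.trans inf_le_right)
  have hSN : S ≤ N := (Subgroup.le_normalizer.trans hNS).trans inf_le_right
  have hxc : (x : G) ∈ Subgroup.centralizer ((sigmaCore M ⊓ N : Subgroup G) : Set G) :=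
    hcent (Subgroup.mem_zpowers _)
  have hSle : S ≤ S ⊓ Subgroup.centralizer ({(x : G)} : Set G) := by
    intro y hy
    refine ⟨hy, ?_⟩
    show y ∈ Subgroup.centralizer ({(x : G)} : Set G)
    rw [Subgroup.mem_centralizer_singleton_iff]
    exact (Subgroup.mem_centralizer_iff.mp hxc y ⟨hSσ hy, hSN hy⟩)
  rw [hfrob x x.2 hx1] at hSle
  exact hS1 (eq_bot_iff.mpr hSle)

theorem card_eq_relIndex_mul_card {H K : Subgroup G} (h : H ≤ K) :
    Nat.card K = H.relIndex K * Nat.card H := by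
  have := Subgroup.card_mul_index (H.subgroupOf K)
  rw [Nat.card_congr (Subgroup.subgroupOfEquivOfLe h).toEquiv] at this
  rw [← this, Subgroup.relIndex, mul_comm]

/-- every prime of `τ₁(M)` divides the order of a Hall `τ₁(M)`-subgroup of a complement of `M_σ` -/
theorem dvd_card_hall_of_mem_tau1 (hG : IsMinSimpleOddOrder G) {M E E₁ : Subgroup G}
    (hM : IsCoatom M) (hE : IsComplIn E (sigmaCore M) M) (hE₁ : IsPiHallOf (tau1 M) E₁ E)
    {u : ℕ} (hu : u ∈ tau1 M) : u ∣ Nat.card E₁ := by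
  have hHall := (Cfsg.Agent.S1350.result hG M hM).1
  have hup : u.Prime := hu.1
  -- `u ∣ |M| = |E| |M_σ|` and `u ∤ |M_σ|`
  have hcard : Nat.card M = Nat.card E * Nat.card (sigmaCore M) := by
    have h1 := Cfsg.Agent.Lib.Helper13.BG12.relIndex_eq_card_of_complIn hE
    have h2 := card_eq_relIndex_mul_card hHall.1
    rw [h1] at h2
    exact h2
  have huE : u ∣ Nat.card E := by
    have h1 : u ∣ Nat.card E * Nat.card (sigmaCore M) := hcard ▸ hu.2.2.1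
    rcases (Nat.Prime.dvd_mul hup).mp h1 with h | h
    · exact h
    · exact absurd (hHall.2.1 u hup h) hu.2.1
  -- `|E| = |E₁| · |E : E₁|` and `u ∤ |E : E₁|`
  have h3 : Nat.card E = E₁.relIndex E * Nat.card E₁ := card_eq_relIndex_mul_card hE₁.1
  rw [h3] at huE
  rcases (Nat.Prime.dvd_mul hup).mp huE with h | h
  · exact absurd h (hE₁.2.2 u hup hu)
  · exact h

/-- `τ₁` is invariant under conjugation -/
theorem mem_tau1_cj {M : Subgroup G} {u : ℕ} (hu : u ∈ tau1 M) (g : G) : u ∈ tau1 (cj g M) := by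
  obtain ⟨hup, hσ, hd, hd', h1⟩ := hu
  refine ⟨hup, ?_, ?_, ?_, ?_⟩
  · rw [Cfsg.Agent.Lib.Helper01.BG134.mem_sigma_cj_iff]; exact hσ
  · rw [card_cj]; exact hd
  · have : (⁅cj g M, cj g M⁆ : Subgroup G) = cj g ⁅M, M⁆ := by
      unfold cj
      rw [Subgroup.map_commutator]
    rw [this, card_cj]; exact hd'
  · rw [Cfsg.Agent.Lib.Helper01.BG134.pRankLE_cj_iff]; exact h1

theorem tau1_cj (M : Subgroup G) (g : G) : tau1 (cj g M) = tau1 M := by
  ext u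
  constructor
  · intro h
    have := mem_tau1_cj h g⁻¹
    rwa [cj_inv_cj] at this
  · intro h
    exact mem_tau1_cj h g

/-- `τ₁(M) ⊆ τ₁(N)` for non-conjugate `M`, `N` with a common Sylow subgroup `S ≤ M_σ`, `N_G(S) ≤ M ∩ N`,
`q ∈ σ(N)` -/
theorem tau1_subset_of_pair (hG : IsMinSimpleOddOrder G) (h26 : H1426 G) (h28 : H1428 G)
    {M N : Subgroup G} (hM : IsCoatom M) (hN : IsCoatom N) (hnc : ∀ g : G, cj g M ≠ N) {q : ℕ}
    [Fact q.Prime] (hqN : q ∈ sigma N) {S : Subgroup G} (hS : IsSylowIn q ⊤ S)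
    (hSσ : S ≤ sigmaCore M) (hS1 : S ≠ ⊥) (hNS : Subgroup.normalizer (S : Set G) ≤ M ⊓ N) :
    tau1 M ⊆ tau1 N := by
  obtain ⟨-, E, E₁, E₃, hE, -, hE₁, -, -, -, -, -, -, -, -, -, -, h8⟩ :=
    pair_data hG h26 h28 hM hN hnc hqN hS hSσ hS1 hNS
  intro u hu
  exact h8 u hu.1 (dvd_card_hall_of_mem_tau1 hG hM hE hE₁ hu)

/-- **`τ₁(M) = τ₁(N)`** for non-conjugate maximal subgroups with a common `σ`-prime (steps 0-9). -/
theorem tau1_eq_of_common_sigma (hG : IsMinSimpleOddOrder G) (h26 : H1426 G) (h28 : H1428 G)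
    {M N : Subgroup G} (hM : IsCoatom M) (hN : IsCoatom N) (hnc : ∀ g : G, cj g M ≠ N)
    (hσ : (sigma M ∩ sigma N).Nonempty) : tau1 M = tau1 N := by
  obtain ⟨p, hpM, hpN⟩ := hσ
  haveI : Fact p.Prime := ⟨hpM.1⟩
  obtain ⟨k, S, hS, hS1, hSM, hSN, hNS⟩ := exists_common_sylow hG hM hN hpM hpN
  have hN' := isCoatom_cj k hN
  have hnc' := not_conj_cj hnc k
  have hnc'' : ∀ g : G, cj g (cj k N) ≠ M := Cfsg.Agent.Lib.Helper16.BG134.not_conj_symm hnc'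
  have hpN' : p ∈ sigma (cj k N) := Cfsg.Agent.Lib.Helper31.BG12.mem_sigma_cj hpN k
  have h1 := tau1_subset_of_pair hG h26 h28 hM hN' hnc' hpN' hS hSM hS1 hNS
  have h2 := tau1_subset_of_pair hG h26 h28 hN' hM hnc'' hpM hS hSN hS1
    (by rw [inf_comm]; exact hNS)
  rw [← tau1_cj N k]
  exact Set.Subset.antisymm h1 h2

end Cfsg.Agent.Lib.Helper31.BG139
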