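import Mathlib
import Cfsg.Agent.Lib.Helper15.BG139Defs
import Cfsg.Agent.Lib.Helper31.BG139B
import Cfsg.Agent.Lib.Helper55.BG134G9

/-!
# BG Theorem 13.9 (S1378), keystones 137802 (L1a), 137806 (L7), 137807 (L8), parallel hand
-/

set_option autoImplicit false
set_option linter.unusedVariables false

namespace Cfsg.Agent.Lib.Helper31.BG139

open Cfsg Cfsg.Agent.Lib.Helper55 Cfsg.Agent.Lib.Helper31.BG134 Cfsg.Agent.Lib.Helper15.BG139

variable {G : Type*} [Group G] [Finite G]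

/-- KEYSTONE 137802  K-S1378-L1a  (step 1). -/
theorem Cfg.basic {M N S : Subgroup G} {p : ℕ} (c : Cfg M N S p) :
    S ≤ sigmaCore M ∧ S ≠ ⊥ ∧ (∀ a ∈ S, ∀ b ∈ S, a * b = b * a) ∧
      S ⊓ ⁅sigmaCore M, sigmaCore M⁆ = ⊥ ∧ p ∉ alpha M ∧ p ∉ beta M := by
  have hG := c.hG
  have hM := c.hM
  have hN := c.hN
  haveI : Fact p.Prime := ⟨c.hpM.1⟩
  have hSp : IsPGroup p S := c.hS.2.1
  have hSM : S ≤ M := (Subgroup.le_normalizer.trans c.hNS).trans inf_le_left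
  have hpG : p ∣ Nat.card G := c.hpM.2.1.trans (Subgroup.card_subgroup_dvd_card M)
  obtain ⟨h9a, h9b, h9c⟩ :=
    Cfsg.Agent.Lib.Helper55.BG134.comm_of_sigma_sigma hG hM hN c.hnc c.hpM c.hpN
  refine ⟨Cfsg.Agent.Lib.Helper91.BG125.le_sigmaCore_of_mem_sigma hG hM c.hpM hSp hSM,
    sylow_ne_bot c.hS hpG, h9c S hSM hSp, ?_, ?_, h9a⟩
  · apply Cfsg.Agent.Lib.Helper31.BG12.eq_bot_of_forall_prime_not_dvd
    intro s hs hsd
    have h1 : s = p :=
      Cfsg.Agent.Lib.Helper58.BG134.eq_of_prime_dvd_card_isPGroup hSp hs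
        (hsd.trans (Subgroup.card_dvd_of_le inf_le_left))
    exact h9b (h1 ▸ hsd.trans (Subgroup.card_dvd_of_le inf_le_right))
  · exact fun h => Cfsg.Agent.Lib.Helper31.BG12.alpha_sigma_disjoint hG hM hN c.hnc h c.hpN

/-- KEYSTONE 137806  K-S1378-L7  (step 7 = BG 13.5). -/
theorem primeAct (hG : IsMinSimpleOddOrder G) {M E E₁ : Subgroup G} (hM : IsCoatom M)
    (h28 : Cfsg.Agent.Lib.Helper15.BG139.H1428 G) (hE : IsComplIn E (sigmaCore M) M)
    (hE₁ : IsPiHallOf (tau1 M) E₁ E) : PrimeAct M E₁ := by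
  have hE₁c : IsCyclic E₁ := (Cfsg.Agent.S1415.result hG M hM E hE).2.1 E₁ hE₁
  intro x hx hx1
  have h28' : Cfsg.Agent.Lib.Helper13.BG135.H1428 G :=
    fun M hM E hE p hp P hPE hP R hRE hR => h28 M hM E hE p hp P hPE hP R hRE hR
  rw [Cfsg.Agent.Lib.Helper13.BG135.prime_action hG h28' hM hE hE₁ hE₁c hx hx1]
  exact inf_le_right

/-- KEYSTONE 137807  K-S1378-L8  (step 8). -/
theorem Cfg.tau1_sub {M N S E E₁ E₃ : Subgroup G} {p : ℕ} (c : Cfg M N S p)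
    (d : Str M S E E₁ E₃) (hpa : PrimeAct M E₁) (h131 : T131 G) :
    ∀ u : ℕ, u.Prime → u ∣ Nat.card E₁ → u ∈ tau1 N := by
  have hG := c.hG
  have hM := c.hM
  have hN := c.hN
  haveI : Fact p.Prime := ⟨c.hpM.1⟩
  obtain ⟨hSσ, hS1, -, -, -, -⟩ := Cfg.basic c
  intro u hu hud
  by_contra hu1
  haveI : Fact u.Prime := ⟨hu⟩
  obtain ⟨x, hx⟩ := exists_prime_orderOf_dvd_card' (G := ↥E₁) u hud
  have hx1 : (x : G) ≠ 1 := by
    intro h
    have : x = 1 := Subtype.ext h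
    rw [this, orderOf_one] at hx
    exact hu.one_lt.ne hx
  have huM : u ∈ tau1 M := d.hE₁.2.1 u hu hud
  have hUp : IsPGroup u (Subgroup.zpowers (x : G)) := by
    apply IsPGroup.of_card (n := 1)
    rw [Nat.card_zpowers, Subgroup.orderOf_coe, hx, pow_one]
  have hUE : Subgroup.zpowers (x : G) ≤ E₁ := by
    rw [Subgroup.zpowers_le]; exact x.2
  have hUMN : Subgroup.zpowers (x : G) ≤ M ⊓ N := (hUE.trans d.hE₁.1).trans (d.hES.trans c.hNS)
  have hcent := h131 M N hM hN c.hnc u huM.2.1 (Subgroup.zpowers (x : G)) hUp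
    (hUMN.trans inf_le_left) (hUMN.trans inf_le_right) hu1
  have hSN : S ≤ N := (Subgroup.le_normalizer.trans c.hNS).trans inf_le_right
  have hxc : (x : G) ∈ Subgroup.centralizer ((sigmaCore M ⊓ N : Subgroup G) : Set G) :=
    hcent (Subgroup.mem_zpowers _)
  have hSle : S ≤ S ⊓ Subgroup.centralizer (E₁ : Set G) := by
    intro y hy
    refine ⟨hy, hpa x x.2 hx1 ⟨hSσ hy, ?_⟩⟩
    show y ∈ Subgroup.centralizer ({(x : G)} : Set G)
    rw [Subgroup.mem_centralizer_singleton_iff]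
    exact (Subgroup.mem_centralizer_iff.mp hxc y ⟨hSσ hy, hSN hy⟩)
  rw [d.hfix] at hSle
  exact hS1 (eq_bot_iff.mpr hSle)

end Cfsg.Agent.Lib.Helper31.BG139
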