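import Mathlib
import Cfsg.Agent.Lib.Helper15.BG139Defs
import Cfsg.Agent.Lib.Helper31.BG139B
import Cfsg.Agent.S1409
import Cfsg.Agent.S1417

/-!
# BG Theorem 13.9 (S1378), keystone 137813 (K1 = step 14), parallel hand
-/

set_option autoImplicit false
set_option linter.unusedVariables false

namespace Cfsg.Agent.Lib.Helper31.BG139

open Cfsg Cfsg.Agent.Lib.Helper55 Cfsg.Agent.Lib.Helper31.BG134 Cfsg.Agent.Lib.Helper15.BG139

variable {G : Type*} [Group G] [Finite G]

/-- KEYSTONE 137813  K-S1378-K1  (step 14). -/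
theorem POut.loc {M P H : Subgroup G} {r : ℕ} (o : POut M P r) (hH : IsCoatom H)
    (hNH : Subgroup.normalizer (P : Set G) ≤ H) (hST : SigmaTau G) (h131 : T131 G) :
    Loc M P H r ∧ (r ∈ sigma H ∨ r ∈ tau2 H) := by
  have hG := o.hG
  have hM := o.hM
  have hr : r.Prime := o.hr1.1
  haveI : Fact r.Prime := ⟨hr⟩
  have hPr : IsPGroup r P := IsPGroup.of_card (n := 1) (by rw [o.hPc, pow_one])
  have hPH : P ≤ H := Subgroup.le_normalizer.trans hNH
  -- `r ∈ σ(H) ∪ τ₂(H)`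
  have hcase : r ∈ sigma H ∨ r ∈ tau2 H := by
    by_cases hσ : r ∈ sigma H
    · exact Or.inl hσ
    · have h9 := Cfsg.Agent.S1409.result hG H hH r hσ P o.hPc hNH
      exact Or.inr ⟨hr, hσ, h9.1.1, h9.1.2⟩
  have hr1H : r ∉ tau1 H := by
    intro h
    rcases hcase with h' | h'
    · exact h.2.1 h'
    · exact h'.2.2.2 h.2.2.2.2
  -- not conjugate
  have hnc : ∀ g : G, cj g M ≠ H := by
    intro g hg
    apply hr1H
    rw [← hg]
    exact mem_tau1_cj o.hr1 g
  -- `σ(H) ∩ σ(M) = ∅`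
  have hσ : ∀ q : ℕ, q ∈ sigma H → q ∉ sigma M := by
    intro q hqH hqM
    rcases hcase with h' | h'
    · exact hST M H hM hH hnc q hqM hqH r o.hr1 h'
    · obtain ⟨A, hA⟩ := Cfsg.Agent.Lib.Helper13.BG12.exists_elemAb_sq_of_tau2 h'
      have hnil := (Cfsg.Agent.S1417.result hG H hH r h' A hA).1
      exact Cfsg.Agent.Lib.Helper31.BG12.sigma_sigma_disjoint hG hH hM
        (Cfsg.Agent.Lib.Helper16.BG134.not_conj_symm hnc) hnil hqH hqM
  -- `M_σ ∩ H = C_{M_σ}(P)`
  have hC : sigmaCore M ⊓ H = CP M P := by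
    apply le_antisymm
    · have h1 := h131 M H hM hH hnc r o.hr1.2.1 P hPr o.hPM hPH hr1H
      exact le_inf inf_le_left (Subgroup.le_centralizer_iff.mp h1)
    · exact le_inf inf_le_left
        (inf_le_right.trans ((Subgroup.centralizer_le_normalizer _).trans hNH))
  exact ⟨⟨o, hH, hNH, hnc, hσ, hC⟩, hcase⟩

end Cfsg.Agent.Lib.Helper31.BG139
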