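import Mathlib
import Cfsg.Agent.Lib.Helper31.BG139B
import Cfsg.Agent.Lib.Helper13.BG139W
import Cfsg.Agent.Lib.Helper04.BG124K6
import Cfsg.Agent.Lib.Helper18.BG134Fr
import Cfsg.Agent.Lib.Helper31.Scn3Types
import Cfsg.Agent.S1405

/-!
# BG Theorem 13.9 (σ-partition, S1378), step 11: the Hall `τ₁(M)`-subgroup `E₁` has prime order
-/

set_option autoImplicit false
set_option linter.unusedVariables false

namespace Cfsg.Agent.Lib.Helper31.BG139

open Cfsg Cfsg.Agent.Lib.Helper55 Cfsg.Agent.Lib.Helper31.BG134 Cfsg.Agent.Lib.Helper13.BG135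

variable {G : Type*} [Group G] [Finite G]

/-- **step 11**: `|E₁|` is prime. -/
theorem card_hall_tau1_prime (hG : IsMinSimpleOddOrder G) (h28 : H1428 G) {M N : Subgroup G}
    (hM : IsCoatom M) (hN : IsCoatom N) (hnc : ∀ g : G, cj g M ≠ N) {q : ℕ} [Fact q.Prime]
    (hqN : q ∈ sigma N) {S : Subgroup G} (hSq : IsPGroup q S) (hSσ : S ≤ sigmaCore M)
    (hS1 : S ≠ ⊥) (hNS : Subgroup.normalizer (S : Set G) ≤ N) {E E₁ : Subgroup G}
    (hE : IsComplIn E (sigmaCore M) M) (hES : E ≤ Subgroup.normalizer (S : Set G))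
    (hE₁ : IsPiHallOf (tau1 M) E₁ E) (hE₁c : IsCyclic E₁)
    (hfix : S ⊓ Subgroup.centralizer (E₁ : Set G) = ⊥) : (Nat.card E₁).Prime := by
  have hHall := (Cfsg.Agent.S1350.result hG M hM).1
  obtain ⟨hαH, hαHG, hασ, -, -⟩ := Cfsg.Agent.S1405.result hG M hM
  have hqp : q.Prime := Fact.out
  have hqM : q ∈ sigma M :=
    Cfsg.Agent.Lib.Helper71.BG11.sigmaCore_pi hG hM hqp
      ((Cfsg.Agent.Lib.Helper58.BG134.dvd_card_of_isPGroup_ne_bot hSq hS1).trans
        (Subgroup.card_dvd_of_le hSσ))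
  -- `M_α ≠ 1`
  have hα1 : alphaCore M ≠ ⊥ := by
    intro h
    have hnil := (Cfsg.Agent.Lib.Helper04.BG124.nilpotent_of_alphaCore_eq_bot hG hM h).2.2
    exact Cfsg.Agent.Lib.Helper31.BG12.sigma_sigma_disjoint hG hM hN hnc hnil hqM hqN
  -- a prime `t ∈ α(M)`
  obtain ⟨t, ht, htd⟩ : ∃ t : ℕ, t.Prime ∧ t ∣ Nat.card (alphaCore M) := by
    apply Nat.exists_prime_and_dvd
    intro h1
    exact hα1 (Subgroup.card_eq_one.mp h1)
  haveI : Fact t.Prime := ⟨ht⟩
  have htα : t ∈ alpha M := Cfsg.Agent.Lib.Helper31.BG12.alphaCore_pi ht htd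
  -- `E₁ ≠ 1`
  have hE₁1 : E₁ ≠ ⊥ := by
    intro h
    rw [h] at hfix
    have : Subgroup.centralizer ((⊥ : Subgroup G) : Set G) = ⊤ := by
      rw [Subgroup.coe_bot, Subgroup.centralizer_eq_top_iff_subset]
      intro x hx
      rw [Set.mem_singleton_iff] at hx
      rw [hx]
      exact Subgroup.one_mem _
    rw [this, inf_top_eq] at hfix
    exact hS1 hfix
  -- `Γ := S ⊔ E₁`
  have hE₁M : E₁ ≤ M := hE₁.1.trans hE.1
  have hSM : S ≤ M := hSσ.trans hHall.1
  have hΓM : S ⊔ E₁ ≤ M := sup_le hSM hE₁M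
  have hE₁S : E₁ ≤ Subgroup.normalizer (S : Set G) := hE₁.1.trans hES
  have hΓn : S ⊔ E₁ ≤ Subgroup.normalizer (alphaCore M : Set G) :=
    hΓM.trans (Cfsg.Agent.Lib.Helper31.le_normalizer_piCoreOf (alpha M) M)
  -- `|Γ|` is prime to `|M_α|`
  have hΓcard : Nat.card ↥(S ⊔ E₁) ∣ Nat.card S * Nat.card E₁ :=
    Cfsg.Agent.Lib.Helper11.BG134.card_sup_dvd_of_le_normalizer S E₁ hE₁S
  have hqα : q ∉ alpha M := fun h =>
    Cfsg.Agent.Lib.Helper31.BG12.alpha_sigma_disjoint hG hM hN hnc h hqN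
  have hΓα : ∀ u : ℕ, u.Prime → u ∣ Nat.card ↥(S ⊔ E₁) → u ∉ alpha M := by
    intro u hu hud hα
    rcases (Nat.Prime.dvd_mul hu).mp (hud.trans hΓcard) with h | h
    · have : u = q := Cfsg.Agent.Lib.Helper58.BG134.eq_of_prime_dvd_card_isPGroup hSq hu h
      exact hqα (this ▸ hα)
    · have h1 : u ∈ tau1 M := hE₁.2.1 u hu h
      apply hα.2
      obtain ⟨-, -, -, -, hr1⟩ := h1
      -- `PRankLE u 1 M → PRankLE u 2 M`
      rw [Cfsg.Agent.Lib.Helper55.pRankLE_sub_iff] at hr1 ⊢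
      intro A hA hc he
      exact (hr1 A hA hc he).trans (Nat.pow_le_pow_right hu.pos (by norm_num))
  have hcop : (Nat.card ↥(S ⊔ E₁)).Coprime (Nat.card (alphaCore M)) :=
    Cfsg.Agent.Lib.Helper13.BG12.coprime_of_primes_disjoint hΓα
      (fun u hu hud => Cfsg.Agent.Lib.Helper31.BG12.alphaCore_pi hu hud)
  -- a `Γ`-invariant Sylow `t`-subgroup of `M_α`
  have hαtop : alphaCore M ≠ ⊤ := fun h => hM.1 (top_le_iff.mp (h ▸ hαH.1))
  have hsolvα : Group.IsSolvable ↥(alphaCore M) := ms_solvable hG hαtop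
  obtain ⟨P₁, -, hΓP₁⟩ := Cfsg.Agent.S0025.result (S ⊔ E₁) (alphaCore M) hΓn hcop (Or.inr hsolvα) t
    ⊥ bot_le (IsPGroup.of_bot)
    (by rw [Subgroup.normalizer_eq_top_iff.mpr Subgroup.normal_bot]; exact le_top)
  obtain ⟨T, hT⟩ :
      ∃ T : Subgroup G, T = (P₁ : Subgroup (alphaCore M)).map (alphaCore M).subtype := ⟨_, rfl⟩
  have hTsyl : IsSylowIn t (alphaCore M) T := by rw [hT]; exact isSylowIn_of_sylow P₁
  have hΓT : S ⊔ E₁ ≤ Subgroup.normalizer (T : Set G) := by rw [hT]; exact hΓP₁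
  -- `T` is a Sylow `t`-subgroup of `M`
  have hTM : IsSylowIn t M T := by
    apply Cfsg.Agent.Lib.Helper18.BG134.isSylowIn_of_not_dvd_relIndex (hTsyl.1.trans hαH.1) hTsyl.2.1
    have h1 : T.relIndex M = T.relIndex (alphaCore M) * (alphaCore M).relIndex M :=
      (Subgroup.relIndex_mul_relIndex T (alphaCore M) M hTsyl.1 hαH.1).symm
    rw [h1]
    intro hd
    rcases (Nat.Prime.dvd_mul ht).mp hd with h | h
    · have h2 : T.relIndex (alphaCore M) = (P₁ : Subgroup (alphaCore M)).index := by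
        rw [hT, Subgroup.relIndex, Subgroup.subgroupOf,
          Subgroup.comap_map_eq_self_of_injective (alphaCore M).subtype_injective]
      rw [h2] at h
      exact P₁.not_dvd_index h
    · exact hαH.2.2 t ht htα h
  -- `T` has rank at least 3
  have hTr : ¬ PRankLE t 2 ↥T := fun h => htα.2 (Cfsg.Agent.Lib.Helper55.pRankLE_of_isSylowIn hTM h)
  -- `S` does not centralize `T`
  have hST : ¬ T ≤ Subgroup.centralizer (S : Set G) := by
    intro h
    have hTN : T ≤ N := (h.trans (Subgroup.centralizer_le_normalizer _)).trans hNS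
    have h1 : ¬ PRankLE t 2 ↥N := Cfsg.Agent.Lib.Helper31.Scn3.not_pRankLE_mono hTN hTr
    have h2 : t ∈ sigma N := Cfsg.Agent.Lib.Helper13.BG12.mem_sigma_of_not_pRankLE_two hG hN ht h1
    exact Cfsg.Agent.Lib.Helper31.BG12.alpha_sigma_disjoint hG hM hN hnc htα h2
  -- a subgroup `P ≤ E₁` of prime order
  obtain ⟨r, hr, hrd⟩ : ∃ r : ℕ, r.Prime ∧ r ∣ Nat.card E₁ := by
    apply Nat.exists_prime_and_dvd
    intro h1
    exact hE₁1 (Subgroup.card_eq_one.mp h1)
  haveI : Fact r.Prime := ⟨hr⟩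
  obtain ⟨x, hx⟩ := exists_prime_orderOf_dvd_card' (G := ↥E₁) r hrd
  have hPc : Nat.card (Subgroup.zpowers (x : G)) = r := by
    rw [Nat.card_zpowers, Subgroup.orderOf_coe, hx]
  have hPE : Subgroup.zpowers (x : G) ≤ E₁ := by
    rw [Subgroup.zpowers_le]; exact x.2
  have hP1 : Subgroup.zpowers (x : G) ≠ ⊥ := by
    intro h
    rw [h, Subgroup.card_bot] at hPc
    exact hr.one_lt.ne hPc
  -- prime action on `T ≤ M_σ`
  have hTσ : T ≤ sigmaCore M := hTsyl.1.trans hασ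
  have hprime : T ⊓ Subgroup.centralizer ((Subgroup.zpowers (x : G) : Subgroup G) : Set G) =
      T ⊓ Subgroup.centralizer (E₁ : Set G) := by
    have h1 := prime_action_subgroup hG h28 hM hE hE₁ hE₁c hPE hP1
    apply le_antisymm
    · intro y hy
      have : y ∈ sigmaCore M ⊓ Subgroup.centralizer (E₁ : Set G) := by
        rw [← h1]; exact ⟨hTσ hy.1, hy.2⟩
      exact ⟨hy.1, this.2⟩
    · exact inf_le_inf_left _ (Subgroup.centralizer_le hPE)
  -- Frobenius property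
  have hfrob : ∀ e ∈ E₁, e ≠ 1 → ∀ u ∈ S, e * u = u * e → u = 1 := by
    intro e he he1 u hu hc
    have h1 := inf_centralizer_singleton_eq_bot hG h28 hM hE hE₁ hE₁c hSσ hfix he he1
    have h2 : u ∈ S ⊓ Subgroup.centralizer ({e} : Set G) := by
      refine ⟨hu, ?_⟩
      show u ∈ Subgroup.centralizer ({e} : Set G)
      rw [Subgroup.mem_centralizer_singleton_iff]
      exact hc.symm
    rw [h1, Subgroup.mem_bot] at h2
    exact h2
  have hUn : ∀ e ∈ E₁, ∀ u ∈ S, e * u * e⁻¹ ∈ S := by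
    intro e he u hu
    exact (Subgroup.mem_normalizer_iff.mp (hE₁S he) u).mp hu
  have hHn : ∀ y ∈ S ⊔ E₁, ∀ h ∈ T, y * h * y⁻¹ ∈ T := by
    intro y hy h hh
    exact (Subgroup.mem_normalizer_iff.mp (hΓT hy) h).mp hh
  have hTsolv : Group.IsSolvable ↥T := by
    have : Group.IsNilpotent ↥T := hTsyl.2.1.isNilpotent
    infer_instance
  have hcop' : (Nat.card T).Coprime (Nat.card ↥(S ⊔ E₁)) :=
    (Nat.Coprime.coprime_dvd_right (Subgroup.card_dvd_of_le hTsyl.1) hcop).symm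
  have hcard := Cfsg.Agent.Lib.Helper13.BG139.card_eq_of_wielandt S E₁ (Subgroup.zpowers (x : G)) T
    hPE hUn hfrob hSq.isNilpotent hHn hTsolv hcop' hprime hST
  rw [← hcard, hPc]
  exact hr

end Cfsg.Agent.Lib.Helper31.BG139
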