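import Mathlib
import Cfsg.Agent.Lib.Helper15.BG139Defs
import Cfsg.Agent.Lib.Helper31.BG139C

/-!
# BG Theorem 13.9 (S1378), keystones 137808 (L11a) and 137809 (L11b), parallel hand
-/

set_option autoImplicit false
set_option linter.unusedVariables false

namespace Cfsg.Agent.Lib.Helper31.BG139

open Cfsg Cfsg.Agent.Lib.Helper55 Cfsg.Agent.Lib.Helper31.BG134 Cfsg.Agent.Lib.Helper15.BG139

variable {G : Type*} [Group G] [Finite G]

/-- KEYSTONE 137808  K-S1378-L11a. -/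
theorem Cfg.exists_inv_sylow_alpha {M N S E E₁ E₃ : Subgroup G} {p : ℕ} (c : Cfg M N S p)
    (d : Str M S E E₁ E₃) (hα1 : alphaCore M ≠ ⊥) (hpα : p ∉ alpha M) :
    ∃ (t : ℕ) (T : Subgroup G), t.Prime ∧ IsPGroup t T ∧ T ≤ alphaCore M ∧
      S ≤ Subgroup.normalizer (T : Set G) ∧ E₁ ≤ Subgroup.normalizer (T : Set G) ∧
      ¬ t ∣ Nat.card ↥(S ⊔ E₁) ∧ ¬ T ≤ Subgroup.centralizer (S : Set G) := by
  have hG := c.hG
  have hM := c.hM
  have hN := c.hN
  have hnc := c.hnc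
  haveI : Fact p.Prime := ⟨c.hpM.1⟩
  have hSq : IsPGroup p S := c.hS.2.1
  have hE := d.hE
  have hE₁ := d.hE₁
  have hES := d.hES
  obtain ⟨hαH, hαHG, hασ, -, -⟩ := Cfsg.Agent.S1405.result hG M hM
  obtain ⟨t, ht, htd⟩ : ∃ t : ℕ, t.Prime ∧ t ∣ Nat.card (alphaCore M) := by
    apply Nat.exists_prime_and_dvd
    intro h1
    exact hα1 (Subgroup.card_eq_one.mp h1)
  haveI : Fact t.Prime := ⟨ht⟩
  have htα : t ∈ alpha M := Cfsg.Agent.Lib.Helper31.BG12.alphaCore_pi ht htd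
  have hE₁M : E₁ ≤ M := hE₁.1.trans hE.1
  have hSM : S ≤ M := (Subgroup.le_normalizer.trans c.hNS).trans inf_le_left
  have hΓM : S ⊔ E₁ ≤ M := sup_le hSM hE₁M
  have hE₁S : E₁ ≤ Subgroup.normalizer (S : Set G) := hE₁.1.trans hES
  have hΓn : S ⊔ E₁ ≤ Subgroup.normalizer (alphaCore M : Set G) :=
    hΓM.trans (Cfsg.Agent.Lib.Helper31.le_normalizer_piCoreOf (alpha M) M)
  have hΓcard : Nat.card ↥(S ⊔ E₁) ∣ Nat.card S * Nat.card E₁ :=
    Cfsg.Agent.Lib.Helper11.BG134.card_sup_dvd_of_le_normalizer S E₁ hE₁S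
  have hΓα : ∀ u : ℕ, u.Prime → u ∣ Nat.card ↥(S ⊔ E₁) → u ∉ alpha M := by
    intro u hu hud hα
    rcases (Nat.Prime.dvd_mul hu).mp (hud.trans hΓcard) with h | h
    · have : u = p := Cfsg.Agent.Lib.Helper58.BG134.eq_of_prime_dvd_card_isPGroup hSq hu h
      exact hpα (this ▸ hα)
    · have h1 : u ∈ tau1 M := hE₁.2.1 u hu h
      apply hα.2
      obtain ⟨-, -, -, -, hr1⟩ := h1
      rw [Cfsg.Agent.Lib.Helper55.pRankLE_sub_iff] at hr1 ⊢
      intro A hA hc he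
      exact (hr1 A hA hc he).trans (Nat.pow_le_pow_right hu.pos (by norm_num))
  have hcop : (Nat.card ↥(S ⊔ E₁)).Coprime (Nat.card (alphaCore M)) :=
    Cfsg.Agent.Lib.Helper13.BG12.coprime_of_primes_disjoint hΓα
      (fun u hu hud => Cfsg.Agent.Lib.Helper31.BG12.alphaCore_pi hu hud)
  have hαtop : alphaCore M ≠ ⊤ := fun h => hM.1 (top_le_iff.mp (h ▸ hαH.1))
  have hsolvα : Group.IsSolvable ↥(alphaCore M) := ms_solvable hG hαtop
  obtain ⟨P₁, -, hΓP₁⟩ := Cfsg.Agent.S0025.result (S ⊔ E₁) (alphaCore M) hΓn hcop (Or.inr hsolvα) t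
    ⊥ bot_le (IsPGroup.of_bot)
    (by rw [Subgroup.normalizer_eq_top_iff.mpr Subgroup.normal_bot]; exact le_top)
  obtain ⟨T, hT⟩ :
      ∃ T : Subgroup G, T = (P₁ : Subgroup (alphaCore M)).map (alphaCore M).subtype := ⟨_, rfl⟩
  have hTsyl : IsSylowIn t (alphaCore M) T := by rw [hT]; exact isSylowIn_of_sylow P₁
  have hΓT : S ⊔ E₁ ≤ Subgroup.normalizer (T : Set G) := by rw [hT]; exact hΓP₁
  have hTM : IsSylowIn t M T := by
    apply Cfsg.Agent.Lib.Helper18.BG134.isSylowIn_of_not_dvd_relIndex (hTsyl.1.trans hαH.1) hTsyl.2.1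
    have h1 : T.relIndex M = T.relIndex (alphaCore M) * (alphaCore M).relIndex M :=
      (Subgroup.relIndex_mul_relIndex T (alphaCore M) M hTsyl.1 hαH.1).symm
    rw [h1]
    intro hd
    rcases (Nat.Prime.dvd_mul ht).mp hd with h | h
    · have h2 : T.relIndex (alphaCore M) = (P₁ : Subgroup (alphaCore M)).index := by
        rw [hT, Subgroup.relIndex, Subgroup.subgroupOf,
          Subgroup.comap_map_eq_self_of_injective (alphaCore M).subtype_injective]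
      rw [h2] at h
      exact P₁.not_dvd_index h
    · exact hαH.2.2 t ht htα h
  have hTr : ¬ PRankLE t 2 ↥T := fun h => htα.2 (Cfsg.Agent.Lib.Helper55.pRankLE_of_isSylowIn hTM h)
  have hST : ¬ T ≤ Subgroup.centralizer (S : Set G) := by
    intro h
    have hTN : T ≤ N :=
      (h.trans (Subgroup.centralizer_le_normalizer _)).trans (c.hNS.trans inf_le_right)
    have h1 : ¬ PRankLE t 2 ↥N := Cfsg.Agent.Lib.Helper31.Scn3.not_pRankLE_mono hTN hTr
    have h2 : t ∈ sigma N := Cfsg.Agent.Lib.Helper13.BG12.mem_sigma_of_not_pRankLE_two hG hN ht h1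
    exact Cfsg.Agent.Lib.Helper31.BG12.alpha_sigma_disjoint hG hM hN hnc htα h2
  refine ⟨t, T, ht, hTsyl.2.1, hTsyl.1, le_sup_left.trans hΓT, le_sup_right.trans hΓT, ?_, hST⟩
  intro htΓ
  exact hΓα t ht htΓ htα

/-- KEYSTONE 137809  K-S1378-L11b. -/
theorem card_prime_of_wielandt {S E₁ T : Subgroup G} {t : ℕ} (ht : t.Prime) (hT : IsPGroup t T)
    (hE₁1 : E₁ ≠ ⊥) (hSnil : Group.IsNilpotent S)
    (hE₁S : E₁ ≤ Subgroup.normalizer (S : Set G))
    (hfpf : ∀ e ∈ E₁, e ≠ 1 → ∀ u ∈ S, e * u = u * e → u = 1)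
    (hST : S ≤ Subgroup.normalizer (T : Set G)) (hE₁T : E₁ ≤ Subgroup.normalizer (T : Set G))
    (hcop : ¬ t ∣ Nat.card ↥(S ⊔ E₁))
    (hprime : ∀ e ∈ E₁, e ≠ 1 →
      T ⊓ Subgroup.centralizer ({e} : Set G) ≤ Subgroup.centralizer (E₁ : Set G))
    (hnc : ¬ T ≤ Subgroup.centralizer (S : Set G)) : (Nat.card E₁).Prime := by
  haveI : Fact t.Prime := ⟨ht⟩
  obtain ⟨r, hr, hrd⟩ : ∃ r : ℕ, r.Prime ∧ r ∣ Nat.card E₁ := by
    apply Nat.exists_prime_and_dvd
    intro h1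
    exact hE₁1 (Subgroup.card_eq_one.mp h1)
  haveI : Fact r.Prime := ⟨hr⟩
  obtain ⟨x, hx⟩ := exists_prime_orderOf_dvd_card' (G := ↥E₁) r hrd
  have hPc : Nat.card (Subgroup.zpowers (x : G)) = r := by
    rw [Nat.card_zpowers, Subgroup.orderOf_coe, hx]
  have hPE : Subgroup.zpowers (x : G) ≤ E₁ := by
    rw [Subgroup.zpowers_le]; exact x.2
  have hx1 : (x : G) ≠ 1 := by
    intro h
    have : x = 1 := Subtype.ext h
    rw [this, orderOf_one] at hx
    exact hr.one_lt.ne hx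
  have hprime' : T ⊓ Subgroup.centralizer ((Subgroup.zpowers (x : G) : Subgroup G) : Set G) =
      T ⊓ Subgroup.centralizer (E₁ : Set G) := by
    apply le_antisymm
    · intro y hy
      refine ⟨hy.1, hprime x x.2 hx1 ⟨hy.1, ?_⟩⟩
      show y ∈ Subgroup.centralizer ({(x : G)} : Set G)
      rw [Subgroup.mem_centralizer_singleton_iff]
      exact ((Subgroup.mem_centralizer_iff.mp hy.2) x (Subgroup.mem_zpowers _)).symm
    · exact inf_le_inf_left _ (Subgroup.centralizer_le hPE)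
  have hUn : ∀ e ∈ E₁, ∀ u ∈ S, e * u * e⁻¹ ∈ S := by
    intro e he u hu
    exact (Subgroup.mem_normalizer_iff.mp (hE₁S he) u).mp hu
  have hΓT : S ⊔ E₁ ≤ Subgroup.normalizer (T : Set G) := sup_le hST hE₁T
  have hHn : ∀ y ∈ S ⊔ E₁, ∀ h ∈ T, y * h * y⁻¹ ∈ T := by
    intro y hy h hh
    exact (Subgroup.mem_normalizer_iff.mp (hΓT hy) h).mp hh
  have hTsolv : Group.IsSolvable ↥T := by
    have : Group.IsNilpotent ↥T := hT.isNilpotent
    infer_instance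
  have hcop' : (Nat.card T).Coprime (Nat.card ↥(S ⊔ E₁)) := by
    obtain ⟨n, hn⟩ := IsPGroup.iff_card.mp hT
    rw [hn]
    exact Nat.Coprime.pow_left n ((Nat.Prime.coprime_iff_not_dvd ht).mpr hcop)
  have hcard := Cfsg.Agent.Lib.Helper13.BG139.card_eq_of_wielandt S E₁ (Subgroup.zpowers (x : G)) T
    hPE hUn hfpf hSnil hHn hTsolv hcop' hprime' hnc
  rw [← hcard, hPc]
  exact hr

end Cfsg.Agent.Lib.Helper31.BG139
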