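import Mathlib
import Cfsg.Agent.Lib.Helper15.BG139Defs
import Cfsg.Agent.Lib.Helper28.BG134G7
import Cfsg.Agent.Lib.Helper29.Coprime
import Cfsg.Agent.Lib.Helper31.Transitivity
import Cfsg.Agent.Lib.Helper11.BG134P2
import Cfsg.Agent.Lib.Helper13.BG12A
import Cfsg.Agent.Lib.Helper71.BG11a
import Cfsg.Agent.Lib.Helper91.BG125e

/-!
# BG Theorem 13.9 (S1378), keystone 137812 (L13): `C_{M_σ}(P)` is a `β(M)`-group
-/

set_option autoImplicit false
set_option linter.unusedVariables false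

namespace Cfsg.Agent.Lib.Helper31.BG139

open Cfsg Cfsg.Agent.Lib.Helper55 Cfsg.Agent.Lib.Helper31.BG134 Cfsg.Agent.Lib.Helper15.BG139

variable {G : Type*} [Group G] [Finite G]

/-- KEYSTONE 137812  K-S1378-L13  (step 13: `C_{M_σ}(P)` is a `β(M)`-group). -/
theorem Cfg.cent_le_beta {M N S : Subgroup G} {p : ℕ} (c : Cfg M N S p) {P : Subgroup G} {r : ℕ}
    (hr : r.Prime) (hPc : Nat.card P = r) (hrM : r ∉ sigma M) (hPD : P ≤ M ⊓ N)
    (hCD : M ⊓ N ⊓ Subgroup.centralizer (P : Set G) ≤ P) :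
    ∀ q : ℕ, q.Prime → q ∣ Nat.card ↥(CP M P) → q ∈ beta M := by
  have hG := c.hG
  have hM := c.hM
  have hN := c.hN
  haveI : Fact p.Prime := ⟨c.hpM.1⟩
  haveI : Fact r.Prime := ⟨hr⟩
  have hPr : IsPGroup r P := IsPGroup.of_card (n := 1) (by rw [hPc, pow_one])
  -- `S ≠ ⊥`, `S ≤ N`
  have hSN : S ≤ N := (Subgroup.le_normalizer.trans c.hNS).trans inf_le_right
  have hS1 : S ≠ ⊥ := by
    intro h
    have hpG : p ∣ Nat.card G := c.hpM.2.1.trans (Subgroup.card_subgroup_dvd_card M)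
    obtain ⟨x, hx⟩ := exists_prime_orderOf_dvd_card' (G := G) p hpG
    have hZ : IsPGroup p (Subgroup.zpowers x) := by
      apply IsPGroup.of_card (n := 1)
      rw [Nat.card_zpowers, hx, pow_one]
    have := c.hS.2.2 (Subgroup.zpowers x) le_top hZ (h ▸ bot_le)
    rw [h, Subgroup.zpowers_eq_bot] at this
    rw [this, orderOf_one] at hx
    exact c.hpM.1.one_lt.ne hx
  have hne : M ≠ N := fun h => c.hnc 1 (by rw [cj_one]; exact h)
  -- G7 with the roles `(M := N, L := M)`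
  have h7 := Cfsg.Agent.Lib.Helper28.BG134.eq_beta_mul_inf hG hN hM hne c.hpN c.hpM c.hS.2.1 hS1 hSN
    (c.hNS.trans inf_le_left)
  set B := piCoreOf (beta M) M with hB
  have hBM : B ≤ M := Cfsg.Agent.Lib.Helper31.piCoreOf_le (beta M) M
  have hBn : M ≤ Subgroup.normalizer (B : Set G) :=
    Cfsg.Agent.Lib.Helper31.le_normalizer_piCoreOf (beta M) M
  have hBπ : ∀ q : ℕ, q.Prime → q ∣ Nat.card B → q ∈ beta M :=
    Cfsg.Agent.Lib.Helper31.piCoreOf_pi (beta M) M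
  have hβσ : ∀ q : ℕ, q ∈ beta M → q ∈ sigma M := fun q hq =>
    Cfsg.Agent.Lib.Helper13.BG12.mem_sigma_of_not_pRankLE_two hG hM hq.1.1 hq.1.2
  have hrB : ¬ r ∣ Nat.card B := fun h => hrM (hβσ r (hBπ r hr h))
  -- `CP M P ≤ B ⊔ P`
  have hle : CP M P ≤ B ⊔ P := by
    intro y hy
    have hyM : y ∈ M := Cfsg.Agent.Lib.Helper71.BG11.sigmaCore_le M hy.1
    obtain ⟨b, hb, m, hm, hybm⟩ := h7 y hyM
    have hmM : m ∈ M := hm.2
    have hmN : m ∈ N := hm.1
    -- the coset `(B ⊓ (M ⊓ N)) m`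
    set K := B ⊓ (M ⊓ N) with hK
    let Ω : Set G := (fun c => c * m) '' (K : Set G)
    have hΩfin : Finite Ω := Set.Finite.image _ (Set.toFinite _)
    have hΩcard : Nat.card Ω = Nat.card K := by
      have : Nat.card Ω = Nat.card (K : Set G) :=
        Nat.card_image_of_injective (mul_left_injective m) _
      rw [this]
      rfl
    have hΩr : ¬ r ∣ Nat.card Ω := by
      rw [hΩcard]
      intro h
      exact hrB (h.trans (Subgroup.card_dvd_of_le inf_le_left))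
    have hcentP : ∀ x ∈ P, x * y * x⁻¹ = y := by
      intro x hx
      have := (Subgroup.mem_centralizer_iff.mp hy.2) x hx
      calc x * y * x⁻¹ = y * x * x⁻¹ := by rw [this]
        _ = y := by group
    have hinv : ∀ g ∈ P, ∀ s ∈ Ω, g * s * g⁻¹ ∈ Ω := by
      rintro g hg s ⟨k, hk, rfl⟩
      have hgM : g ∈ M := (hPD hg).1
      have hgN : g ∈ N := (hPD hg).2
      -- `g m g⁻¹ = (g b⁻¹ g⁻¹ b) m`
      have h1 : g * m * g⁻¹ = (g * b⁻¹ * g⁻¹ * b) * m := by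
        have h2 := hcentP g hg
        rw [hybm] at h2
        have : g * m * g⁻¹ = (g * b * g⁻¹)⁻¹ * (g * (b * m) * g⁻¹) := by group
        rw [this, h2]
        group
      have hgb : g * b⁻¹ * g⁻¹ ∈ B :=
        (Subgroup.mem_normalizer_iff.mp (hBn hgM) b⁻¹).mp (B.inv_mem hb)
      have hc1 : g * b⁻¹ * g⁻¹ * b ∈ B := B.mul_mem hgb hb
      have hc2 : g * b⁻¹ * g⁻¹ * b ∈ M ⊓ N := by
        have : g * b⁻¹ * g⁻¹ * b = (g * m * g⁻¹) * m⁻¹ := by rw [h1]; group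
        rw [this]
        exact ⟨M.mul_mem (M.mul_mem (M.mul_mem hgM hmM) (M.inv_mem hgM)) (M.inv_mem hmM),
          N.mul_mem (N.mul_mem (N.mul_mem hgN hmN) (N.inv_mem hgN)) (N.inv_mem hmN)⟩
      have hgk : g * k * g⁻¹ ∈ K := by
        refine ⟨(Subgroup.mem_normalizer_iff.mp (hBn hgM) k).mp hk.1, ?_, ?_⟩
        · exact M.mul_mem (M.mul_mem hgM hk.2.1) (M.inv_mem hgM)
        · exact N.mul_mem (N.mul_mem hgN hk.2.2) (N.inv_mem hgN)
      refine ⟨(g * k * g⁻¹) * (g * b⁻¹ * g⁻¹ * b), K.mul_mem hgk ⟨hc1, hc2⟩, ?_⟩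
      show (g * k * g⁻¹) * (g * b⁻¹ * g⁻¹ * b) * m = g * (k * m) * g⁻¹
      have : g * (k * m) * g⁻¹ = (g * k * g⁻¹) * (g * m * g⁻¹) := by group
      rw [this, h1]
      group
    obtain ⟨s, ⟨k, hk, rfl⟩, hfix⟩ :=
      Cfsg.Agent.Lib.Helper29.exists_conj_fixed_of_pgroup P hPr Ω hinv hΩr
    -- `k m ∈ M ∩ N ∩ C(P) ≤ P`
    have hkm : k * m ∈ M ⊓ N ⊓ Subgroup.centralizer (P : Set G) := by
      refine ⟨⟨M.mul_mem hk.2.1 hmM, N.mul_mem hk.2.2 hmN⟩, ?_⟩
      show k * m ∈ Subgroup.centralizer (P : Set G)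
      rw [Subgroup.mem_centralizer_iff]
      intro g hg
      have := hfix g hg
      calc g * (k * m) = (g * (k * m) * g⁻¹) * g := by group
        _ = k * m * g := by rw [this]
    have hkmP : k * m ∈ P := hCD hkm
    have : y = (b * k⁻¹) * (k * m) := by rw [hybm]; group
    rw [this]
    exact Subgroup.mul_mem _ (Subgroup.mem_sup_left (B.mul_mem hb (B.inv_mem hk.1)))
      (Subgroup.mem_sup_right hkmP)
  -- conclusion
  intro q hq hqd
  have hqσ : q ∈ sigma M :=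
    Cfsg.Agent.Lib.Helper71.BG11.sigmaCore_pi hG hM hq
      (hqd.trans (Subgroup.card_dvd_of_le inf_le_left))
  have hPnB : P ≤ Subgroup.normalizer (B : Set G) := (hPD.trans inf_le_left).trans hBn
  have hd : q ∣ Nat.card B * Nat.card P :=
    (hqd.trans (Subgroup.card_dvd_of_le hle)).trans
      (Cfsg.Agent.Lib.Helper11.BG134.card_sup_dvd_of_le_normalizer B P hPnB)
  rcases (Nat.Prime.dvd_mul hq).mp hd with h | h
  · exact hBπ q hq h
  · rw [hPc] at h
    have : q = r := (Nat.prime_dvd_prime_iff_eq hq hr).mp h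
    exact absurd (this ▸ hqσ) hrM

end Cfsg.Agent.Lib.Helper31.BG139
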