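import Mathlib
import Cfsg.Prelude.Def_OddOrderLocal
import Cfsg.Agent.Lib.Helper55.SylowIn
import Cfsg.Agent.Lib.Helper15.BG139Defs

/-!
# BG Lemma 13.7 (`tau12_regular`), nonabelian Sylow case: shared definitions of the pack K-137N

Paper proof: `notes/BG13_7_nonabelian_helper58.md` (steps (a)-(n)).
Spec of the leaves: `notes/BG137N_keystones.lean.txt`.
-/

set_option autoImplicit false

namespace Cfsg.Agent.Lib.Helper31.BG137

open Cfsg Cfsg.Agent.Lib.Helper55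

variable {G : Type*} [Group G] [Finite G]

/-- a counterexample to BG 13.7: `p ∈ τ₁(M)`, `P ≤ E` of order `p`, `q ∈ τ₂(M)`, `A ≤ E` elementary
abelian of order `q ^ 2`, `C_A(P) ≠ 1` and `C_{M_σ}(P) ≠ 1`. -/
structure Cfg (M E P A : Subgroup G) (p q : ℕ) : Prop where
  hG : IsMinSimpleOddOrder G
  hM : IsCoatom M
  hE : IsComplIn E (sigmaCore M) M
  hp : p ∈ tau1 M
  hPE : P ≤ E
  hP : Nat.card P = p
  hq : q ∈ tau2 M
  hAE : A ≤ E
  hAe : IsElementaryAbelian q A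
  hAc : Nat.card A = q ^ 2
  hCA : A ⊓ Subgroup.centralizer (P : Set G) ≠ ⊥
  hC : sigmaCore M ⊓ Subgroup.centralizer (P : Set G) ≠ ⊥

/-- `Cfg` + nonabelian Sylow `q`-subgroups + a maximal subgroup `L ≥ N_G(A)` (steps (d), (e)). -/
structure LCfg (M E P A L : Subgroup G) (p q : ℕ) : Prop where
  c : Cfg M E P A p q
  hS : ∀ S : Sylow q G, ¬ IsMulCommutative (S : Subgroup G)
  hL : IsCoatom L
  hNA : Subgroup.normalizer (A : Set G) ≤ L
  hLM : L ≠ M
  hEL : E ≤ L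
  hσL : sigmaCore M ⊓ L = ⊥
  hML : M ⊓ L = E
  hqL : q ∈ sigma L

/-- step (j): a `P`-invariant Sylow `q`-subgroup `S₁ ≥ A` of `L_σ` and a complement `EL ∋ P` of `L_σ`
in `L` normalizing `S₁`, with `EL' ≤ C(S₁)`. -/
structure SCfg (M E P A L S₁ EL : Subgroup G) (p q : ℕ) : Prop where
  l : LCfg M E P A L p q
  hp1L : p ∈ tau1 L
  hS₁ : IsSylowIn q (sigmaCore L) S₁
  hAS : A ≤ S₁
  hEL : IsComplIn EL (sigmaCore L) L
  hPEL : P ≤ EL
  hELS : EL ≤ Subgroup.normalizer (S₁ : Set G)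
  hder : ⁅EL, EL⁆ ≤ Subgroup.centralizer (S₁ : Set G)

end Cfsg.Agent.Lib.Helper31.BG137
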