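import Mathlib
import Cfsg.Agent.Lib.Helper31.BG137Defs
import Cfsg.Agent.Lib.Helper12.CNMaxSub
import Cfsg.Agent.Lib.Helper58.BG1217U
import Cfsg.Agent.S1417
import Cfsg.Agent.S1418

/-!
# BG 13.7, pack K-137N, keystone 137705 (steps (d),(e)), parallel hand
-/

set_option autoImplicit false
set_option linter.unusedVariables false
set_option linter.style.haveILetI false

namespace Cfsg.Agent.Lib.Helper31.BG137

open Cfsg Cfsg.Agent.Lib.Helper55

variable {G : Type*} [Group G] [Finite G]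

/-- KEYSTONE 137705  K-137N-D  (steps (d),(e)).  A maximal subgroup `L ≥ N_G(A)`. -/
theorem Cfg.exists_L {M E P A : Subgroup G} {p q : ℕ} (c : Cfg M E P A p q) :
    ∃ L : Subgroup G, IsCoatom L ∧ Subgroup.normalizer (A : Set G) ≤ L ∧ L ≠ M ∧ E ≤ L ∧
      sigmaCore M ⊓ L = ⊥ ∧ M ⊓ L = E ∧ q ∈ sigma L := by
  have hG := c.hG
  have hM := c.hM
  have hqp : q.Prime := c.hq.1
  haveI : Fact q.Prime := ⟨hqp⟩
  have hAM : A ≤ M := c.hAE.trans c.hE.1
  have hA1 : A ≠ ⊥ := by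
    intro h
    have := c.hAc
    rw [h, Subgroup.card_bot] at this
    have h2 : 1 < q ^ 2 := Nat.one_lt_pow (by norm_num) hqp.one_lt
    omega
  have hAtop : A ≠ ⊤ := fun h => hM.1 (top_le_iff.mp (h ▸ hAM))
  obtain ⟨L, hL, hNA⟩ := Cfsg.Agent.Lib.Helper12.CNMaxSub.exists_coatom_normalizer_le hG hA1 hAtop
  obtain ⟨⟨hEN, -⟩, ⟨-, -, hNM⟩, -⟩ :=
    Cfsg.Agent.S1418.result hG M hM E c.hE q c.hq A ⟨c.hAE, c.hAe, c.hAc⟩
  obtain ⟨-, -, -, -, h17e, -⟩ := Cfsg.Agent.S1417.result hG M hM q c.hq A ⟨hAM, c.hAe, c.hAc⟩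
  have hLM : L ≠ M := fun h => hNM (h ▸ hNA)
  have hEL : E ≤ L := hEN.trans hNA
  have hAL : A ≤ L := Subgroup.le_normalizer.trans hNA
  have hσL : sigmaCore M ⊓ L = ⊥ := h17e L hL hLM hAL
  refine ⟨L, hL, hNA, hLM, hEL, hσL, ?_, ?_⟩
  · apply le_antisymm
    · intro x hx
      obtain ⟨a, ha, b, hb, rfl⟩ := c.hE.2.2.2 x hx.1
      have hbL : b ∈ L := by
        have : b = a⁻¹ * (a * b) := by group
        rw [this]
        exact L.mul_mem (L.inv_mem (hEL ha)) hx.2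
      have hb1 : b = 1 := by
        have : b ∈ sigmaCore M ⊓ L := ⟨hb, hbL⟩
        rw [hσL] at this
        exact Subgroup.mem_bot.mp this
      rw [hb1, mul_one]
      exact ha
    · exact le_inf c.hE.1 hEL
  · exact Cfsg.Agent.Lib.Helper58.BG12U.mem_sigma_of_normalizer_elemAb_le hG hL c.hAe c.hAc hNA

end Cfsg.Agent.Lib.Helper31.BG137
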