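import Mathlib
import Cfsg.Agent.Lib.Helper31.BG137Defs
import Cfsg.Agent.Lib.Helper71.BG11a
import Cfsg.Agent.Lib.Helper91.BG125e
import Cfsg.Agent.Lib.Helper55.BG135b
import Cfsg.Agent.S0025
import Cfsg.Agent.S1418
import Cfsg.Agent.Lib.Helper55.Uniq2

/-!
# BG 13.7, pack K-137N, keystone 137712 (step (j), existence), parallel hand
-/

set_option autoImplicit false
set_option linter.unusedVariables false
set_option linter.style.haveILetI false

namespace Cfsg.Agent.Lib.Helper31.BG137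

open Cfsg Cfsg.Agent.Lib.Helper55

variable {G : Type*} [Group G] [Finite G]

/-- KEYSTONE 137712  K-137N-J1  (step (j), existence). -/
theorem LCfg.exists_S_EL {M E P A L : Subgroup G} {p q : ℕ} (l : LCfg M E P A L p q) (hpσ : p ∉ sigma L) :
    ∃ S₁ EL : Subgroup G, IsSylowIn q (sigmaCore L) S₁ ∧ A ≤ S₁ ∧ IsComplIn EL (sigmaCore L) L ∧ P ≤ EL ∧
      EL ≤ Subgroup.normalizer (S₁ : Set G) := by
  have hG := l.c.hG
  have hL := l.hL
  have hM := l.c.hM
  have hqp : q.Prime := l.c.hq.1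
  haveI : Fact q.Prime := ⟨hqp⟩
  have hpp : p.Prime := l.c.hp.1
  haveI : Fact p.Prime := ⟨hpp⟩
  have hPL : P ≤ L := l.c.hPE.trans l.hEL
  have hAL : A ≤ L := l.c.hAE.trans l.hEL
  have hAq : IsPGroup q A := isPGroup_of_pow_eq_one l.c.hAe.2
  have hAσ : A ≤ sigmaCore L :=
    Cfsg.Agent.Lib.Helper91.BG125.le_sigmaCore_of_mem_sigma hG hL l.hqL hAq hAL
  have h18 := (Cfsg.Agent.S1418.result hG M hM E l.c.hE q l.c.hq A ⟨l.c.hAE, l.c.hAe, l.c.hAc⟩).1.1
  have hPA : P ≤ Subgroup.normalizer (A : Set G) := l.c.hPE.trans h18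
  have hPσ : P ≤ Subgroup.normalizer (sigmaCore L : Set G) :=
    hPL.trans (Cfsg.Agent.Lib.Helper71.BG11.le_normalizer_sigmaCore L)
  have hPp : IsPGroup p P := IsPGroup.of_card (n := 1) (by rw [l.c.hP, pow_one])
  have hcop : (Nat.card P).Coprime (Nat.card (sigmaCore L)) := by
    rw [l.c.hP]
    rw [Nat.Prime.coprime_iff_not_dvd hpp]
    intro hd
    exact hpσ (Cfsg.Agent.Lib.Helper71.BG11.sigmaCore_pi hG hL hpp hd)
  have hPtop : P ≠ ⊤ := fun h => hL.1 (top_le_iff.mp (h ▸ hPL))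
  have hsolvP : Group.IsSolvable P := ms_solvable hG hPtop
  obtain ⟨S, hAS, hPS⟩ := Cfsg.Agent.S0025.result P (sigmaCore L) hPσ hcop (Or.inl hsolvP) q A hAσ hAq hPA
  have hS₁ : IsSylowIn q (sigmaCore L) ((S : Subgroup ↥(sigmaCore L)).map (sigmaCore L).subtype) :=
    isSylowIn_of_sylow S
  have hPK : ∀ s : ℕ, s.Prime → s ∣ Nat.card P → s ∉ sigma L := by
    intro s hs hsd
    rw [l.c.hP] at hsd
    rw [(Nat.prime_dvd_prime_iff_eq hs hpp).mp hsd]
    exact hpσ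
  obtain ⟨EL, hEL, hPEL, hELS⟩ :=
    Cfsg.Agent.Lib.Helper55.BG135.exists_complIn_ge_normalizing hG hL hPL hPK hS₁ hPS
  exact ⟨_, EL, hS₁, hAS, hEL, hPEL, hELS⟩

end Cfsg.Agent.Lib.Helper31.BG137
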