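import Mathlib
import Cfsg.Agent.Lib.Helper31.BG137Defs
import Cfsg.Agent.Lib.Helper54.BG134A3a
import Cfsg.Agent.Lib.Helper31.BG139L178
import Cfsg.Agent.Lib.Helper13.BG12A
import Cfsg.Agent.Lib.Helper20.UniqueInvolution

/-!
# BG 13.7, pack K-137N, keystones 137717 (step (m)) and 137715 (step (k))
-/

set_option autoImplicit false
set_option linter.unusedVariables false

namespace Cfsg.Agent.Lib.Helper31.BG137

open Cfsg Cfsg.Agent.Lib.Helper55 Cfsg.Agent.Lib.Helper15.BG139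

variable {G : Type*} [Group G] [Finite G]

/-- KEYSTONE 137717  K-137N-M  (step (m)).  `EL` centralizes `D`. -/
theorem SCfg.EL_le_centralizer {M E P A L S₁ EL : Subgroup G} {p q : ℕ} (s : SCfg M E P A L S₁ EL p q)
    (h28 : H1428 G) (hτ2L : ∀ u : ℕ, u ∉ tau2 L) :
    EL ≤ Subgroup.centralizer ((S₁ ⊓ Subgroup.centralizer (P : Set G) : Subgroup G) : Set G) := by
  have hG := s.l.c.hG
  have hL := s.l.hL
  have hpp : p.Prime := s.l.c.hp.1
  have hP1 : P ≠ ⊥ := by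
    intro h
    have := s.l.c.hP
    rw [h, Subgroup.card_bot] at this
    exact hpp.one_lt.ne this
  obtain ⟨E₁, E₃, hE₁, hE₁c, hPE₁, hE₃, hE₃c, hE₃d, hE₃n, hfac⟩ :=
    Cfsg.Agent.Lib.Helper54.BG134.exists_hall_tau1_tau3 hG hL s.hEL s.hp1L s.hPEL s.l.c.hP
      (fun u _ _ => hτ2L u)
  -- prime action in `L`
  have hpa : PrimeAct L E₁ := Cfsg.Agent.Lib.Helper31.BG139.primeAct hG hL h28 s.hEL hE₁
  obtain ⟨x₀, hx₀P, hx₀1⟩ : ∃ x₀ ∈ P, x₀ ≠ 1 := by
    obtain ⟨y, hy⟩ := (Subgroup.ne_bot_iff_exists_ne_one).mp hP1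
    exact ⟨y.1, y.2, fun h => hy (Subtype.ext h)⟩
  intro x hx
  obtain ⟨a, ha, b, hb, rfl⟩ := hfac x hx
  rw [Subgroup.mem_centralizer_iff]
  intro d hd
  have hd' : d ∈ S₁ ⊓ Subgroup.centralizer (P : Set G) := hd
  -- `a ∈ E₃ ≤ EL' ≤ C(S₁)`
  have ha1 : a ∈ Subgroup.centralizer (S₁ : Set G) := s.hder (hE₃d ha)
  have had : d * a = a * d := (Subgroup.mem_centralizer_iff.mp ha1) d hd'.1
  -- `b ∈ E₁` centralizes `D ≤ L_σ ⊓ C(P) = L_σ ⊓ C(E₁)`
  have hdE₁ : d ∈ Subgroup.centralizer (E₁ : Set G) := by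
    apply hpa x₀ (hPE₁ hx₀P) hx₀1
    refine ⟨s.hS₁.1 hd'.1, ?_⟩
    show d ∈ Subgroup.centralizer ({x₀} : Set G)
    rw [Subgroup.mem_centralizer_singleton_iff]
    exact ((Subgroup.mem_centralizer_iff.mp hd'.2) x₀ hx₀P).symm
  have hbd : b * d = d * b := (Subgroup.mem_centralizer_iff.mp hdE₁) b hb
  calc d * (a * b) = (d * a) * b := by group
    _ = (a * d) * b := by rw [had]
    _ = a * (d * b) := by group
    _ = a * (b * d) := by rw [hbd]
    _ = a * b * d := by group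

/-- two subgroups of the same order of a cyclic subgroup are equal -/
theorem eq_of_card_eq_of_le_cyclic {D R R' : Subgroup G} (hD : IsCyclic D) (hR : R ≤ D) (hR' : R' ≤ D)
    (h : Nat.card R = Nat.card R') : R = R' := by
  have h1 : R.subgroupOf D = R'.subgroupOf D := by
    apply Cfsg.Agent.Lib.Helper20.subgroup_eq_of_card_eq_of_isCyclic
    rw [Nat.card_congr (Subgroup.subgroupOfEquivOfLe hR).toEquiv,
      Nat.card_congr (Subgroup.subgroupOfEquivOfLe hR').toEquiv, h]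
  have := congrArg (Subgroup.map D.subtype) h1
  rwa [Subgroup.map_subgroupOf_eq_of_le hR, Subgroup.map_subgroupOf_eq_of_le hR'] at this

/-- KEYSTONE 137715  K-137N-K  (step (k)).  `EL ≤ E`. -/
theorem SCfg.EL_le_E {M E P A L S₁ EL : Subgroup G} {p q : ℕ} (s : SCfg M E P A L S₁ EL p q)
    (hR : Nat.card ↥(A ⊓ Subgroup.centralizer (P : Set G)) = q)
    (hNR : Subgroup.normalizer ((A ⊓ Subgroup.centralizer (P : Set G) : Subgroup G) : Set G) ≤ M)
    (hDc : IsCyclic ↥(S₁ ⊓ Subgroup.centralizer (P : Set G)))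
    (hELD : EL ≤ Subgroup.normalizer ((S₁ ⊓ Subgroup.centralizer (P : Set G) : Subgroup G) : Set G)) :
    EL ≤ E := by
  have hRD : A ⊓ Subgroup.centralizer (P : Set G) ≤ S₁ ⊓ Subgroup.centralizer (P : Set G) :=
    inf_le_inf_right _ s.hAS
  have hELR : EL ≤ Subgroup.normalizer ((A ⊓ Subgroup.centralizer (P : Set G) : Subgroup G) : Set G) := by
    intro g hg
    have hgD : cj g (S₁ ⊓ Subgroup.centralizer (P : Set G)) = S₁ ⊓ Subgroup.centralizer (P : Set G) :=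
      cj_eq_self_iff.mpr (hELD hg)
    have h1 : cj g (A ⊓ Subgroup.centralizer (P : Set G)) ≤ S₁ ⊓ Subgroup.centralizer (P : Set G) := by
      rw [← hgD]; exact cj_mono hRD
    have h2 := eq_of_card_eq_of_le_cyclic hDc h1 hRD (card_cj g _)
    exact cj_eq_self_iff.mp h2
  rw [← s.l.hML]
  exact le_inf (hELR.trans hNR) s.hEL.1

end Cfsg.Agent.Lib.Helper31.BG137
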