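import Mathlib
import Cfsg.Agent.Lib.Helper31.BG137Defs
import Cfsg.Agent.Lib.Helper75.BG137A
import Cfsg.Agent.Lib.Helper16.BG134Asm
import Cfsg.Agent.Lib.Helper12.CNMaxSub
import Cfsg.Agent.S1408
import Cfsg.Agent.S1428
import Cfsg.Agent.Lib.Helper01.BG137H1
import Cfsg.Agent.Lib.Helper31.BG137C
import Cfsg.Agent.Lib.Helper31.BG137D
import Cfsg.Agent.Lib.Helper31.BG137J1
import Cfsg.Agent.Lib.Helper31.BG137M
import Cfsg.Agent.Lib.Helper31.BG137N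
import Cfsg.Agent.Lib.Helper47.BG137H2
import Cfsg.Agent.Lib.Helper52.BG137J2
import Cfsg.Agent.Lib.Helper57.BG137G
import Cfsg.Agent.Lib.Helper75.BG137NA
import Cfsg.Agent.Lib.Helper75.BG137NE
import Cfsg.Agent.Lib.Helper77.BG137B
import Cfsg.Agent.Lib.Helper78.BG137F
import Cfsg.Agent.Lib.Helper78.BG137H3
import Cfsg.Agent.Lib.Helper93.BG137NJ3
import Cfsg.Agent.Lib.Helper93.BG137NL
import Cfsg.Agent.Lib.Helper96.BG137A2

/-!
# BG Lemma 13.7 (`tau12_regular`): glue of the pack K-137N (nonabelian case) with helper75's abelian case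

Paper proof: `notes/BG13_7_nonabelian_helper58.md`; spec: `notes/BG137N_keystones.lean.txt`.
-/

set_option autoImplicit false
set_option linter.unusedVariables false
set_option linter.style.haveILetI false

namespace Cfsg.Agent.Lib.Helper31.BG137

open Cfsg Cfsg.Agent.Lib.Helper55 Cfsg.Agent.Lib.Helper15.BG139

variable {G : Type*} [Group G] [Finite G]

/-- **BG Lemma 13.7** (`tau12_regular`): `p ∈ τ₁(M)`, `P ≤ E` of order `p`, `q ∈ τ₂(M)`, `A ≤ E` elementary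
abelian of order `q ^ 2` with `C_A(P) ≠ 1`.  Then `C_{M_σ}(P) = 1`. -/
theorem tau12_regular (hG : IsMinSimpleOddOrder G) {M : Subgroup G} (hM : IsCoatom M)
    {E : Subgroup G} (hE : IsComplIn E (sigmaCore M) M) {p : ℕ} (hp : p ∈ tau1 M)
    {P : Subgroup G} (hPE : P ≤ E) (hP : Nat.card P = p) {q : ℕ} [Fact q.Prime] (hq : q ∈ tau2 M)
    {A : Subgroup G} (hA : A ≤ E ∧ IsElementaryAbelian q A ∧ Nat.card A = q ^ 2)
    (hCA : A ⊓ Subgroup.centralizer (P : Set G) ≠ ⊥) :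
    sigmaCore M ⊓ Subgroup.centralizer (P : Set G) = ⊥ := by
  by_cases hab : ∀ S : Sylow q G, IsMulCommutative (S : Subgroup G)
  · exact Cfsg.Agent.Lib.Helper75.BG137.tau12_regular_of_abelian hG hM hE hp hPE hP hq hA hab hCA
  by_contra hC
  have h28 : H1428 G := fun M hM E hE p hp P hPE hPc R hR hRc =>
    Cfsg.Agent.S1428.result hG M hM E hE p hp P hPE hPc R hR hRc
  have c : Cfg M E P A p q := ⟨hG, hM, hE, hp, hPE, hP, hq, hA.1, hA.2.1, hA.2.2, hCA, hC⟩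
  have hS := Cfsg.Agent.Lib.Helper77.BG137.sylow_all_nonabelian hab
  obtain ⟨hR, hR2, hRM, hNR⟩ := Cfsg.Agent.Lib.Helper75.BG137.Cfg.basic c
  obtain ⟨hAP, hpq⟩ := Cfsg.Agent.Lib.Helper96.BG137.Cfg.dvd_sub_one c hR
  obtain ⟨hRA0, hτ2⟩ := Cfsg.Agent.Lib.Helper31.BG137.Cfg.eq_A0 c hS hR hR2
  obtain ⟨L, hL, hNA, hLM, hEL, hσL, hML, hqL⟩ := Cfsg.Agent.Lib.Helper31.BG137.Cfg.exists_L c
  have l : LCfg M E P A L p q := ⟨c, hS, hL, hNA, hLM, hEL, hσL, hML, hqL⟩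
  have hpσ := Cfsg.Agent.Lib.Helper75.BG137.LCfg.not_sigma l hAP
  have hpτ2 := Cfsg.Agent.Lib.Helper78.BG137.LCfg.not_tau2 l hpσ
  have hpτ3 := Cfsg.Agent.Lib.Helper57.BG137.LCfg.not_tau3 l hAP
  have hpp : p.Prime := hp.1
  haveI : Fact p.Prime := ⟨hpp⟩
  have hPL : P ≤ L := hPE.trans hEL
  have hp1L : p ∈ tau1 L := by
    have hpL : p ∣ Nat.card L := by
      rw [← hP]; exact Subgroup.card_dvd_of_le hPL
    rcases Cfsg.Agent.Lib.Helper16.BG134.mem_tau_cases hG hL hpp hpL hpσ with h | h | h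
    · exact h
    · exact absurd h hpτ2
    · exact absurd h hpτ3
  have hP1 : P ≠ ⊥ := by
    intro h
    rw [h, Subgroup.card_bot] at hP
    exact hpp.one_lt.ne hP
  have hPtop : P ≠ ⊤ := by
    intro h
    exact hL.1 (top_le_iff.mp (h ▸ hPL))
  obtain ⟨H, hH, hNP⟩ := Cfsg.Agent.Lib.Helper12.CNMaxSub.exists_coatom_normalizer_le hG hP1 hPtop
  have hqH := Cfsg.Agent.Lib.Helper47.BG137.LCfg.not_sigma_H l hp1L hH hNP
  have hpH := Cfsg.Agent.Lib.Helper01.BG137.LCfg.mem_sigma_H l hR hRM.1 hpq hH hNP hqH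
  obtain ⟨S₁, EL, hS₁, hAS, hELc, hPEL, hELS⟩ := Cfsg.Agent.Lib.Helper31.BG137.LCfg.exists_S_EL l hpσ
  have hqi : ¬ IsIdealPrime q G := (Cfsg.Agent.S1408.result hG M hM q hq.2.1 hq.2.2.1 hq.2.2.2).1
  have hder := Cfsg.Agent.Lib.Helper52.BG137.commutator_le_centralizer_sylow hG hL hqL hqi hS₁ hELc hELS
  have s : SCfg M E P A L S₁ EL p q := ⟨l, hp1L, hS₁, hAS, hELc, hPEL, hELS, hder⟩
  have hELD := Cfsg.Agent.Lib.Helper93.BG137.le_normalizer_inf_centralizer hPEL hELS hder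
  have hDc : IsCyclic ↥(S₁ ⊓ Subgroup.centralizer (P : Set G)) :=
    Cfsg.Agent.Lib.Helper78.BG137.LCfg.cyclic_of_le_H l hRM hH hNP hpH hqH
      (inf_le_right.trans ((Subgroup.centralizer_le_normalizer _).trans hNP))
      (hS₁.2.1.to_le inf_le_left)
  have hELE := Cfsg.Agent.Lib.Helper31.BG137.SCfg.EL_le_E s hR hNR hDc hELD
  have hτ2L := Cfsg.Agent.Lib.Helper93.BG137.SCfg.tau2_empty s hτ2 hELE
  have hDEL := Cfsg.Agent.Lib.Helper31.BG137.SCfg.EL_le_centralizer s h28 hτ2L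
  exact Cfsg.Agent.Lib.Helper31.BG137.SCfg.final s hR hRM hDEL

end Cfsg.Agent.Lib.Helper31.BG137
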