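import Mathlib
import Cfsg.Agent.Lib.Helper11.BG14DDefs
import Cfsg.Agent.Lib.Helper55.BG1213b
import Cfsg.Agent.Lib.Helper31.Bg10b
import Cfsg.Agent.Lib.Helper71.BG11a
import Cfsg.Agent.Lib.Helper83.BG11e
import Cfsg.Agent.Lib.Helper13.BG12A
import Cfsg.Agent.Lib.Helper13.BG12B
import Cfsg.Agent.Lib.Helper77.BG137B
import Cfsg.Agent.S1350
import Cfsg.Agent.S1378
import Cfsg.Agent.S1417
import Cfsg.Agent.S1419

/-!
# BG Theorem 14.2(c) (uniqueness part): `𝓜(C_G(X)) = {M}` for `X ≤ K* = C_{Mσ}(K)` of prime order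

Derived from S1431 (clauses (d) and (e), as the hypothesis `H1431 G`), the σ-partition S1378, S1417(e) and S1419.

Proof.  `C_G(X) ≤ M` by (d).  Let `L ⊇ C_G(X)` be maximal, `L ≠ M`.  `L` is not conjugate to `M` (by (d)), so
`p = |X| ∉ σ(L)` (S1378).  `S ⊇ X` a Sylow `p`-subgroup of `Mσ`: `𝓜(S) = {M}` by (e), so `S ≰ L`, hence `S ≰ C_G(X)`:
`S` is nonabelian and `X ≰ Z(S)`.  `z ∈ Z(S)` of order `p`, `A = X × ⟨z⟩ ≤ C_G(X) ≤ L`: `p ∈ τ₂(L)`.
S1419 for `L` (nonabelian Sylow `p`-subgroups): `C_G(X) ≤ L` forces `X = A ∩ C_G(Lσ)`, so `Lσ ≤ C_G(X) ≤ M`;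
S1417(e) for `(L, A, M)`: `Lσ ∩ M = 1`.  So `Lσ = 1`: contradiction.
-/

set_option autoImplicit false
set_option linter.unusedVariables false
set_option linter.style.haveILetI false

namespace Cfsg.Agent.Lib.Helper31.BG147

open Cfsg Cfsg.Agent.Lib.Helper55 Cfsg.Agent.Lib.Helper11.BG14D

variable {G : Type*} [Group G] [Finite G]

/-- `C_G(X) ≤ M` for `1 ≠ X ≤ K*` (from S1431 clause (d)), and more generally `X ≤ cj g M → g ∈ M`. -/
theorem mem_of_le_cj (h31 : H1431 G) {M K : Subgroup G} (hM : IsCoatom M)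
    (hK : IsPiHallOf (kappa M) K M) (hK1 : K ≠ ⊥) {X : Subgroup G} (hXK : X ≤ Ks M K) (hX1 : X ≠ ⊥)
    {g : G} (hg : X ≤ cj g M) : g ∈ M := by
  by_contra hgM
  have h := (h31 M hM K hK hK1).1 g hgM
  apply hX1
  rw [eq_bot_iff, ← h]
  exact le_inf hXK hg

theorem centralizer_le (h31 : H1431 G) {M K : Subgroup G} (hM : IsCoatom M)
    (hK : IsPiHallOf (kappa M) K M) (hK1 : K ≠ ⊥) {X : Subgroup G} (hXK : X ≤ Ks M K) (hX1 : X ≠ ⊥) :
    Subgroup.centralizer (X : Set G) ≤ M := by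
  intro c hc
  apply mem_of_le_cj h31 hM hK hK1 hXK hX1 (g := c)
  intro x hx
  rw [mem_cj]
  have hXM : X ≤ M := hXK.trans (inf_le_left.trans (Cfsg.Agent.Lib.Helper71.BG11.sigmaCore_le M))
  have : c⁻¹ * x * c = x := by
    have h1 := Subgroup.mem_centralizer_iff.mp hc x hx
    -- h1 : x * c = c * x
    rw [mul_assoc, h1, ← mul_assoc, inv_mul_cancel, one_mul]
  rw [this]
  exact hXM hx

/-- **BG 14.2(c)**: for `X ≤ K*` of prime order, `M` is the only maximal subgroup containing `C_G(X)`. -/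
theorem cent_uniq (hG : IsMinSimpleOddOrder G) (h31 : H1431 G) {M K : Subgroup G} (hM : IsCoatom M)
    (hK : IsPiHallOf (kappa M) K M) (hK1 : K ≠ ⊥) {X : Subgroup G} (hXK : X ≤ Ks M K)
    (hXc : (Nat.card X).Prime) :
    Subgroup.centralizer (X : Set G) ≤ M ∧
      ∀ L : Subgroup G, IsCoatom L → Subgroup.centralizer (X : Set G) ≤ L → L = M := by
  obtain ⟨p, hp⟩ : ∃ p, Nat.card X = p := ⟨_, rfl⟩
  have hpp : p.Prime := hp ▸ hXc
  haveI : Fact p.Prime := ⟨hpp⟩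
  have hX1 : X ≠ ⊥ := by
    intro h
    rw [h, Subgroup.card_bot] at hp
    exact hpp.ne_one hp.symm
  have hXσ : X ≤ sigmaCore M := hXK.trans inf_le_left
  have hσM : sigmaCore M ≤ M := Cfsg.Agent.Lib.Helper71.BG11.sigmaCore_le M
  have hXM : X ≤ M := hXσ.trans hσM
  have hCM := centralizer_le h31 hM hK hK1 hXK hX1
  refine ⟨hCM, ?_⟩
  intro L hL hCL
  by_contra hLM
  have hXp : IsPGroup p X := IsPGroup.of_card (n := 1) (by rw [hp, pow_one])
  have hXcomm : X ≤ Subgroup.centralizer (X : Set G) := by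
    haveI : IsCyclic X := isCyclic_of_prime_card hp
    intro x hx
    rw [Subgroup.mem_centralizer_iff]
    intro y hy
    have := (IsCyclic.isMulCommutative (α := X)).is_comm.comm ⟨y, hy⟩ ⟨x, hx⟩
    exact congrArg Subtype.val this
  have hXL : X ≤ L := hXcomm.trans hCL
  -- `p ∈ σ(M)`
  have hpσ : p ∈ sigma M := by
    apply Cfsg.Agent.Lib.Helper71.BG11.sigmaCore_pi hG hM hpp
    rw [← hp]
    exact Subgroup.card_dvd_of_le hXσ
  -- `L` is not conjugate to `M`, so `p ∉ σ(L)`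
  have hpL : p ∉ sigma L := by
    intro hpL
    obtain ⟨g, hg⟩ := (Cfsg.Agent.S1378.result hG).2 M L hM hL ⟨p, hpσ, hpL⟩
    have hXg : X ≤ cj g M := by
      have h := hXL
      rw [hg] at h
      exact h
    have hgM : g ∈ M := mem_of_le_cj h31 hM hK hK1 hXK hX1 (g := g) hXg
    apply hLM
    rw [hg]
    exact cj_eq_self_of_mem hgM
  -- a Sylow `p`-subgroup `S ⊇ X` of `Mσ`
  obtain ⟨P, hP⟩ := IsPGroup.exists_le_sylow (p := p) (G := ↥(sigmaCore M))
    (P := X.subgroupOf (sigmaCore M))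
    (hXp.comap_of_injective (sigmaCore M).subtype (sigmaCore M).subtype_injective)
  set S : Subgroup G := (P : Subgroup ↥(sigmaCore M)).map (sigmaCore M).subtype with hSdef
  have hXS : X ≤ S := by
    intro x hx
    exact ⟨⟨x, hXσ hx⟩, hP (by rw [Subgroup.mem_subgroupOf]; exact hx), rfl⟩
  have hpK : p ∣ Nat.card ↥(sigmaCore M ⊓ Subgroup.centralizer (K : Set G)) := by
    rw [← hp]; exact Subgroup.card_dvd_of_le hXK
  obtain ⟨hSU, hSM, -⟩ := (h31 M hM K hK hK1).2.2.1 p hpp hpK P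
  have hSL : ¬ S ≤ L := fun h => hLM (inUniqueMaximal_eq_of_le hSU hM hSM hL h)
  have hSp : IsPGroup p S := P.isPGroup'.map _
  have hS1 : S ≠ ⊥ := fun h => hX1 (eq_bot_iff.mpr (h ▸ hXS))
  -- `S` does not centralize `X`
  have hSX : ¬ S ≤ Subgroup.centralizer (X : Set G) := fun h => hSL (h.trans hCL)
  -- Sylow `p`-subgroups of `G` are nonabelian
  have hSna : ∀ S' : Sylow p G, ¬ IsMulCommutative (S' : Subgroup G) := by
    apply Cfsg.Agent.Lib.Helper77.BG137.sylow_all_nonabelian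
    intro hall
    obtain ⟨S', hS'⟩ := hSp.exists_le_sylow
    have hc := hall S'
    apply hSX
    intro s hs
    rw [Subgroup.mem_centralizer_iff]
    intro x hx
    have := hc.is_comm.comm ⟨x, hS' (hXS hx)⟩ ⟨s, hS' hs⟩
    exact congrArg Subtype.val this
  -- `z ∈ Z(S)` of order `p`, `z ∉ X`
  obtain ⟨Z₀, hZ₀c, hZ₀S, hZ₀Z⟩ := exists_card_prime_le_center hSp hS1
  have hZ₀1 : Z₀ ≠ ⊥ := by
    intro h
    rw [h, Subgroup.card_bot] at hZ₀c
    exact hpp.ne_one hZ₀c.symm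
  obtain ⟨z, hzZ, hz1⟩ : ∃ z ∈ Z₀, z ≠ 1 := by
    obtain ⟨z, hz⟩ := (Subgroup.ne_bot_iff_exists_ne_one).mp hZ₀1
    exact ⟨z, z.2, fun e => hz (Subtype.ext e)⟩
  have hzp : z ^ p = 1 := by
    have : (⟨z, hzZ⟩ : Z₀) ^ Nat.card Z₀ = 1 := pow_card_eq_one'
    rw [hZ₀c] at this
    exact congrArg Subtype.val this
  have hzo : orderOf z = p := orderOf_eq_prime hzp hz1
  have hzS : z ∈ Subgroup.centralizer (S : Set G) := hZ₀Z hzZ
  have hzX : ∀ x ∈ X, x * z = z * x := by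
    intro x hx
    exact (Subgroup.mem_centralizer_iff.mp hzS x (hXS hx))
  have hznot : z ∉ X := by
    intro hzXm
    apply hSX
    -- `X = ⟨z⟩ ≤ Z(S)`
    have hXz : X = Subgroup.zpowers z := by
      symm
      refine Subgroup.eq_of_le_of_card_ge ((Subgroup.zpowers_le).mpr hzXm) ?_
      rw [Nat.card_zpowers, hzo, hp]
    intro s hs
    rw [Subgroup.mem_centralizer_iff]
    intro x hx
    rw [hXz] at hx
    obtain ⟨n, rfl⟩ := Subgroup.mem_zpowers_iff.mp hx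
    have hcomm : Commute s z := (Subgroup.mem_centralizer_iff.mp hzS s hs)
    exact (hcomm.zpow_right n).eq.symm
  obtain ⟨hAea, hAc⟩ := Cfsg.Agent.Lib.Helper31.Bg10.elemAb_sup_zpowers hp hzo hzX hznot
  set A : Subgroup G := X ⊔ Subgroup.zpowers z with hAdef
  have hzC : z ∈ Subgroup.centralizer (X : Set G) := by
    rw [Subgroup.mem_centralizer_iff]
    intro x hx
    exact hzX x hx
  have hAL : A ≤ L := sup_le hXL ((Subgroup.zpowers_le).mpr (hCL hzC))
  have hAM : A ≤ M := sup_le hXM ((Subgroup.zpowers_le).mpr (hCM hzC))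
  -- `p ∈ τ₂(L)`
  have hτ2 : p ∈ tau2 L := by
    refine ⟨hpp, hpL, ?_, ?_⟩
    · by_contra h
      exact hpL (Cfsg.Agent.Lib.Helper13.BG12.mem_sigma_of_not_pRankLE_two hG hL hpp h)
    · intro h1
      have hAea' := (Cfsg.Agent.Lib.Helper99.isEA_iff A).mp hAea
      have h12 : p ^ 1 < p ^ 2 := Nat.pow_lt_pow_right hpp.one_lt (by norm_num)
      have := not_pRankLE_sub_iff.mpr ⟨A, hAL, hAea'.1, hAea'.2, by rw [hAc]; exact h12⟩
      exact this h1
  -- a complement `E_L ⊇ A` of `Lσ`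
  obtain ⟨EL, hEL, hAEL⟩ := Cfsg.Agent.Lib.Helper13.BG12.exists_complIn_ge hG hL
    (Cfsg.Agent.S1350.result hG L hL).1 hAL (by
      intro r hr hrd
      rw [hAc] at hrd
      rw [(Nat.prime_dvd_prime_iff_eq hr hpp).mp (hr.dvd_of_dvd_pow hrd)]
      exact hpL)
  -- S1419: `X = A ∩ C(Lσ)`
  obtain ⟨-, -, h19⟩ := Cfsg.Agent.S1419.result hG L hL EL hEL p hτ2 hSna A ⟨hAEL, hAea, hAc⟩
  have hXeq : X = A ⊓ Subgroup.centralizer (sigmaCore L : Set G) := by
    by_contra hne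
    exact (h19 X (le_sup_left.trans hAEL) hp hne).2 hCL
  -- `Lσ ≤ C_G(X) ≤ M`
  have hLσM : sigmaCore L ≤ M := by
    refine le_trans ?_ hCM
    intro y hy
    rw [Subgroup.mem_centralizer_iff]
    intro x hx
    have hx' : x ∈ Subgroup.centralizer (sigmaCore L : Set G) := by
      have : x ∈ A ⊓ Subgroup.centralizer (sigmaCore L : Set G) := hXeq ▸ hx
      exact this.2
    exact (Subgroup.mem_centralizer_iff.mp hx' y hy).symm
  -- S1417(e): `Lσ ∩ M = 1`
  have h17 := (Cfsg.Agent.S1417.result hG L hL p hτ2 A ⟨hAL, hAea, hAc⟩).2.2.2.2.1 M hM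
    (fun h => hLM h.symm) hAM
  have hLbot : L ≠ ⊥ := fun h => hX1 (eq_bot_iff.mpr (h ▸ hXL))
  apply Cfsg.Agent.Lib.Helper83.BG11.sigmaCore_ne_bot hG hL hLbot
  rw [eq_bot_iff, ← h17]
  exact le_inf le_rfl hLσM

end Cfsg.Agent.Lib.Helper31.BG147
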