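import Cfsg.Agent.Lib.Helper11.BG14DDefs
import Cfsg.Agent.Lib.Helper11.BG144Defs

/-!
# BG Theorem 14.7 (f),(g) = S1369: shared definitions of the pack K-1369.  Architect: helper31.
-/

set_option autoImplicit false

namespace Cfsg.Agent.Lib.Helper31.BG147

open Cfsg Subgroup

variable {G : Type*} [Group G]

/-- The class support `⋃_g g X g⁻¹` of a set `X`, in the form used by the frozen statement S1434. -/
abbrev csupp (X : Set G) : Set G := {a : G | ∃ g : G, ∃ z ∈ X, a = g * z * g⁻¹}

/-- The statement of S1377 (BG Lemma 14.5) for `G`, as a hypothesis. -/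
def H1377 (G : Type*) [Group G] : Prop :=
  ∀ (M : Subgroup G), IsCoatom M →
    Set.ncard (tildeOf M ((sigmaCore M : Set G) \ {1})) = (Nat.card (sigmaCore M) - 1) * M.index

/-- The statement of S1354, second clause, for `G`, as a hypothesis (`C_M(k) = K K*` for `k ∈ K#`, `K` cyclic). -/
def H1354 (G : Type*) [Group G] : Prop :=
  ∀ (M : Subgroup G), IsCoatom M → ∀ K : Subgroup G, IsCyclic K → IsPiHallOf (kappa M) K M →
    sigmaCore M ⊓ centralizer (K : Set G) ≠ ⊥ ∧
      (K ≠ ⊥ → ∀ k ∈ K, k ≠ 1 →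
        M ⊓ centralizer ({k} : Set G) = K ⊔ (sigmaCore M ⊓ centralizer (K : Set G)))

end Cfsg.Agent.Lib.Helper31.BG147
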