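import Mathlib
import Cfsg.Prelude.Def_OddOrderLocal
import Cfsg.Agent.Lib.Helper13.BG12B
import Cfsg.Agent.Lib.Helper55.SylowIn

/-!
# BG Lemma 15.1 (c),(d) / Theorem B(3): shared definitions

`NonFpf M e`: the element `e` centralizes a non-identity element of `M_σ`.
-/

set_option autoImplicit false

namespace Cfsg.Agent.Lib.Helper31.BG15

open Cfsg

variable {G : Type*} [Group G]

/-- `e` centralizes a non-identity element of `M_σ` -/
def NonFpf (M : Subgroup G) (e : G) : Prop :=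
  ∃ y ∈ sigmaCore M, y ≠ 1 ∧ e * y = y * e

theorem nonFpf_iff {M : Subgroup G} {e : G} :
    NonFpf M e ↔ sigmaCore M ⊓ Subgroup.centralizer ({e} : Set G) ≠ ⊥ := by
  constructor
  · rintro ⟨y, hy, hy1, hc⟩ h
    have hyc : y ∈ Subgroup.centralizer ({e} : Set G) := by
      rw [Subgroup.mem_centralizer_iff]
      intro g hg
      rw [Set.mem_singleton_iff] at hg
      rw [hg]; exact hc
    have : y ∈ sigmaCore M ⊓ Subgroup.centralizer ({e} : Set G) := Subgroup.mem_inf.mpr ⟨hy, hyc⟩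
    rw [h, Subgroup.mem_bot] at this
    exact hy1 this
  · intro h
    obtain ⟨y, hy1⟩ := (Subgroup.ne_bot_iff_exists_ne_one).mp h
    have hy' : (y : G) ∈ sigmaCore M ⊓ Subgroup.centralizer ({e} : Set G) := y.2
    have hy2 := Subgroup.mem_inf.mp hy'
    refine ⟨y, hy2.1, fun h1 => hy1 (Subtype.ext h1), ?_⟩
    exact (Subgroup.mem_centralizer_iff.mp hy2.2) e (Set.mem_singleton e)

theorem not_nonFpf_iff {M : Subgroup G} {e : G} :
    ¬ NonFpf M e ↔ sigmaCore M ⊓ Subgroup.centralizer ({e} : Set G) = ⊥ := by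
  rw [nonFpf_iff, not_not]

theorem NonFpf.pow {M : Subgroup G} {e : G} (h : NonFpf M e) (n : ℕ) : NonFpf M (e ^ n) := by
  obtain ⟨y, hy, hy1, hc⟩ := h
  exact ⟨y, hy, hy1, ((Commute.pow_left (show Commute e y from hc) n)).eq⟩

theorem NonFpf.mem_sigmaHat {M : Subgroup G} {e : G} (h : NonFpf M e) (he : e ∈ M) :
    e ∈ sigmaHat M := ⟨he, h⟩

theorem nonFpf_of_mem_sigmaHat {M : Subgroup G} {e : G} (h : e ∈ sigmaHat M) : NonFpf M e := h.2

end Cfsg.Agent.Lib.Helper31.BG15
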