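import Mathlib
import Cfsg.Prelude.Def_OddOrderLocal
import Cfsg.Agent.Lib.Helper31.BG15Defs
import Cfsg.Agent.Lib.Helper02.BG1359

/-!
# The complement `E = U K` of `M_σ` attached to a standard factorisation `M = K U M_σ`

`E := U ⊔ K` is a complement of `M_σ` in `M`, `U` is a normal Hall subgroup of `E`, and every
non-identity `τ₁(M) ∪ τ₃(M)`-element of `U` acts fixed-point-freely on `M_σ`.
-/

set_option autoImplicit false
set_option linter.unusedSectionVars false

namespace Cfsg.Agent.Lib.Helper31.BG15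

open Cfsg Cfsg.Agent.Lib.Helper13.BG12

variable {G : Type*} [Group G] [Finite G]

theorem kappa_inf_sigmaCore (hG : IsMinSimpleOddOrder G) {M K U : Subgroup G}
    (hM : IsCoatom M) (hKU : IsSigmaDecomposition M K U) : K ⊓ sigmaCore M = ⊥ := by
  have hcop : (Nat.card K).Coprime (Nat.card (sigmaCore M)) := by
    apply Nat.coprime_of_dvd
    intro p hp hpK hpS
    have h1 : p ∈ kappa M := hKU.hall.2.1 p hp hpK
    have h2 : p ∈ sigma M := Cfsg.Agent.Lib.Helper71.BG11.sigmaCore_pi hG hM hp hpS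
    exact h1.2.2.1 h2
  exact (Subgroup.disjoint_of_coprime_natCard hcop).eq_bot

theorem mem_sup_iff_of_sigmaDecomposition {M K U : Subgroup G}
    (hKU : IsSigmaDecomposition M K U) {x : G} :
    x ∈ U ⊔ K ↔ ∃ u ∈ U, ∃ k ∈ K, x = u * k := by
  have h := Subgroup.coe_mul_of_right_le_normalizer_left U K hKU.normal
  constructor
  · intro hx
    have hx' : x ∈ ((U ⊔ K : Subgroup G) : Set G) := hx
    rw [h] at hx'
    obtain ⟨u, hu, k, hk, rfl⟩ := Set.mem_mul.mp hx'
    exact ⟨u, hu, k, hk, rfl⟩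
  · rintro ⟨u, hu, k, hk, rfl⟩
    exact Subgroup.mul_mem_sup hu hk

/-- `E := U K` is a complement of `M_σ` in `M`. -/
theorem isComplIn_sup_of_sigmaDecomposition (hG : IsMinSimpleOddOrder G) {M K U : Subgroup G}
    (hM : IsCoatom M) (hKU : IsSigmaDecomposition M K U) :
    IsComplIn (U ⊔ K) (sigmaCore M) M := by
  have hUM : U ≤ M := hKU.compl.1
  have hKM : K ≤ M := hKU.hall.1
  have hSM : sigmaCore M ≤ M := Cfsg.Agent.Lib.Helper71.BG11.sigmaCore_le M
  have hKS := kappa_inf_sigmaCore hG hM hKU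
  have hKn : K ≤ Subgroup.normalizer (sigmaCore M : Set G) :=
    hKM.trans (Cfsg.Agent.Lib.Helper71.BG11.le_normalizer_sigmaCore M)
  have hKSmul := Subgroup.coe_mul_of_left_le_normalizer_right K (sigmaCore M) hKn
  refine ⟨sup_le hUM hKM, hSM, ?_, ?_⟩
  · rw [eq_bot_iff]
    intro x hx
    obtain ⟨hx1, hx2⟩ := Subgroup.mem_inf.mp hx
    obtain ⟨u, hu, k, hk, rfl⟩ := (mem_sup_iff_of_sigmaDecomposition hKU).mp hx1
    have hu' : u ∈ K ⊔ sigmaCore M := by
      have : u = (u * k) * k⁻¹ := by group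
      rw [this]
      exact (K ⊔ sigmaCore M).mul_mem (Subgroup.mem_sup_right hx2)
        ((K ⊔ sigmaCore M).inv_mem (Subgroup.mem_sup_left hk))
    have hu1 : u = 1 := by
      have : u ∈ U ⊓ (K ⊔ sigmaCore M) := Subgroup.mem_inf.mpr ⟨hu, hu'⟩
      rw [hKU.compl.2.2.1, Subgroup.mem_bot] at this
      exact this
    subst hu1
    rw [one_mul] at hx2 ⊢
    have : k ∈ K ⊓ sigmaCore M := Subgroup.mem_inf.mpr ⟨hk, hx2⟩
    rw [hKS] at this
    exact this
  · intro m hm
    obtain ⟨u, hu, b, hb, rfl⟩ := hKU.compl.2.2.2 m hm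
    have hb' : b ∈ ((K ⊔ sigmaCore M : Subgroup G) : Set G) := hb
    rw [hKSmul] at hb'
    obtain ⟨k, hk, s, hs, rfl⟩ := Set.mem_mul.mp hb'
    exact ⟨u * k, Subgroup.mul_mem_sup hu hk, s, hs, by rw [mul_assoc]⟩

theorem le_normalizer_of_sigmaDecomposition {M K U : Subgroup G}
    (hKU : IsSigmaDecomposition M K U) : U ⊔ K ≤ Subgroup.normalizer (U : Set G) :=
  sup_le Subgroup.le_normalizer hKU.normal

theorem inf_eq_bot_of_sigmaDecomposition {M K U : Subgroup G}
    (hKU : IsSigmaDecomposition M K U) : K ⊓ U = ⊥ := by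
  rw [eq_bot_iff]
  intro x hx
  obtain ⟨hx1, hx2⟩ := Subgroup.mem_inf.mp hx
  have : x ∈ U ⊓ (K ⊔ sigmaCore M) := Subgroup.mem_inf.mpr ⟨hx2, Subgroup.mem_sup_left hx1⟩
  rw [hKU.compl.2.2.1] at this
  exact this

/-- `K` is a complement of `U` in `E = U K`. -/
theorem isComplIn_kappa_of_sigmaDecomposition {M K U : Subgroup G}
    (hKU : IsSigmaDecomposition M K U) : IsComplIn K U (U ⊔ K) := by
  refine ⟨le_sup_right, le_sup_left, inf_eq_bot_of_sigmaDecomposition hKU, ?_⟩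
  intro m hm
  have h := Subgroup.coe_mul_of_left_le_normalizer_right K U hKU.normal
  have hm' : m ∈ ((K ⊔ U : Subgroup G) : Set G) := by
    rw [sup_comm]; exact hm
  rw [h] at hm'
  obtain ⟨k, hk, u, hu, rfl⟩ := Set.mem_mul.mp hm'
  exact ⟨k, hk, u, hu, rfl⟩

theorem relIndex_of_sigmaDecomposition {M K U : Subgroup G}
    (hKU : IsSigmaDecomposition M K U) : U.relIndex (U ⊔ K) = Nat.card K :=
  relIndex_eq_card_of_complIn (isComplIn_kappa_of_sigmaDecomposition hKU)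

/-- no prime of `κ(M)` divides `|U|` -/
theorem not_mem_kappa_of_dvd_card {M K U : Subgroup G}
    (hKU : IsSigmaDecomposition M K U) {p : ℕ} (hp : p.Prime) (hpU : p ∣ Nat.card U) :
    p ∉ kappa M := by
  intro hk
  apply hKU.hall.2.2 p hp hk
  have h1 : (K ⊔ sigmaCore M).relIndex M = Nat.card U := relIndex_eq_card_of_complIn hKU.compl
  have h2 : K.relIndex (K ⊔ sigmaCore M) * (K ⊔ sigmaCore M).relIndex M = K.relIndex M :=
    Subgroup.relIndex_mul_relIndex K (K ⊔ sigmaCore M) M le_sup_left hKU.compl.2.1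
  rw [← h2, h1]
  exact Dvd.dvd.mul_left hpU _

/-- `U` is a Hall subgroup of `E = U K`. -/
theorem coprime_of_sigmaDecomposition {M K U : Subgroup G}
    (hKU : IsSigmaDecomposition M K U) : (Nat.card U).Coprime (U.relIndex (U ⊔ K)) := by
  rw [relIndex_of_sigmaDecomposition hKU]
  apply Nat.coprime_of_dvd
  intro p hp hpU hpK
  exact not_mem_kappa_of_dvd_card hKU hp hpU (hKU.hall.2.1 p hp hpK)

/-- every non-identity `τ₁(M) ∪ τ₃(M)`-element of `U` acts fixed-point-freely on `M_σ` -/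
theorem fpf_of_mem_of_sigmaDecomposition (hG : IsMinSimpleOddOrder G) {M K U : Subgroup G}
    (hM : IsCoatom M) (hKU : IsSigmaDecomposition M K U) {e : G} (he : e ∈ U) (he1 : e ≠ 1)
    (hτ : ∀ p : ℕ, p.Prime → p ∣ orderOf e → p ∈ tau1 M ∪ tau3 M) :
    sigmaCore M ⊓ Subgroup.centralizer ({e} : Set G) = ⊥ := by
  rw [← not_nonFpf_iff]
  intro hnf
  have hσ : e ∈ sigmaHat M := hnf.mem_sigmaHat (hKU.compl.1 he)
  have hne : orderOf e ≠ 1 := fun h => he1 (orderOf_eq_one_iff.mp h)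
  obtain ⟨p, hp, hpd⟩ := Nat.exists_prime_and_dvd hne
  have h2 : p ∈ tau2 M :=
    Cfsg.Agent.Lib.Helper02.BG1359.prime_mem_tau2 hG hM hKU he hσ hp hpd
  rcases hτ p hp hpd with h1 | h3
  · exact h2.2.2.2 h1.2.2.2.2
  · exact h2.2.2.2 h3.2.2.2

end Cfsg.Agent.Lib.Helper31.BG15
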