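import Mathlib
import Cfsg.Agent.Lib.Helper31.BG147Defs
import Cfsg.Agent.Lib.Helper55.Basic
import Cfsg.Agent.Lib.Helper55.Uniq3
import Cfsg.Agent.Lib.Helper27.BG147P
import Cfsg.Agent.Lib.Helper42.S1351Glue
import Cfsg.Agent.Lib.Helper71.BG11a
import Cfsg.Agent.Lib.Helper89.BG14DS1
import Cfsg.Agent.S1378

/-!
# Pack K-1369, keystone 136906 (G): BG 14.7(g)  (parallel hand)

Every maximal subgroup `H` with `κ(H) ≠ ∅` is conjugate to `M` or to `M*`.
-/

set_option autoImplicit false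
set_option linter.unusedVariables false
set_option linter.unusedSectionVars false

namespace Cfsg.Agent.Lib.Helper31.BG147

open Cfsg Subgroup Cfsg.Agent.Lib.Helper55 Cfsg.Agent.Lib.Helper11.BG14D

variable {G : Type*} [Group G] [Finite G]

/-- KEYSTONE 136906  K-1369-G. -/
theorem conj_of_kappa_ne (hG : IsMinSimpleOddOrder G) {M K Mstar : Subgroup G} (hM : IsCoatom M)
    (hK : IsPiHallOf (kappa M) K M) (hK1 : K ≠ ⊥) (hMstar : IsCoatom Mstar)
    (hKst : K = sigmaCore Mstar ⊓ centralizer ((Ks M K : Subgroup G) : Set G))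
    (hKstH : IsPiHallOf (kappa Mstar) (Ks M K) Mstar) (hKs1 : Ks M K ≠ ⊥)
    (hU : ∀ (M K X : Subgroup G), IsCoatom M → IsPiHallOf (kappa M) K M → K ≠ ⊥ → X ≤ Ks M K →
      (Nat.card X).Prime → centralizer (X : Set G) ≤ M ∧
        ∀ L : Subgroup G, IsCoatom L → centralizer (X : Set G) ≤ L → L = M)
    (hHalf : ∀ (M K : Subgroup G), IsCoatom M → IsPiHallOf (kappa M) K M → K ≠ ⊥ →
      Nat.card G < 2 * Set.ncard (csupp (Zhat M K)))
    (hcop : ∀ (M K : Subgroup G), IsCoatom M → IsPiHallOf (kappa M) K M →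
      (Nat.card K).Coprime (Nat.card (Ks M K)))
    (H : Subgroup G) (hH : IsCoatom H) (hκ : (kappa H).Nonempty) :
    ∃ g : G, H = M.map (MulAut.conj g).toMonoidHom ∨ H = Mstar.map (MulAut.conj g).toMonoidHom := by
  by_cases hconj : ∃ g : G, H = M.map (MulAut.conj g).toMonoidHom
  · obtain ⟨g, hg⟩ := hconj
    exact ⟨g, Or.inl hg⟩
  -- `σ(H) ∩ σ(M) = ∅`
  have hdisj : ∀ p : ℕ, p ∈ sigma H → p ∉ sigma M := by
    intro p hpH hpM
    exact hconj ((Cfsg.Agent.S1378.result hG).2 M H hM hH ⟨p, hpM, hpH⟩)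
  -- a Hall `κ(H)`-subgroup
  obtain ⟨KH, hKH⟩ := Cfsg.Agent.Lib.Helper42.BG147.exists_hall_kappa hG H hH
  have hKH1 : KH ≠ ⊥ := by
    intro h
    obtain ⟨p, hp⟩ := hκ
    have hpH : p ∣ Nat.card H := hp.2.1
    have hnd : ¬ p ∣ KH.relIndex H := hKH.2.2 p hp.1 hp
    have hmul : KH.relIndex H * Nat.card KH = Nat.card H := by
      have h := Subgroup.relIndex_mul_relIndex (H := (⊥ : Subgroup G)) (K := KH) (L := H) bot_le hKH.1
      rw [Subgroup.relIndex_bot_left, Subgroup.relIndex_bot_left] at h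
      rw [mul_comm]; exact h
    have hc1 : Nat.card KH = 1 := by rw [h, Subgroup.card_bot]
    rw [hc1, mul_one] at hmul
    exact hnd (by rw [hmul]; exact hpH)
  -- the two class supports meet
  have h1 := hHalf M K hM hK hK1
  have h2 := hHalf H KH hH hKH hKH1
  have hmeet : ¬ Disjoint (csupp (Zhat M K)) (csupp (Zhat H KH)) := by
    intro hd
    have hfin : ∀ s : Set G, s.Finite := fun s => Set.toFinite s
    have h3 : Set.ncard (csupp (Zhat M K) ∪ csupp (Zhat H KH)) =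
        Set.ncard (csupp (Zhat M K)) + Set.ncard (csupp (Zhat H KH)) :=
      Set.ncard_union_eq hd (hfin _) (hfin _)
    have h4 : Set.ncard (csupp (Zhat M K) ∪ csupp (Zhat H KH)) ≤ Nat.card G := by
      calc Set.ncard (csupp (Zhat M K) ∪ csupp (Zhat H KH)) ≤ Set.ncard (Set.univ : Set G) :=
            Set.ncard_le_ncard (Set.subset_univ _) (hfin _)
        _ = Nat.card G := Set.ncard_univ G
    omega
  rw [Set.not_disjoint_iff] at hmeet
  obtain ⟨v, ⟨g, z, hz, hvz⟩, ⟨g', z', hz', hvz'⟩⟩ := hmeet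
  set c : G := g⁻¹ * g' with hc
  have hzc : z = c * z' * c⁻¹ := by
    have : z = g⁻¹ * (g * z * g⁻¹) * g := by group
    rw [this, ← hvz, hvz', hc]
    group
  -- the `σ(H)`-part `y'` of `z'`
  have hKsc' : Ks H KH ≤ centralizer (KH : Set G) := inf_le_right
  obtain ⟨x', hx', y', hy', hx'1, hy'1, hz'xy, hxy', ⟨α, hα⟩, ⟨β, hβ⟩⟩ :=
    Cfsg.Agent.Lib.Helper27.BG147.zhat_parts hKsc' (hcop H KH hH hKH) hz'
  set w : G := c * y' * c⁻¹ with hw
  have hwz : w = z ^ β := by rw [hw, ← hβ, hzc, conj_pow]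
  have hzZ : z ∈ K ⊔ Ks M K := hz.1
  have hwZ : w ∈ K ⊔ Ks M K := by rw [hwz]; exact (K ⊔ Ks M K).pow_mem hzZ β
  have hw1 : w ≠ 1 := by
    intro h
    apply hy'1
    have : y' = c⁻¹ * w * c := by rw [hw]; group
    rw [this, h]; group
  -- `w ^ |Hσ| = 1`
  set n := Nat.card (sigmaCore H) with hn
  have hy'σ : y' ∈ sigmaCore H := hy'.1
  have hwn : w ^ n = 1 := by
    have h1 : y' ^ n = 1 := by
      have : (⟨y', hy'σ⟩ : sigmaCore H) ^ Nat.card (sigmaCore H) = 1 := pow_card_eq_one'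
      exact congrArg Subtype.val this
    rw [hw, conj_pow, h1]
    group
  -- `w ∈ K`
  have hKsc : Ks M K ≤ centralizer (K : Set G) := inf_le_right
  obtain ⟨x₁, hx₁, y₁, hy₁, hwxy⟩ :=
    Cfsg.Agent.Lib.Helper27.BG147.exists_mul_of_mem_sup_of_centralizer hKsc hwZ
  have hcomm₁ : Commute x₁ y₁ := (Subgroup.mem_centralizer_iff.mp (hKsc hy₁)) x₁ hx₁
  have hinf : K ⊓ Ks M K = ⊥ := (Subgroup.disjoint_of_coprime_natCard (hcop M K hM hK)).eq_bot
  have hy₁n : y₁ ^ n = 1 := by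
    have h1 : x₁ ^ n * y₁ ^ n = 1 := by rw [← hcomm₁.mul_pow, ← hwxy, hwn]
    have h2 : y₁ ^ n = (x₁ ^ n)⁻¹ := eq_inv_of_mul_eq_one_right h1
    have h3 : y₁ ^ n ∈ K ⊓ Ks M K :=
      ⟨h2 ▸ K.inv_mem (K.pow_mem hx₁ n), (Ks M K).pow_mem hy₁ n⟩
    rw [hinf, Subgroup.mem_bot] at h3
    exact h3
  have hcopKs : (Nat.card (Ks M K)).Coprime n := by
    apply Nat.coprime_of_dvd
    intro p hp hpK hpn
    have h1 : p ∈ sigma M := Cfsg.Agent.Lib.Helper71.BG11.sigmaCore_pi hG hM hp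
      (hpK.trans (Subgroup.card_dvd_of_le (inf_le_left : Ks M K ≤ sigmaCore M)))
    have h2 : p ∈ sigma H := Cfsg.Agent.Lib.Helper71.BG11.sigmaCore_pi hG hH hp hpn
    exact hdisj p h2 h1
  have hy₁1 : y₁ = 1 := by
    have hK' : y₁ ^ Nat.card (Ks M K) = 1 := by
      have : (⟨y₁, hy₁⟩ : Ks M K) ^ Nat.card (Ks M K) = 1 := pow_card_eq_one'
      exact congrArg Subtype.val this
    have h1 : orderOf y₁ ∣ Nat.card (Ks M K) := orderOf_dvd_of_pow_eq_one hK'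
    have h2 : orderOf y₁ ∣ n := orderOf_dvd_of_pow_eq_one hy₁n
    have h3 : orderOf y₁ ∣ 1 := by
      have := Nat.dvd_gcd h1 h2
      rwa [Nat.Coprime.gcd_eq_one hcopKs] at this
    exact orderOf_eq_one_iff.mp (Nat.dvd_one.mp h3)
  have hwK : w ∈ K := by rw [hwxy, hy₁1, mul_one]; exact hx₁
  -- a subgroup `Y'` of prime order of `⟨y'⟩`
  obtain ⟨Y', hY'le, hY'p⟩ := Cfsg.Agent.Lib.Helper89.BG14D.exists_prime_card_le_zpowers hy'1
  have hY'Ks : Y' ≤ Ks H KH := hY'le.trans (zpowers_le.mpr hy')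
  obtain ⟨hCH, -⟩ := hU H KH Y' hH hKH hKH1 hY'Ks hY'p
  -- its conjugate lies in `K = (K*)*`
  have hcY'K : cj c Y' ≤ K := by
    rintro _ ⟨t, ht, rfl⟩
    obtain ⟨m, rfl⟩ := mem_zpowers_iff.mp (hY'le ht)
    have : (MulAut.conj c).toMonoidHom (y' ^ m) = w ^ m := by
      simp only [MulEquiv.toMonoidHom_eq_coe, MonoidHom.coe_coe, MulAut.conj_apply, hw, conj_zpow]
    rw [this]
    exact K.zpow_mem hwK m
  have hcY'p : (Nat.card (cj c Y')).Prime := by rw [card_cj]; exact hY'p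
  have hcY'Ks : cj c Y' ≤ Ks Mstar (Ks M K) := by
    show cj c Y' ≤ sigmaCore Mstar ⊓ centralizer ((Ks M K : Subgroup G) : Set G)
    rw [← hKst]; exact hcY'K
  obtain ⟨-, huniq⟩ := hU Mstar (Ks M K) (cj c Y') hMstar hKstH hKs1 hcY'Ks hcY'p
  have hcH : cj c H = Mstar := by
    apply huniq (cj c H) (isCoatom_cj c hH)
    rw [← cj_centralizer]
    exact cj_mono hCH
  refine ⟨c⁻¹, Or.inr ?_⟩
  show H = cj c⁻¹ Mstar
  rw [← hcH, cj_inv_cj]

end Cfsg.Agent.Lib.Helper31.BG147
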