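import Mathlib
import Cfsg.Agent.Lib.Helper31.BG147Defs
import Cfsg.Agent.Lib.Helper31.BG147C
import Cfsg.Agent.Lib.Helper31.FittingHall
import Cfsg.Agent.Lib.Helper89.BG14DS1
import Cfsg.Agent.Lib.Helper93.BG14DS2
import Cfsg.Agent.Lib.Helper01.BG134CJ
import Cfsg.Agent.S1354
import Cfsg.Agent.Lib.Helper10.BG147A
import Cfsg.Agent.Lib.Helper27.BG147P
import Cfsg.Agent.Lib.Helper28.BG147H
import Cfsg.Agent.Lib.Helper29.BG147D1
import Cfsg.Agent.Lib.Helper31.BG147D2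
import Cfsg.Agent.Lib.Helper31.BG147G
import Cfsg.Agent.Lib.Helper67.BG147C3
import Cfsg.Agent.Lib.Helper77.BG147N
import Cfsg.Agent.Lib.Helper81.BG147Z

/-!
# S1369 (BG Theorem 14.7 (f),(g)): glue of the pack K-1369

`s1369_of` : the conclusion of S1369 from the statements of S1430, S1431, S1433, S1377 (as hypotheses).
-/

set_option autoImplicit false
set_option linter.unusedVariables false
set_option linter.style.haveILetI false
set_option linter.unusedSectionVars false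

namespace Cfsg.Agent.Lib.Helper31.BG147

open Cfsg Subgroup Cfsg.Agent.Lib.Helper55 Cfsg.Agent.Lib.Helper11.BG14D Cfsg.Agent.Lib.Helper11.BG144

variable {G : Type*} [Group G] [Finite G]

/-- `|K|` and `|K*|` are coprime for a `κ(M)`-subgroup `K`. -/
theorem coprime_Ks (hG : IsMinSimpleOddOrder G) {M K : Subgroup G} (hM : IsCoatom M)
    (hK : IsPiHallOf (kappa M) K M) : (Nat.card K).Coprime (Nat.card (Ks M K)) := by
  apply Nat.coprime_of_dvd
  intro p hp hpK hpS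
  have h1' : p ∈ kappa M := hK.2.1 p hp hpK
  have hle : Ks M K ≤ sigmaCore M := inf_le_left
  have h2 : p ∈ sigma M :=
    Cfsg.Agent.Lib.Helper71.BG11.sigmaCore_pi hG hM hp (hpS.trans (Subgroup.card_dvd_of_le hle))
  exact h1'.2.2.1 h2

theorem inf_Ks (hG : IsMinSimpleOddOrder G) {M K : Subgroup G} (hM : IsCoatom M)
    (hK : IsPiHallOf (kappa M) K M) : K ⊓ Ks M K = ⊥ :=
  Subgroup.inf_eq_bot_of_coprime (coprime_Ks hG hM hK)

/-- `K* ≠ 1` for a Hall `κ(M)`-subgroup `K ≠ 1` (definition of `κ` + prime action S1430(1)). -/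
theorem Ks_ne_bot (hG : IsMinSimpleOddOrder G) (h30 : H1430 G) {M K : Subgroup G} (hM : IsCoatom M)
    (hK : IsPiHallOf (kappa M) K M) (hK1 : K ≠ ⊥) : Ks M K ≠ ⊥ := by
  obtain ⟨h1, -, -⟩ := h30 M hM K hK hK1
  obtain ⟨p, hp, hpK, k, hkK, hko⟩ := Cfsg.Agent.Lib.Helper89.BG14D.exists_prime_orderOf_of_ne_bot hK1
  have hpκ : p ∈ kappa M := hK.2.1 p hp hpK
  have hk1 : k ≠ 1 := by
    intro h
    rw [h, orderOf_one] at hko
    exact hp.one_lt.ne hko
  have hPK : zpowers k ≤ K := zpowers_le.mpr hkK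
  have hPc : Nat.card (zpowers k) = p := by rw [Nat.card_zpowers, hko]
  have hne := Cfsg.Agent.Lib.Helper64.BG14.cent_ne_bot_of_mem_kappa hG hM hpκ (hPK.trans hK.1) hPc
  have hle : sigmaCore M ⊓ centralizer ((zpowers k : Subgroup G) : Set G) ≤
      sigmaCore M ⊓ centralizer ({k} : Set G) :=
    inf_le_inf_left _ (Subgroup.centralizer_le (Set.singleton_subset_iff.mpr (mem_zpowers k)))
  rw [h1 k hkK hk1] at hle
  intro hbot
  apply hne
  rw [eq_bot_iff]
  exact hle.trans hbot.le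

/-- `K* ≠ Mσ`, so `|Mσ| = |K*| * a` with `a ≥ 2` (S1431(e)). -/
theorem exists_index_Ks (hG : IsMinSimpleOddOrder G) (h31 : H1431 G) {M K : Subgroup G} (hM : IsCoatom M)
    (hK : IsPiHallOf (kappa M) K M) (hK1 : K ≠ ⊥) (hKs1 : Ks M K ≠ ⊥) :
    ∃ a : ℕ, 3 ≤ a ∧ Nat.card (sigmaCore M) = Nat.card (Ks M K) * a := by
  have hle : Ks M K ≤ sigmaCore M := inf_le_left
  obtain ⟨a, ha⟩ := Subgroup.card_dvd_of_le hle
  have hodd : Odd a := by
    have h := ms_odd hG (sigmaCore M)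
    rw [ha] at h
    exact (Nat.odd_mul.mp h).2
  suffices h2 : 2 ≤ a by
    refine ⟨a, ?_, ha⟩
    rcases hodd with ⟨t, ht⟩
    omega
  by_contra h2
  have hpos : 0 < Nat.card (sigmaCore M) := Nat.card_pos
  have ha1 : a = 1 := by
    rcases Nat.lt_or_ge a 1 with h | h
    · have : a = 0 := by omega
      rw [this, mul_zero] at ha
      omega
    · omega
  rw [ha1, mul_one] at ha
  have heq : Ks M K = sigmaCore M := Subgroup.eq_of_le_of_card_ge hle ha.le
  -- a prime `p ∣ |K*|` and a Sylow `p`-subgroup of `Mσ`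
  have hcard : Nat.card (Ks M K) ≠ 1 := fun h => hKs1 (Subgroup.card_eq_one.mp h)
  obtain ⟨p, hp, hpd⟩ := Nat.exists_prime_and_dvd hcard
  haveI : Fact p.Prime := ⟨hp⟩
  obtain ⟨S⟩ : Nonempty (Sylow p ↥(sigmaCore M)) := inferInstance
  have h := ((h31 M hM K hK hK1).2.2.1 p hp hpd S).2.2
  apply h
  have : (S : Subgroup ↥(sigmaCore M)).map (sigmaCore M).subtype ≤ sigmaCore M :=
    Subgroup.map_subtype_le _
  exact this.trans heq.ge

/-- the hypothesis `hKst` of S1366-S1369, with the coercion to sets put outside the intersection -/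
theorem hKst_coe {M K Mstar : Subgroup G}
    (hKst : K = sigmaCore Mstar ⊓ Subgroup.centralizer ((sigmaCore M ⊓ Subgroup.centralizer (K : Set G)) : Set G)) :
    K = sigmaCore Mstar ⊓ centralizer ((Ks M K : Subgroup G) : Set G) := by
  have hcoe : ((sigmaCore M ⊓ Subgroup.centralizer (K : Set G) : Subgroup G) : Set G) =
      ((sigmaCore M ⊓ Subgroup.centralizer (K : Set G)) : Set G) := Subgroup.coe_inf _ _
  show K = sigmaCore Mstar ⊓ centralizer ((sigmaCore M ⊓ Subgroup.centralizer (K : Set G) : Subgroup G) : Set G)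
  rw [hcoe]
  exact hKst

/-- more than half of `G` is covered by the conjugates of `Ẑ`, for every Hall `κ(M)`-subgroup `K ≠ 1` -/
theorem half (hG : IsMinSimpleOddOrder G) (h30 : H1430 G) (h31 : H1431 G) {M K : Subgroup G}
    (hM : IsCoatom M) (hK : IsPiHallOf (kappa M) K M) (hK1 : K ≠ ⊥) :
    Nat.card K * Nat.card (Ks M K) * Set.ncard (csupp (Zhat M K)) =
        (Nat.card K - 1) * (Nat.card (Ks M K) - 1) * Nat.card G ∧
      Nat.card G < 2 * Set.ncard (csupp (Zhat M K)) :=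
  Cfsg.Agent.Lib.Helper28.BG147.csupp_gt_half hG h30 h31 hM hK hK1
    (fun z g hz hg => Cfsg.Agent.Lib.Helper77.BG147.zhat_normalizer hG h31 hM hK hK1 hz hg)
    (fun N X h1 h2 h3 => Cfsg.Agent.Lib.Helper67.BG147.card_csupp h1 h2 h3)
    (Cfsg.Agent.Lib.Helper81.BG147.ncard_zhat inf_le_right (inf_Ks hG hM hK))

/-- **BG 14.7(g)** -/
theorem s1369_g (hG : IsMinSimpleOddOrder G) (h30 : H1430 G) (h31 : H1431 G)
    (M : Subgroup G) (hM : IsCoatom M) (K U : Subgroup G) (hKU : IsSigmaDecomposition M K U) (hK1 : K ≠ ⊥)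
    (Mstar : Subgroup G) (hMstar : IsCoatom Mstar)
    (hKst : K = sigmaCore Mstar ⊓ Subgroup.centralizer ((sigmaCore M ⊓ Subgroup.centralizer (K : Set G)) : Set G))
    (hKstH : IsPiHallOf (kappa Mstar) (sigmaCore M ⊓ Subgroup.centralizer (K : Set G)) Mstar) :
    ∀ H : Subgroup G, IsCoatom H → (kappa H).Nonempty →
      ∃ g : G, H = M.map (MulAut.conj g).toMonoidHom ∨ H = Mstar.map (MulAut.conj g).toMonoidHom := by
  intro H hH hκ
  exact Cfsg.Agent.Lib.Helper31.BG147.conj_of_kappa_ne hG hM hKU.hall hK1 hMstar (hKst_coe hKst) hKstH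
    (Ks_ne_bot hG h30 hM hKU.hall hK1)
    (fun M K X hM hK hK1 hX hXc => cent_uniq hG h31 hM hK hK1 hX hXc)
    (fun M K hM hK hK1 => (half hG h30 h31 hM hK hK1).2)
    (fun M K hM hK => coprime_Ks hG hM hK) H hH hκ

/-- `M*` is not conjugate to `M` -/
theorem not_conj (hG : IsMinSimpleOddOrder G) {M K Mstar : Subgroup G} (hM : IsCoatom M)
    (hK : IsPiHallOf (kappa M) K M) (hK1 : K ≠ ⊥) (hMstar : IsCoatom Mstar)
    (hKle : K ≤ sigmaCore Mstar) : ∀ g : G, Mstar ≠ M.map (MulAut.conj g).toMonoidHom := by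
  intro g hg
  obtain ⟨p, hp, hpK, -⟩ := Cfsg.Agent.Lib.Helper89.BG14D.exists_prime_orderOf_of_ne_bot hK1
  have hpκ : p ∈ kappa M := hK.2.1 p hp hpK
  have hpσ : p ∈ sigma Mstar :=
    Cfsg.Agent.Lib.Helper71.BG11.sigmaCore_pi hG hMstar hp (hpK.trans (Subgroup.card_dvd_of_le hKle))
  rw [hg] at hpσ
  exact hpκ.2.2.1 ((Cfsg.Agent.Lib.Helper01.BG134.mem_sigma_cj_iff g).mp hpσ)

/-- **BG 14.7(f)** -/
theorem s1369_f (hG : IsMinSimpleOddOrder G) (h30 : H1430 G) (h31 : H1431 G) (h33 : H1433 G) (h77 : H1377 G)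
    (M : Subgroup G) (hM : IsCoatom M) (K U : Subgroup G) (hKU : IsSigmaDecomposition M K U) (hK1 : K ≠ ⊥)
    (Mstar : Subgroup G) (hMstar : IsCoatom Mstar)
    (hKst : K = sigmaCore Mstar ⊓ Subgroup.centralizer ((sigmaCore M ⊓ Subgroup.centralizer (K : Set G)) : Set G))
    (hKstH : IsPiHallOf (kappa Mstar) (sigmaCore M ⊓ Subgroup.centralizer (K : Set G)) Mstar) :
    U ≠ ⊥ ∨ ∀ Ustar : Subgroup G,
      IsSigmaDecomposition Mstar (sigmaCore M ⊓ Subgroup.centralizer (K : Set G)) Ustar → Ustar ≠ ⊥ := by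
  by_contra hcon
  obtain ⟨hU', hex⟩ := not_or.mp hcon
  have hU : U = ⊥ := not_not.mp hU'
  obtain ⟨Ustar, hex'⟩ := not_forall.mp hex
  obtain ⟨hKUs, hUs'⟩ := Classical.not_imp.mp hex'
  have hUs : Ustar = ⊥ := not_not.mp hUs'
  have hKst' := hKst_coe hKst
  have hKs1 : Ks M K ≠ ⊥ := Ks_ne_bot hG h30 hM hKU.hall hK1
  have hKsK : Ks Mstar (Ks M K) = K := hKst'.symm
  have hKle : K ≤ sigmaCore Mstar := by rw [hKst']; exact inf_le_left
  -- orders
  have hMcard : ∀ {M K U : Subgroup G}, IsCoatom M → IsSigmaDecomposition M K U → U = ⊥ →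
      Nat.card K * Nat.card (sigmaCore M) = Nat.card M := by
    intro M K U hM hKU hU
    have hu := Cfsg.Agent.Lib.Helper93.BG14D.uFacts hG M hM K U hKU
    have hUσ : U ⊔ sigmaCore M = sigmaCore M := by rw [hU, bot_sup_eq]
    have hc : IsComplIn K (sigmaCore M) M := by
      refine ⟨hKU.hall.1, Cfsg.Agent.Lib.Helper71.BG11.sigmaCore_le M, ?_, ?_⟩
      · have := hu.inf_bot
        rwa [hUσ] at this
      · intro m hm
        obtain ⟨k, hk, t, ht, rfl⟩ := hu.prod m hm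
        rw [hUσ] at ht
        exact ⟨k, hk, t, ht, rfl⟩
    exact Cfsg.Agent.Lib.Helper31.IsComplIn.card_mul hc
  have hM1 := hMcard hM hKU hU
  have hM2 := hMcard hMstar hKUs hUs
  obtain ⟨a, ha2, ha⟩ := exists_index_Ks hG h31 hM hKU.hall hK1 hKs1
  obtain ⟨b, hb2, hb⟩ := exists_index_Ks hG h31 hMstar hKstH hKs1 (by rw [hKsK]; exact hK1)
  rw [hKsK] at hb
  -- the three sets
  set T₁ : Set G := tildeOf M ((sigmaCore M : Set G) \ {1}) with hT₁
  set T₂ : Set G := tildeOf Mstar ((sigmaCore Mstar : Set G) \ {1}) with hT₂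
  set C : Set G := csupp (Zhat M K) with hC
  have hZeq : Zhat Mstar (Ks M K) = Zhat M K := by
    show (↑(Ks M K ⊔ Ks Mstar (Ks M K)) : Set G) \ ((Ks M K : Set G) ∪ ↑(Ks Mstar (Ks M K))) = _
    rw [hKsK, sup_comm, Set.union_comm]
  have hnc := not_conj hG hM hKU.hall hK1 hMstar hKle
  have h54 := fun (M K : Subgroup G) (hM : IsCoatom M) (hKc : IsCyclic K) (hK : IsPiHallOf (kappa M) K M)
      (hK1 : K ≠ ⊥) => (Cfsg.Agent.S1354.result hG M hM K hKc hK).2 hK1
  have hd12 : Disjoint T₁ T₂ := Cfsg.Agent.Lib.Helper29.BG147.tilde_disjoint hG h33 hM hMstar hnc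
  have hd1C : Disjoint T₁ C :=
    Cfsg.Agent.Lib.Helper31.BG147.tilde_disjoint_csupp hG h31 hM hKU.cyclic hKU.hall hK1 (h54 M K hM hKU.cyclic hKU.hall hK1)
  have hd2C : Disjoint T₂ C := by
    have := Cfsg.Agent.Lib.Helper31.BG147.tilde_disjoint_csupp hG h31 hMstar hKUs.cyclic hKstH hKs1
      (h54 Mstar _ hMstar hKUs.cyclic hKstH hKs1)
    rwa [hZeq] at this
  have hcount := (half hG h30 h31 hM hKU.hall hK1).1
  have ht₁ : Set.ncard T₁ = (Nat.card (sigmaCore M) - 1) * M.index := h77 M hM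
  have ht₂ : Set.ncard T₂ = (Nat.card (sigmaCore Mstar) - 1) * Mstar.index := h77 Mstar hMstar
  have hsum : Set.ncard C + Set.ncard T₁ + Set.ncard T₂ ≤ Nat.card G := by
    have hfin : ∀ s : Set G, s.Finite := fun s => Set.toFinite s
    have h1 : Set.ncard (C ∪ T₁) = Set.ncard C + Set.ncard T₁ :=
      Set.ncard_union_eq hd1C.symm (hfin _) (hfin _)
    have hd : Disjoint (C ∪ T₁) T₂ := by
      rw [Set.disjoint_union_left]
      exact ⟨hd2C.symm, hd12⟩
    have h2 : Set.ncard (C ∪ T₁ ∪ T₂) = Set.ncard (C ∪ T₁) + Set.ncard T₂ :=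
      Set.ncard_union_eq hd (hfin _) (hfin _)
    rw [← h1, ← h2]
    calc Set.ncard (C ∪ T₁ ∪ T₂) ≤ Set.ncard (Set.univ : Set G) :=
          Set.ncard_le_ncard (Set.subset_univ _) (hfin _)
      _ = Nat.card G := Set.ncard_univ G
  have hk : 1 < Nat.card K := by
    rcases Nat.lt_or_ge 1 (Nat.card K) with h | h
    · exact h
    · exfalso
      have hpos : 0 < Nat.card K := Nat.card_pos
      exact hK1 (Subgroup.card_eq_one.mp (by omega))
  have hs : 1 < Nat.card (Ks M K) := by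
    rcases Nat.lt_or_ge 1 (Nat.card (Ks M K)) with h | h
    · exact h
    · exfalso
      have hpos : 0 < Nat.card (Ks M K) := Nat.card_pos
      exact hKs1 (Subgroup.card_eq_one.mp (by omega))
  refine Cfsg.Agent.Lib.Helper10.BG147.counting_false_three (g := Nat.card G) (k := Nat.card K) (s := Nat.card (Ks M K)) (a := a) (b := b)
    (c := Set.ncard C) (t₁ := Set.ncard T₁) (t₂ := Set.ncard T₂) (i₁ := M.index) (i₂ := Mstar.index)
    hk hs ha2 (by omega) Nat.card_pos hcount ?_ ?_ ?_ ?_ hsum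
  · rw [ht₁, ha]
  · rw [← ha, hM1]; exact Subgroup.index_mul_card M
  · rw [ht₂, hb]
  · rw [← hb, hM2]; exact Subgroup.index_mul_card Mstar

/-- **S1369** from the statements of S1430, S1431, S1433, S1377. -/
theorem s1369_of (hG : IsMinSimpleOddOrder G) (h30 : H1430 G) (h31 : H1431 G) (h33 : H1433 G) (h77 : H1377 G)
    (M : Subgroup G) (hM : IsCoatom M) (K U : Subgroup G) (hKU : IsSigmaDecomposition M K U) (hK1 : K ≠ ⊥)
    (Mstar : Subgroup G) (hMstar : IsCoatom Mstar)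
    (hKst : K = sigmaCore Mstar ⊓ Subgroup.centralizer ((sigmaCore M ⊓ Subgroup.centralizer (K : Set G)) : Set G))
    (hKstH : IsPiHallOf (kappa Mstar) (sigmaCore M ⊓ Subgroup.centralizer (K : Set G)) Mstar) :
    (U ≠ ⊥ ∨ ∀ Ustar : Subgroup G,
        IsSigmaDecomposition Mstar (sigmaCore M ⊓ Subgroup.centralizer (K : Set G)) Ustar → Ustar ≠ ⊥) ∧
      ∀ H : Subgroup G, IsCoatom H → (kappa H).Nonempty →
        ∃ g : G, H = M.map (MulAut.conj g).toMonoidHom ∨ H = Mstar.map (MulAut.conj g).toMonoidHom :=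
  ⟨s1369_f hG h30 h31 h33 h77 M hM K U hKU hK1 Mstar hMstar hKst hKstH,
    s1369_g hG h30 h31 M hM K U hKU hK1 Mstar hMstar hKst hKstH⟩

end Cfsg.Agent.Lib.Helper31.BG147
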