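import Mathlib
import Cfsg.Prelude.Def_OddOrderLocal
import Cfsg.Prelude.Def_OddOrder
import Cfsg.Prelude.Def_EvenTechniques
import Cfsg.Agent.Lib.Helper01.PCore
import Cfsg.Agent.Lib.Helper01.PPrimeCore
import Cfsg.Agent.Lib.Helper01.Fitting
import Cfsg.Agent.Lib.Helper13.Fitting
import Cfsg.Agent.Lib.Helper30.Layer
import Cfsg.Agent.Lib.Helper31.Transitivity
import Cfsg.Agent.Lib.Helper31.BenderFit
import Cfsg.Agent.Lib.Helper59.BenderUniq

/-!
# A maximal subgroup with non-primary Fitting subgroup is the only one over `Z(F)`-like subgroups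

`G` simple with all proper subgroups solvable, `H` maximal, `F = F(H)` divisible by at least two
primes, `Z(F) ≤ M ≤ F` such that the only `M`-invariant `π(F)'`-subgroup of `G` is trivial.
Then `H` is the only maximal subgroup containing `M`.

Thompson's transitivity lemma (`BenderFit.le_ppc`) gives `F(L) ≤ H` and `F(H) ≤ L` for a
maximal `L ≥ M`; Bender's uniqueness theorem (helper59) finishes.
-/

set_option autoImplicit false

namespace Cfsg.Agent.Lib.Helper31.FitUniq

open Cfsg Cfsg.Agent.Lib.Helper31 Cfsg.Agent.Lib.Helper31.BenderFit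

section Op

variable {G : Type*} [Group G]

/-- `O_p(K)` as a subgroup of the ambient group. -/
def op (p : ℕ) (K : Subgroup G) : Subgroup G := (Cfsg.pCore p ↥K).map K.subtype

theorem op_le (p : ℕ) (K : Subgroup G) : op p K ≤ K := Subgroup.map_subtype_le _

theorem le_normalizer_op (p : ℕ) (K : Subgroup G) :
    K ≤ Subgroup.normalizer (op p K : Set G) := by
  have hn : (Cfsg.pCore p ↥K).Normal := Cfsg.Agent.Lib.Helper01.pCore_normal p
  have h := Subgroup.le_normalizer_map (H := Cfsg.pCore p ↥K) K.subtype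
  rw [Subgroup.normalizer_eq_top_iff.2 hn, ← MonoidHom.range_eq_map,
    Subgroup.range_subtype] at h
  exact h

theorem op_isPGroup (p : ℕ) (K : Subgroup G) : IsPGroup p (op p K) :=
  (Cfsg.Agent.Lib.Helper01.pCore_isPGroup p).map _

theorem fittingOf_eq_iSup_op [Finite G] (K : Subgroup G) :
    fittingOf K = ⨆ p : Nat.Primes, op (p : ℕ) K := by
  unfold fittingOf op
  rw [Cfsg.Agent.Lib.Helper01.fitting_eq_iSup_pCore, Subgroup.map_iSup]

theorem op_le_fittingOf [Finite G] (p : ℕ) (hp : p.Prime) (K : Subgroup G) :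
    op p K ≤ fittingOf K := by
  rw [fittingOf_eq_iSup_op]
  exact le_iSup (fun q : Nat.Primes => op (q : ℕ) K) ⟨p, hp⟩

/-- `O_p(K)` and `O_{p'}(K)` commute. -/
theorem op_le_centralizer_ppc [Finite G] (p : ℕ) [Fact p.Prime] (K : Subgroup G) :
    op p K ≤ Subgroup.centralizer (ppc p K : Set G) := by
  have hn1 : (Cfsg.pCore p ↥K).Normal := Cfsg.Agent.Lib.Helper01.pCore_normal p
  have hn2 : (Cfsg.pPrimeCore p ↥K).Normal := inferInstance
  have hdis : Disjoint (Cfsg.pCore p ↥K) (Cfsg.pPrimeCore p ↥K) := by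
    apply Subgroup.disjoint_of_coprime_natCard
    obtain ⟨n, hn⟩ := IsPGroup.iff_card.1 (Cfsg.Agent.Lib.Helper01.pCore_isPGroup (G := ↥K) p)
    rw [hn]
    exact Nat.Coprime.pow_left n (Cfsg.Agent.Lib.Helper01.pPrimeCore_card_coprime p).symm
  rintro _ ⟨x, hx, rfl⟩
  rw [Subgroup.mem_centralizer_iff]
  rintro _ ⟨y, hy, rfl⟩
  have hc := Subgroup.commute_of_normal_of_disjoint _ _ hn1 hn2 hdis x y hx hy
  have := congrArg (K.subtype) hc.eq
  simpa using this.symm

/-- Thompson's lemma in centralizer form. -/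
theorem op_le_centralizer_of_normalizer [Finite G] (K : Subgroup G) (hs : Group.IsSolvable ↥K)
    (p : ℕ) [Fact p.Prime] (T D : Subgroup G) (hTK : T ≤ K) (hDK : D ≤ K) (hT : IsPGroup p T)
    (hD : (Nat.card D).Coprime p) (hDT : D ≤ Subgroup.normalizer (T : Set G))
    (hND : Subgroup.normalizer (T : Set G) ⊓ K ≤ Subgroup.normalizer (D : Set G)) :
    op p K ≤ Subgroup.centralizer (D : Set G) :=
  (op_le_centralizer_ppc p K).trans
    (Subgroup.centralizer_le (le_ppc K hs p T D hTK hDK hT hD hDT hND))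

theorem eq_bot_of_isPGroup_of_not_dvd [Finite G] {p : ℕ} [Fact p.Prime] {X Y : Subgroup G}
    (hX : IsPGroup p X) (hXY : X ≤ Y) (hnd : ¬ p ∣ Nat.card Y) : X = ⊥ := by
  obtain ⟨k, hk⟩ := IsPGroup.iff_card.1 hX
  have hdvd := Subgroup.card_dvd_of_le hXY
  rcases k with _ | k
  · rw [pow_zero] at hk
    exact Subgroup.card_eq_one.1 hk
  · exfalso
    apply hnd
    refine dvd_trans ?_ hdvd
    rw [hk]
    exact dvd_pow_self p (Nat.succ_ne_zero k)

theorem dvd_card_of_isPGroup_ne_bot [Finite G] {p : ℕ} [Fact p.Prime] {X Y : Subgroup G}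
    (hX : IsPGroup p X) (hne : X ≠ ⊥) (hXY : X ≤ Y) : p ∣ Nat.card Y := by
  by_contra h
  exact hne (eq_bot_of_isPGroup_of_not_dvd hX hXY h)

theorem genFitting_eq_fitting_of_solvable {K : Type*} [Group K] (hs : Group.IsSolvable K) :
    generalizedFittingSubgroup K = fittingSubgroup K := by
  unfold generalizedFittingSubgroup
  have h : layer K = ⊥ := by
    unfold layer
    rw [sSup_eq_bot]
    intro C hC
    exfalso
    have := hs
    exact Cfsg.Agent.Lib.Helper30.component_not_le_solvable hC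
      (N := (⊤ : Subgroup K)) inferInstance le_top
  rw [h, bot_sup_eq]

theorem inf_centralizer_fittingOf_le [Finite G] (K : Subgroup G) (hs : Group.IsSolvable ↥K) :
    K ⊓ Subgroup.centralizer (fittingOf K : Set G) ≤ fittingOf K := by
  intro x hx
  obtain ⟨hxK, hxc⟩ := Subgroup.mem_inf.1 hx
  have := hs
  have h1 : (⟨x, hxK⟩ : ↥K) ∈
      Subgroup.centralizer ((fittingSubgroup ↥K : Subgroup ↥K) : Set ↥K) := by
    rw [Subgroup.mem_centralizer_iff]
    intro f hf
    apply Subtype.ext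
    exact Subgroup.mem_centralizer_iff.1 hxc (f : G) ((mem_fittingOf_iff f).2 hf)
  exact (mem_fittingOf_iff (⟨x, hxK⟩ : ↥K)).2
    (Cfsg.Agent.Lib.Helper13.centralizer_fittingSubgroup_le h1)

/-- the Thompson step for the `r`-parts of `Z(F(A))` inside a solvable group `B`. -/
theorem op_le_centralizer_zr [Finite G] (A B : Subgroup G)
    (hloc : ∀ r : ℕ, r.Prime → r ∣ Nat.card (fittingOf A) →
      Subgroup.normalizer (zr (fittingOf A) r : Set G) = A)
    (hB : Group.IsSolvable ↥B) (hZ : ∀ r : ℕ, zr (fittingOf A) r ≤ B)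
    (p r : ℕ) [hpF : Fact p.Prime] (hr : r.Prime) (hpr : p ≠ r)
    (hp : p ∣ Nat.card (fittingOf A)) :
    op p B ≤ Subgroup.centralizer (zr (fittingOf A) r : Set G) := by
  have hAn : ∀ s, A ≤ Subgroup.normalizer (zr (fittingOf A) s : Set G) :=
    fun s => le_normalizer_zr _ A s (le_normalizer_fittingOf A)
  apply op_le_centralizer_of_normalizer B hB p (zr (fittingOf A) p) (zr (fittingOf A) r)
    (hZ p) (hZ r) (zr_isPGroup _ p)
  · have : Fact r.Prime := ⟨hr⟩
    obtain ⟨k, hk⟩ := IsPGroup.iff_card.1 (zr_isPGroup (fittingOf A) r)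
    rw [hk]
    exact Nat.Coprime.pow_left k ((Nat.coprime_primes hr hpF.out).2 hpr.symm)
  · exact ((zr_le _ r).trans (fittingOf_le' A)).trans (hAn p)
  · rw [hloc p hpF.out hp]
    exact inf_le_left.trans (hAn r)

end Op

section Main

variable {G : Type*} [Group G] [Finite G]

theorem normalizer_zr_eq_of_coatom [IsSimpleGroup G] {K : Subgroup G} (hK : IsCoatom K) :
    ∀ r : ℕ, r.Prime → r ∣ Nat.card (fittingOf K) →
      Subgroup.normalizer (zr (fittingOf K) r : Set G) = K := by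
  intro r hr hrd
  have : Fact r.Prime := ⟨hr⟩
  exact Cfsg.Agent.Lib.Helper59.Bender.normalizer_eq_of_coatom hK
    ((zr_le _ r).trans (fittingOf_le' K)) (zr_ne_bot _ (fittingOf_isNilpotent K) r hrd)
    (le_normalizer_zr _ K r (le_normalizer_fittingOf K))

omit [Finite G] in
theorem genFittingOf_eq (K : Subgroup G) (hs : Group.IsSolvable ↥K) :
    (generalizedFittingSubgroup ↥K).map K.subtype = fittingOf K := by
  rw [genFitting_eq_fitting_of_solvable hs]
  rfl

/-- **Uniqueness theorem**: `H` is the only maximal subgroup containing `M`. -/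
theorem main [IsSimpleGroup G] (hsolv : ∀ K : Subgroup G, K ≠ ⊤ → Group.IsSolvable ↥K)
    (H : Subgroup G) (hH : IsCoatom H)
    (hF2 : 2 ≤ (Nat.card (fittingOf H)).primeFactors.card)
    (M : Subgroup G) (_hM : M ≤ fittingOf H)
    (hZM : fittingOf H ⊓ Subgroup.centralizer (fittingOf H : Set G) ≤ M)
    (hinv : ∀ Y ∈ invSubgroups ⊤ M (primesNotDvd (Nat.card (fittingOf H))), Y = ⊥)
    (L : Subgroup G) (hL : IsCoatom L) (hML : M ≤ L) : L = H := by
  classical
  have hHs : Group.IsSolvable ↥H := hsolv H hH.1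
  have hLs : Group.IsSolvable ↥L := hsolv L hL.1
  have hlocH := normalizer_zr_eq_of_coatom hH
  have hlocL := normalizer_zr_eq_of_coatom hL
  have hF0 : Nat.card (fittingOf H) ≠ 0 := Nat.card_pos.ne'
  -- `Z(F)_r ≤ M ≤ L`
  have hZM' : ∀ r : ℕ, zr (fittingOf H) r ≤ M := fun r x hx =>
    hZM (Subgroup.mem_inf.2 ⟨zr_le _ r hx, zr_le_centralizer _ r hx⟩)
  have hZL : ∀ r : ℕ, zr (fittingOf H) r ≤ L := fun r => (hZM' r).trans hML
  -- a second prime
  have hex : ∀ p : ℕ, ∃ r : ℕ, r.Prime ∧ r ≠ p ∧ r ∣ Nat.card (fittingOf H) := by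
    intro p
    obtain ⟨r, hr, hrp⟩ := Finset.exists_mem_ne (s := (Nat.card (fittingOf H)).primeFactors)
      (by omega) p
    exact ⟨r, (Nat.mem_primeFactors.1 hr).1, hrp, (Nat.mem_primeFactors.1 hr).2.1⟩
  -- `O_p(L) = 1` for `p ∉ π`
  have hopL_bot : ∀ p : ℕ, p.Prime → ¬ p ∣ Nat.card (fittingOf H) → op p L = ⊥ := by
    intro p hp hnd
    have : Fact p.Prime := ⟨hp⟩
    apply hinv
    refine ⟨le_top, ?_, hML.trans (le_normalizer_op p L)⟩
    intro q hq hqd
    obtain ⟨k, hk⟩ := IsPGroup.iff_card.1 (op_isPGroup p L)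
    rw [hk] at hqd
    have hqp : q = p := (Nat.prime_dvd_prime_iff_eq hq hp).1 (hq.dvd_of_dvd_pow hqd)
    rw [hqp]
    exact ⟨hp, hnd⟩
  -- Claim A: `F(L) ≤ H`
  have hA : fittingOf L ≤ H := by
    rw [fittingOf_eq_iSup_op]
    apply iSup_le
    intro p
    have : Fact (p : ℕ).Prime := ⟨p.2⟩
    by_cases hpd : (p : ℕ) ∣ Nat.card (fittingOf H)
    · obtain ⟨r, hr, hrp, hrd⟩ := hex p
      have h1 := op_le_centralizer_zr H L hlocH hLs hZL p r hr hrp.symm hpd
      exact h1.trans ((Subgroup.centralizer_le_normalizer _).trans (hlocH r hr hrd).le)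
    · rw [hopL_bot p p.2 hpd]
      exact bot_le
  -- Claim B: `π(F(H)) ⊆ π(F(L))`
  have hB : ∀ p : ℕ, p.Prime → p ∣ Nat.card (fittingOf H) → p ∣ Nat.card (fittingOf L) := by
    intro p hp hpd
    have : Fact p.Prime := ⟨hp⟩
    by_contra hnd
    have hopp : op p L = ⊥ :=
      eq_bot_of_isPGroup_of_not_dvd (op_isPGroup p L) (op_le_fittingOf p hp L) hnd
    have hcent : fittingOf L ≤ Subgroup.centralizer (zr (fittingOf H) p : Set G) := by
      rw [fittingOf_eq_iSup_op]
      apply iSup_le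
      intro s
      have : Fact (s : ℕ).Prime := ⟨s.2⟩
      by_cases hsp : (s : ℕ) = p
      · rw [hsp, hopp]; exact bot_le
      · by_cases hsd : (s : ℕ) ∣ Nat.card (fittingOf H)
        · exact op_le_centralizer_zr H L hlocH hLs hZL s p hp hsp hsd
        · rw [hopL_bot s s.2 hsd]; exact bot_le
    have hZE : zr (fittingOf H) p ≤ fittingOf L := by
      refine le_trans ?_ (inf_centralizer_fittingOf_le L hLs)
      exact le_inf (hZL p) (Subgroup.le_centralizer_iff.1 hcent)
    exact hnd (dvd_card_of_isPGroup_ne_bot (zr_isPGroup _ p)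
      (zr_ne_bot _ (fittingOf_isNilpotent H) p hpd) hZE)
  -- Claim C: `F(H) ≤ L`
  have hZH : ∀ r : ℕ, zr (fittingOf L) r ≤ H := fun r => (zr_le _ r).trans hA
  have hC : fittingOf H ≤ L := by
    rw [fittingOf_eq_iSup_op]
    apply iSup_le
    intro p
    have : Fact (p : ℕ).Prime := ⟨p.2⟩
    by_cases hpd : (p : ℕ) ∣ Nat.card (fittingOf H)
    · obtain ⟨r, hr, hrp, hrd⟩ := hex p
      have h1 := op_le_centralizer_zr L H hlocL hHs hZH p r hr hrp.symm (hB p p.2 hpd)
      exact h1.trans ((Subgroup.centralizer_le_normalizer _).trans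
        (hlocL r hr (hB r hr hrd)).le)
    · rw [eq_bot_of_isPGroup_of_not_dvd (op_isPGroup p H) (op_le_fittingOf p p.2 H) hpd]
      exact bot_le
  -- nontriviality
  obtain ⟨p₀, hp₀, -, hp₀d⟩ := hex 0
  have hFne : fittingOf H ≠ ⊥ := by
    intro h
    rw [h, Subgroup.card_bot] at hp₀d
    exact hp₀.one_lt.ne' (Nat.dvd_one.1 hp₀d)
  have hEne : fittingOf L ≠ ⊥ := by
    intro h
    have := hB p₀ hp₀ hp₀d
    rw [h, Subgroup.card_bot] at this
    exact hp₀.one_lt.ne' (Nat.dvd_one.1 this)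
  have h1 : Cfsg.leadsTo H L := by
    refine ⟨fittingOf H, hFne, le_rfl, ?_⟩
    rw [genFittingOf_eq H hHs]
    exact inf_le_left.trans hC
  have h2 : Cfsg.leadsTo L H := by
    refine ⟨fittingOf L, hEne, le_rfl, ?_⟩
    rw [genFittingOf_eq L hLs]
    exact inf_le_left.trans hA
  rcases Cfsg.Agent.Lib.Helper59.Bender.bender_symmetric H L hH hL h1 h2 with h | ⟨p, hp, hpH, -⟩
  · exact h.symm
  · exfalso
    have : Fact p.Prime := ⟨hp⟩
    rw [genFitting_eq_fitting_of_solvable hHs] at hpH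
    obtain ⟨k, hk⟩ := IsPGroup.iff_card.1 hpH
    have hcard : Nat.card (fittingOf H) = p ^ k := by
      rw [← hk]
      exact Subgroup.card_map_of_injective H.subtype_injective
    rw [hcard] at hF2
    have hle : (p ^ k).primeFactors ⊆ {p} := by
      intro q hq
      rw [Finset.mem_singleton]
      exact (Nat.prime_dvd_prime_iff_eq (Nat.mem_primeFactors.1 hq).1 hp).1
        ((Nat.mem_primeFactors.1 hq).1.dvd_of_dvd_pow (Nat.mem_primeFactors.1 hq).2.1)
    have := Finset.card_le_card hle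
    rw [Finset.card_singleton] at this
    omega

end Main

end Cfsg.Agent.Lib.Helper31.FitUniq
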