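import Mathlib
import Cfsg.Agent.Lib.Helper31.BG147C
import Cfsg.Agent.S1354

/-!
# S1367 from S1431 (as hypothesis `H1431 G`): two applications of BG 14.2(c) (`cent_uniq`)
-/

set_option autoImplicit false
set_option linter.unusedVariables false

namespace Cfsg.Agent.Lib.Helper31.BG147

open Cfsg Cfsg.Agent.Lib.Helper55 Cfsg.Agent.Lib.Helper11.BG14D

variable {G : Type*} [Group G] [Finite G]

theorem s1367_of (hG : IsMinSimpleOddOrder G) (h31 : H1431 G)
    (M : Subgroup G) (hM : IsCoatom M) (K U : Subgroup G) (hKU : IsSigmaDecomposition M K U) (hK1 : K ≠ ⊥)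
    (Mstar : Subgroup G) (hMstar : IsCoatom Mstar)
    (hKst : K = sigmaCore Mstar ⊓ Subgroup.centralizer ((sigmaCore M ⊓ Subgroup.centralizer (K : Set G)) : Set G))
    (hKstH : IsPiHallOf (kappa Mstar) (sigmaCore M ⊓ Subgroup.centralizer (K : Set G)) Mstar) :
    (∀ X : Subgroup G, X ≤ (sigmaCore M ⊓ Subgroup.centralizer (K : Set G)) → (Nat.card X).Prime →
        Subgroup.centralizer (X : Set G) ≤ M ∧ ∀ L : Subgroup G, IsCoatom L → Subgroup.centralizer (X : Set G) ≤ L → L = M) ∧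
      (∀ Y : Subgroup G, Y ≤ K → (Nat.card Y).Prime →
        Subgroup.centralizer (Y : Set G) ≤ Mstar ∧ ∀ L : Subgroup G, IsCoatom L → Subgroup.centralizer (Y : Set G) ≤ L → L = Mstar) := by
  have hKs1 : sigmaCore M ⊓ Subgroup.centralizer (K : Set G) ≠ ⊥ :=
    (Cfsg.Agent.S1354.result hG M hM K hKU.cyclic hKU.hall).1
  refine ⟨fun X hX hXc => cent_uniq hG h31 hM hKU.hall hK1 hX hXc, ?_⟩
  intro Y hY hYc
  refine cent_uniq hG h31 hMstar hKstH hKs1 (X := Y) ?_ hYc
  have hcoe : ((sigmaCore M ⊓ Subgroup.centralizer (K : Set G) : Subgroup G) : Set G) =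
      ((sigmaCore M ⊓ Subgroup.centralizer (K : Set G)) : Set G) := Subgroup.coe_inf _ _
  show Y ≤ sigmaCore Mstar ⊓ Subgroup.centralizer ((sigmaCore M ⊓ Subgroup.centralizer (K : Set G) : Subgroup G) : Set G)
  rw [hcoe, ← hKst]
  exact hY

end Cfsg.Agent.Lib.Helper31.BG147
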