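import Mathlib
import Cfsg.Agent.S1009
import Cfsg.Agent.S0742
import Cfsg.Agent.Lib.Helper07.A6Final
import Cfsg.Agent.Lib.Helper23.SylowPerm
import Cfsg.Agent.Lib.Helper23.SylowEmbed
import Cfsg.Agent.Lib.Helper23.SylowInter
import Cfsg.Agent.Lib.Helper23.SylowCount
import Cfsg.Agent.Lib.Helper23.Burnside

/-!
# Simple groups of order 360

The action of a simple group of order `360` on its ten Sylow `3`-subgroups is a Zassenhaus
group whose two-point stabilisers have order `4`.
-/

set_option autoImplicit false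
set_option linter.unusedSectionVars false

namespace Cfsg.Agent.Lib.Helper31.Order360

open MulAction Subgroup Cfsg.Agent.Lib.Helper23

variable {G : Type*} [Group G] [Finite G] [IsSimpleGroup G]

theorem not_comm (h : Nat.card G = 360) : ¬ IsMulCommutative G :=
  not_isMulCommutative_of_simple (by rw [h]; norm_num)

/-- a proper subgroup has index at least `6` -/
theorem six_le_index (h : Nat.card G = 360) (H : Subgroup G) (hH : H ≠ ⊤) : 6 ≤ H.index := by
  have h1 := card_dvd_factorial_index (not_comm h) H hH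
  rw [h] at h1
  by_contra hlt
  push Not at hlt
  interval_cases H.index <;> revert h1 <;> decide

theorem card_sylow3 (h : Nat.card G = 360) (P : Sylow 3 G) : Nat.card ↥(P : Subgroup G) = 9 := by
  have := sylow_card_of_card_eq 3 2 40 (by rw [h]; norm_num) (by norm_num) P
  simpa using this

theorem sylow3_comm (h : Nat.card G = 360) (P : Sylow 3 G) :
    ∀ a ∈ (P : Subgroup G), ∀ b ∈ (P : Subgroup G), a * b = b * a := by
  intro a ha b hb
  have hc : Nat.card ↥(P : Subgroup G) = 3 ^ 2 := by rw [card_sylow3 h P]; norm_num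
  have hcm : IsMulCommutative ↥(P : Subgroup G) := IsPGroup.isMulCommutative_of_card_eq_prime_sq hc
  have := hcm.is_comm.comm ⟨a, ha⟩ ⟨b, hb⟩
  exact congrArg Subtype.val this

/-- there are ten Sylow `3`-subgroups -/
theorem card_sylow_three (h : Nat.card G = 360) : Nat.card (Sylow 3 G) = 10 := by
  obtain ⟨P⟩ : Nonempty (Sylow 3 G) := inferInstance
  have hdvd : Nat.card (Sylow 3 G) ∣ 40 :=
    card_sylow_dvd_of_card_eq 3 2 40 (by rw [h]; norm_num) (by norm_num)
  have hmod : Nat.card (Sylow 3 G) ≡ 1 [MOD 3] := card_sylow_modEq_one 3 G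
  have hne1 : Nat.card (Sylow 3 G) ≠ 1 :=
    card_sylow_ne_one_of_simple 3 P (by rw [card_sylow3 h P]; norm_num)
      (by rw [card_sylow3 h P, h]; norm_num)
  have hN := card_normalizer_mul_card_sylow 3 P
  have hidx := card_sylow_eq_index_normalizer' 3 P
  rw [h] at hN
  have hle : Nat.card (Sylow 3 G) ≤ 40 := Nat.le_of_dvd (by norm_num) hdvd
  unfold Nat.ModEq at hmod
  generalize Nat.card (Sylow 3 G) = n at *
  interval_cases n <;> try omega
  · -- n = 4
    exfalso
    have htop : Subgroup.normalizer ((P : Subgroup G) : Set G) ≠ ⊤ := by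
      intro htop
      rw [htop, Subgroup.index_top] at hidx
      omega
    have := six_le_index h _ htop
    omega
  · -- n = 40
    exfalso
    have hc9 : Nat.card ↥(Subgroup.normalizer ((P : Subgroup G) : Set G)) = 9 := by omega
    have heq : (P : Subgroup G) = Subgroup.normalizer ((P : Subgroup G) : Set G) :=
      Subgroup.eq_of_le_of_card_ge Subgroup.le_normalizer (by rw [hc9, card_sylow3 h P])
    refine false_of_normalizer_le_centralizer (not_comm h) 3 (by rw [h]; norm_num) P ?_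
    rw [← heq]
    intro a ha
    rw [Subgroup.mem_centralizer_iff]
    intro b hb
    exact sylow3_comm h P b hb a ha

section TI

variable (h : Nat.card G = 360) (P Q : Sylow 3 G)
  (hPQ : (P : Subgroup G) ⊓ (Q : Subgroup G) = ⊥)

include h hPQ

theorem ne_of_inf_eq_bot : P ≠ Q := by
  rintro rfl
  rw [inf_idem] at hPQ
  have := card_sylow3 h P
  rw [hPQ] at this
  simp at this

/-- an element of `P` normalising `Q` is trivial -/
theorem eq_one_of_mem_of_smul_eq {x : G} (hx : x ∈ (P : Subgroup G)) (hxQ : x • Q = Q) :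
    x = 1 := by
  have h1 := SylowPerm.mem_of_mem_normalizer_of_mem_sylow 3 P Q x hx hxQ
  have h2 : x ∈ (P : Subgroup G) ⊓ (Q : Subgroup G) := Subgroup.mem_inf.2 ⟨hx, h1⟩
  rw [hPQ] at h2
  exact Subgroup.mem_bot.1 h2

omit h hPQ in
theorem smul_self_of_mem {x : G} (hx : x ∈ (P : Subgroup G)) : x • P = P :=
  Sylow.smul_eq_iff_mem_normalizer.2 (Subgroup.le_normalizer hx)

theorem smul_ne_of_mem {x : G} (hx : x ∈ (P : Subgroup G)) : x • Q ≠ P := by
  intro hxQ
  apply ne_of_inf_eq_bot h P Q hPQ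
  have h1 : x⁻¹ • (x • Q) = x⁻¹ • P := by rw [hxQ]
  rw [inv_smul_smul, smul_self_of_mem P (inv_mem hx)] at h1
  exact h1.symm

theorem card_ne_eq : Nat.card {R : Sylow 3 G // R ≠ P} = 9 := by
  have h1 : Nat.card {R : Sylow 3 G // R ≠ P} = ({R : Sylow 3 G | R ≠ P}).ncard :=
    Nat.card_coe_set_eq _
  have h2 : {R : Sylow 3 G | R ≠ P} = Set.univ \ {P} := by
    ext R; simp
  rw [h1, h2, Set.ncard_sdiff_singleton_of_mem (Set.mem_univ P), Set.ncard_univ,
    card_sylow_three h]

/-- `P` is transitive on the other nine Sylow subgroups -/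
theorem exists_smul_eq_of_ne (R : Sylow 3 G) (hR : R ≠ P) :
    ∃ x ∈ (P : Subgroup G), x • Q = R := by
  let f : ↥(P : Subgroup G) → {R : Sylow 3 G // R ≠ P} :=
    fun x => ⟨(x : G) • Q, smul_ne_of_mem h P Q hPQ x.2⟩
  have hinj : Function.Injective f := by
    intro x y hxy
    have h1 : (x : G) • Q = (y : G) • Q := congrArg Subtype.val hxy
    have h2 : ((y : G)⁻¹ * (x : G)) • Q = Q := by
      rw [mul_smul, h1, inv_smul_smul]
    have h3 := eq_one_of_mem_of_smul_eq h P Q hPQ (mul_mem (inv_mem y.2) x.2) h2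
    ext
    exact (inv_mul_eq_one.1 h3).symm
  have hbij : Function.Bijective f :=
    hinj.bijective_of_nat_card_le (by rw [card_ne_eq h P Q hPQ, card_sylow3 h P])
  obtain ⟨x, hx⟩ := hbij.2 ⟨R, hR⟩
  exact ⟨x, x.2, congrArg Subtype.val hx⟩

/-- a pair of distinct Sylow subgroups can be moved to `(P, Q)` -/
theorem exists_smul_pair (a b : Sylow 3 G) (hab : a ≠ b) : ∃ g : G, g • a = P ∧ g • b = Q := by
  obtain ⟨g₁, hg₁⟩ := MulAction.exists_smul_eq G a P
  have hb : g₁ • b ≠ P := by
    intro hb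
    apply hab
    have : g₁ • a = g₁ • b := by rw [hg₁, hb]
    exact (MulAction.injective g₁) this
  obtain ⟨x, hx, hxQ⟩ := exists_smul_eq_of_ne h P Q hPQ _ hb
  refine ⟨x⁻¹ * g₁, ?_, ?_⟩
  · rw [mul_smul, hg₁, smul_self_of_mem P (inv_mem hx)]
  · rw [mul_smul, ← hxQ, inv_smul_smul]

theorem card_stabilizer : Nat.card ↥(stabilizer G P) = 36 := by
  have h1 := card_normalizer_mul_card_sylow 3 P
  rw [h, card_sylow_three h] at h1
  rw [Sylow.stabilizer_eq_normalizer]
  change Nat.card ↥(Subgroup.normalizer ((P : Subgroup G) : Set G)) = 36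
  omega

/-- the two-point stabiliser has order `4` -/
theorem card_two_point : Nat.card ↥(stabilizer G P ⊓ stabilizer G Q) = 4 := by
  let φ : ↥(P : Subgroup G) × ↥(stabilizer G P ⊓ stabilizer G Q) → ↥(stabilizer G P) :=
    fun xt => ⟨(xt.1 : G) * (xt.2 : G), mul_mem
      (by rw [MulAction.mem_stabilizer_iff]; exact smul_self_of_mem P xt.1.2)
      (Subgroup.mem_inf.1 xt.2.2).1⟩
  have hinj : Function.Injective φ := by
    rintro ⟨x, t⟩ ⟨y, s⟩ hxy
    have h1 : (x : G) * (t : G) = (y : G) * (s : G) := congrArg Subtype.val hxy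
    have h2 : (y : G)⁻¹ * (x : G) = (s : G) * (t : G)⁻¹ := by
      rw [inv_mul_eq_iff_eq_mul, ← mul_assoc, ← h1, mul_assoc, mul_inv_cancel, mul_one]
    have h3 : ((y : G)⁻¹ * (x : G)) • Q = Q := by
      rw [h2]
      have hs := MulAction.mem_stabilizer_iff.1 (Subgroup.mem_inf.1 s.2).2
      have ht := MulAction.mem_stabilizer_iff.1 (Subgroup.mem_inf.1 (inv_mem t.2)).2
      rw [mul_smul]
      rw [ht, hs]
    have h4 := eq_one_of_mem_of_smul_eq h P Q hPQ (mul_mem (inv_mem y.2) x.2) h3
    have h5 : (x : G) = (y : G) := (inv_mul_eq_one.1 h4).symm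
    have h6 : (t : G) = (s : G) := by
      rw [h5] at h1
      exact mul_left_cancel h1
    exact Prod.ext (Subtype.ext h5) (Subtype.ext h6)
  have hsurj : Function.Surjective φ := by
    rintro ⟨n, hn⟩
    have hnP : n • P = P := MulAction.mem_stabilizer_iff.1 hn
    have hnQ : n • Q ≠ P := by
      intro hnQ
      apply ne_of_inf_eq_bot h P Q hPQ
      have : n • P = n • Q := by rw [hnP, hnQ]
      exact (MulAction.injective n) this
    obtain ⟨x, hx, hxQ⟩ := exists_smul_eq_of_ne h P Q hPQ _ hnQ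
    have hxP : x⁻¹ • P = P := smul_self_of_mem P (inv_mem hx)
    refine ⟨⟨⟨x, hx⟩, ⟨x⁻¹ * n, Subgroup.mem_inf.2 ⟨?_, ?_⟩⟩⟩, ?_⟩
    · rw [MulAction.mem_stabilizer_iff, mul_smul, hnP, hxP]
    · rw [MulAction.mem_stabilizer_iff, mul_smul, ← hxQ, inv_smul_smul]
    · apply Subtype.ext
      show x * (x⁻¹ * n) = n
      rw [mul_inv_cancel_left]
  have hcard := Nat.card_congr (Equiv.ofBijective φ ⟨hinj, hsurj⟩)
  rw [Nat.card_prod, card_sylow3 h P, card_stabilizer h P Q hPQ] at hcard
  omega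

end TI

section Fix

variable (h : Nat.card G = 360) (P Q : Sylow 3 G)
  (hPQ : (P : Subgroup G) ⊓ (Q : Subgroup G) = ⊥)

include h hPQ

/-- the fixed points of an element of the two-point stabiliser are controlled by its
centraliser in `P` -/
theorem card_fixedBy_le (t : G) (htP : t • P = P) (htQ : t • Q = Q) :
    Nat.card (fixedBy (Sylow 3 G) t) ≤
      Nat.card ↥((Subgroup.centralizer ({t} : Set G)).subgroupOf (P : Subgroup G)) + 1 := by
  set C : Subgroup ↥(P : Subgroup G) :=
    (Subgroup.centralizer ({t} : Set G)).subgroupOf (P : Subgroup G) with hC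
  have hsub : fixedBy (Sylow 3 G) t ⊆
      insert P ((fun x : ↥(P : Subgroup G) => (x : G) • Q) '' (C : Set ↥(P : Subgroup G))) := by
    intro R hR
    have htR : t • R = R := hR
    by_cases hRP : R = P
    · exact Set.mem_insert_iff.2 (Or.inl hRP)
    · refine Set.mem_insert_iff.2 (Or.inr ?_)
      obtain ⟨x, hx, hxQ⟩ := exists_smul_eq_of_ne h P Q hPQ R hRP
      have htx : t * x * t⁻¹ ∈ (P : Subgroup G) := by
        have hn : t ∈ Subgroup.normalizer ((P : Subgroup G) : Set G) :=
          Sylow.smul_eq_iff_mem_normalizer.1 htP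
        exact (Subgroup.mem_normalizer_iff.1 hn x).1 hx
      have h1 : (t * x * t⁻¹) • Q = x • Q := by
        have h2 : t • (x • Q) = x • Q := by rw [hxQ]; exact htR
        have h3 : (t * x * t⁻¹) • Q = t • (x • (t⁻¹ • Q)) := by
          rw [mul_smul, mul_smul]
        have h4 : t⁻¹ • Q = Q := by
          have := congrArg (fun S => t⁻¹ • S) htQ
          simp only [inv_smul_smul] at this
          exact this.symm
        rw [h3, h4, h2]
      have h5 : (x⁻¹ * (t * x * t⁻¹)) • Q = Q := by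
        rw [mul_smul, h1, inv_smul_smul]
      have h6 := eq_one_of_mem_of_smul_eq h P Q hPQ (mul_mem (inv_mem hx) htx) h5
      have h7 : t * x * t⁻¹ = x := (inv_mul_eq_one.1 h6).symm
      refine ⟨⟨x, hx⟩, ?_, hxQ⟩
      show (⟨x, hx⟩ : ↥(P : Subgroup G)) ∈ C
      rw [hC, Subgroup.mem_subgroupOf, Subgroup.mem_centralizer_singleton_iff]
      show x * t = t * x
      calc x * t = (t * x * t⁻¹) * t := by rw [h7]
        _ = t * x := by group
  have h1 : Nat.card (fixedBy (Sylow 3 G) t) = (fixedBy (Sylow 3 G) t).ncard :=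
    Nat.card_coe_set_eq _
  have h2 : Nat.card ↥C = (C : Set ↥(P : Subgroup G)).ncard := Nat.card_coe_set_eq _
  rw [h1, h2]
  calc (fixedBy (Sylow 3 G) t).ncard
      ≤ (insert P ((fun x : ↥(P : Subgroup G) => (x : G) • Q) ''
          (C : Set ↥(P : Subgroup G)))).ncard := Set.ncard_le_ncard hsub (Set.toFinite _)
    _ ≤ ((fun x : ↥(P : Subgroup G) => (x : G) • Q) '' (C : Set ↥(P : Subgroup G))).ncard + 1 :=
        Set.ncard_insert_le _ _
    _ ≤ (C : Set ↥(P : Subgroup G)).ncard + 1 :=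
        Nat.add_le_add_right (Set.ncard_image_le (Set.toFinite _)) 1

/-- an element of the two-point stabiliser with `t ^ 2 = 1` fixing a third point is trivial -/
theorem eq_one_of_sq_eq_one (t : G) (htP : t • P = P) (htQ : t • Q = Q) (ht2 : t ^ 2 = 1)
    (R : Sylow 3 G) (hRP : R ≠ P) (hRQ : R ≠ Q) (htR : t • R = R) : t = 1 := by
  have hne := ne_of_inf_eq_bot h P Q hPQ
  obtain ⟨k, hk⟩ := SylowPerm.card_fixedBy_involution 3 (G := G) (by rw [h]; norm_num) t ht2
  rw [card_sylow_three h] at hk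
  have h3 : 3 ≤ Nat.card (fixedBy (Sylow 3 G) t) := by
    have hsub : ({P, Q, R} : Set (Sylow 3 G)) ⊆ fixedBy (Sylow 3 G) t := by
      intro S hS
      rcases hS with rfl | rfl | rfl
      · exact htP
      · exact htQ
      · exact htR
    have hc : ({P, Q, R} : Set (Sylow 3 G)).ncard = 3 := by
      rw [Set.ncard_eq_three]
      exact ⟨P, Q, R, hne, hRP.symm, hRQ.symm, rfl⟩
    rw [Nat.card_coe_set_eq]
    calc 3 = ({P, Q, R} : Set (Sylow 3 G)).ncard := hc.symm
      _ ≤ _ := Set.ncard_le_ncard hsub (Set.toFinite _)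
  have hle := card_fixedBy_le h P Q hPQ t htP htQ
  have hdvd : Nat.card ↥((Subgroup.centralizer ({t} : Set G)).subgroupOf (P : Subgroup G)) ∣ 9 := by
    have := Subgroup.card_subgroup_dvd_card
      ((Subgroup.centralizer ({t} : Set G)).subgroupOf (P : Subgroup G))
    rwa [card_sylow3 h P] at this
  have hC9 : Nat.card ↥((Subgroup.centralizer ({t} : Set G)).subgroupOf (P : Subgroup G)) = 9 := by
    have hle9 : Nat.card ↥((Subgroup.centralizer ({t} : Set G)).subgroupOf (P : Subgroup G)) ≤ 9 :=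
      Nat.le_of_dvd (by norm_num) hdvd
    have h5 : 5 ≤ Nat.card ↥((Subgroup.centralizer ({t} : Set G)).subgroupOf (P : Subgroup G)) := by
      omega
    generalize Nat.card ↥((Subgroup.centralizer ({t} : Set G)).subgroupOf (P : Subgroup G)) = c at *
    interval_cases c <;> first | rfl | (exfalso; revert hdvd; decide)
  have htop : (Subgroup.centralizer ({t} : Set G)).subgroupOf (P : Subgroup G) = ⊤ :=
    Subgroup.eq_top_of_card_eq _ (by rw [hC9, card_sylow3 h P])
  have hcomm : ∀ x ∈ (P : Subgroup G), x * t = t * x := by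
    intro x hx
    have : (⟨x, hx⟩ : ↥(P : Subgroup G)) ∈
        (Subgroup.centralizer ({t} : Set G)).subgroupOf (P : Subgroup G) := by
      rw [htop]; trivial
    rw [Subgroup.mem_subgroupOf, Subgroup.mem_centralizer_singleton_iff] at this
    exact this
  apply SylowPerm.eq_one_of_forall_smul 3 (by rw [card_sylow_three h]; norm_num) t
  intro S
  by_cases hSP : S = P
  · rw [hSP]; exact htP
  · obtain ⟨x, hx, hxQ⟩ := exists_smul_eq_of_ne h P Q hPQ S hSP
    rw [← hxQ, ← mul_smul, ← hcomm x hx, mul_smul, htQ]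

/-- three-point stabilisers are trivial -/
theorem eq_one_of_three_fixed (g : G) (hgP : g • P = P) (hgQ : g • Q = Q)
    (R : Sylow 3 G) (hRP : R ≠ P) (hRQ : R ≠ Q) (hgR : g • R = R) : g = 1 := by
  have hgT : g ∈ stabilizer G P ⊓ stabilizer G Q :=
    Subgroup.mem_inf.2 ⟨MulAction.mem_stabilizer_iff.2 hgP, MulAction.mem_stabilizer_iff.2 hgQ⟩
  have h4 : g ^ 4 = 1 := by
    have := pow_card_eq_one' (G := ↥(stabilizer G P ⊓ stabilizer G Q)) (x := ⟨g, hgT⟩)
    rw [card_two_point h P Q hPQ] at this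
    exact congrArg Subtype.val this
  have hpow : ∀ (S : Sylow 3 G), g • S = S → (g ^ 2) • S = S := by
    intro S hS
    rw [pow_two, mul_smul, hS, hS]
  have hg2 : g ^ 2 = 1 := by
    apply eq_one_of_sq_eq_one h P Q hPQ (g ^ 2) (hpow P hgP) (hpow Q hgQ) _ R hRP hRQ (hpow R hgR)
    rw [← pow_mul]; exact h4
  exact eq_one_of_sq_eq_one h P Q hPQ g hgP hgQ hg2 R hRP hRQ hgR

end Fix

/-- the action on the ten Sylow `3`-subgroups is a Zassenhaus group -/
theorem isZassenhaus (h : Nat.card G = 360) (P Q : Sylow 3 G)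
    (hPQ : (P : Subgroup G) ⊓ (Q : Subgroup G) = ⊥) :
    Cfsg.IsZassenhausGroup G (Sylow 3 G) := by
  have hne := ne_of_inf_eq_bot h P Q hPQ
  have hn1 : Nat.card (Sylow 3 G) ≠ 1 := by rw [card_sylow_three h]; norm_num
  refine ⟨⟨?_⟩, ?_, ?_, ?_, ?_⟩
  · intro g k hgk
    have h1 : k⁻¹ * g = 1 := SylowPerm.eq_one_of_forall_smul 3 hn1 _
      (fun S => by rw [mul_smul, hgk S, inv_smul_smul])
    exact (inv_mul_eq_one.1 h1).symm
  · rw [MulAction.is_two_pretransitive_iff]
    intro a b c d hab hcd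
    obtain ⟨g₁, h1, h2⟩ := exists_smul_pair h P Q hPQ a b hab
    obtain ⟨g₂, h3, h4⟩ := exists_smul_pair h P Q hPQ c d hcd
    refine ⟨g₂⁻¹ * g₁, ?_, ?_⟩
    · rw [mul_smul, h1, ← h3, inv_smul_smul]
    · rw [mul_smul, h2, ← h4, inv_smul_smul]
  · intro g a b c hab hbc hac hga hgb hgc
    obtain ⟨k, hk1, hk2⟩ := exists_smul_pair h P Q hPQ a b hab
    have hfix : ∀ S : Sylow 3 G, g • S = S → (k * g * k⁻¹) • (k • S) = k • S := by
      intro S hS
      rw [mul_smul, mul_smul, inv_smul_smul, hS]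
    have h1 : k * g * k⁻¹ = 1 := by
      apply eq_one_of_three_fixed h P Q hPQ (k * g * k⁻¹) _ _ (k • c) _ _ (hfix c hgc)
      · rw [← hk1]; exact hfix a hga
      · rw [← hk2]; exact hfix b hgb
      · rw [← hk1]
        intro hc
        exact hac ((MulAction.injective k) hc).symm
      · rw [← hk2]
        intro hc
        exact hbc ((MulAction.injective k) hc).symm
    have h2 : g = k⁻¹ * (k * g * k⁻¹) * k := by group
    rw [h2, h1]; group
  · have hT := card_two_point h P Q hPQ
    have hnb : stabilizer G P ⊓ stabilizer G Q ≠ ⊥ := by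
      intro hb
      rw [hb] at hT
      simp at hT
    obtain ⟨⟨g, hg⟩, hg0⟩ := (Subgroup.ne_bot_iff_exists_ne_one).1 hnb
    have hg1 : g ≠ 1 := fun h1 => hg0 (Subtype.ext h1)
    exact ⟨g, hg1, P, Q, hne, MulAction.mem_stabilizer_iff.1 (Subgroup.mem_inf.1 hg).1,
      MulAction.mem_stabilizer_iff.1 (Subgroup.mem_inf.1 hg).2⟩
  · intro N hN htr
    rcases hN.eq_bot_or_eq_top with rfl | rfl
    · exfalso
      obtain ⟨n, hn⟩ := MulAction.exists_smul_eq (↥(⊥ : Subgroup G)) P Q
      have hn1 : (n : G) = 1 := Subgroup.mem_bot.1 n.2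
      have : (n : G) • P = Q := hn
      rw [hn1, one_smul] at this
      exact hne this
    · refine ⟨P, ?_⟩
      intro hb
      have hP1 : (P : Subgroup G) ≠ ⊥ := by
        intro hP1
        have := card_sylow3 h P
        rw [hP1] at this
        simp at this
      obtain ⟨⟨x, hx⟩, hx0⟩ := (Subgroup.ne_bot_iff_exists_ne_one).1 hP1
      have hx1 : x ≠ 1 := fun h1 => hx0 (Subtype.ext h1)
      have hmem : (⟨x, Subgroup.mem_top x⟩ : ↥(⊤ : Subgroup G)) ∈
          stabilizer (↥(⊤ : Subgroup G)) P := by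
        rw [MulAction.mem_stabilizer_iff]
        exact smul_self_of_mem P hx
      rw [hb, Subgroup.mem_bot] at hmem
      exact hx1 (congrArg Subtype.val hmem)

/-- a simple group of order `360` is isomorphic to the alternating group of degree `6` -/
theorem iso_alt6 (h : Nat.card G = 360) : Nonempty (G ≃* alternatingGroup (Fin 6)) := by
  classical
  have hab : ∀ P : Sylow 3 G, IsMulCommutative ↥(P : Subgroup G) := fun P =>
    IsPGroup.isMulCommutative_of_card_eq_prime_sq (p := 3) (by rw [card_sylow3 h P]; norm_num)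
  obtain ⟨P, Q, hPQ⟩ := Cfsg.Agent.S1009.result (G := G) 3 hab
  have hcore : (⨅ R : Sylow 3 G, (R : Subgroup G)) = ⊥ := by
    have hn : (⨅ R : Sylow 3 G, (R : Subgroup G)).Normal := by
      constructor
      intro n hn g
      rw [Subgroup.mem_iInf] at hn ⊢
      intro R
      have := (SylowPerm.mem_smul_iff 3 g⁻¹ n R).1 (hn (g⁻¹ • R))
      simpa using this
    rcases hn.eq_bot_or_eq_top with h1 | h1
    · exact h1
    · exfalso
      have hle : (⨅ R : Sylow 3 G, (R : Subgroup G)) ≤ (P : Subgroup G) := iInf_le _ P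
      rw [h1] at hle
      have hP : (P : Subgroup G) = ⊤ := top_le_iff.1 hle
      have := card_sylow3 h P
      rw [hP, Subgroup.card_top, h] at this
      omega
  rw [hcore] at hPQ
  have : Fintype (Sylow 3 G) := Fintype.ofFinite _
  have hZ := isZassenhaus h P Q hPQ
  have hT := card_two_point h P Q hPQ
  have hΩ : Fintype.card (Sylow 3 G) = 10 := by
    rw [← Nat.card_eq_fintype_card, card_sylow_three h]
  obtain ⟨p, f, K, _, _, hp, hp2, hK, hΩ', ⟨e⟩⟩ :=
    Cfsg.Agent.S0742.result hZ (ne_of_inf_eq_bot h P Q hPQ) (by rw [hT]; decide)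
      (by rw [hT, hΩ])
  have hK9 : Fintype.card K = 9 := by omega
  obtain ⟨e'⟩ := Cfsg.Agent.Lib.Helper07.psl_two_nine_equiv_alt hK9
  exact ⟨e.trans e'⟩

end Cfsg.Agent.Lib.Helper31.Order360
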