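import Mathlib
import Cfsg.Prelude.Def_Local
import Cfsg.Prelude.Def_OddOrderLocal
import Cfsg.Agent.S1324
import Cfsg.Agent.Lib.Helper31.KeyLemma
import Cfsg.Agent.Lib.Helper31.TransRank

set_option autoImplicit false

/-! Thompson transitivity when the `p`-local subgroups are `p`-constrained
(Gorenstein, *Finite Groups*, Theorem 8.5.4), library part. -/

namespace Cfsg.Agent.Lib.Helper31

open scoped Pointwise commutatorElement
open Cfsg

/-! ### Small facts -/

theorem coprime_card_of_isPGroup_ne {G : Type*} [Group G] [Finite G] (p q : ℕ) [hp : Fact p.Prime]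
    [hq : Fact q.Prime] (hqp : q ≠ p) (X : Subgroup G) (hX : IsPGroup q X) :
    (Nat.card X).Coprime p := by
  obtain ⟨k, hk⟩ := IsPGroup.iff_card.1 hX
  rw [hk]
  exact Nat.Coprime.pow_left k ((Nat.coprime_primes hq.out hp.out).2 hqp)

/-- If `H` normalizes `N` then `|H ⊔ N|` divides `|H| * |N|` (after helper71). -/
theorem card_sup_dvd_of_le_normalizer' {G : Type*} [Group G] (H N : Subgroup G)
    (hLE : H ≤ Subgroup.normalizer (N : Set G)) :
    Nat.card (H ⊔ N : Subgroup G) ∣ Nat.card H * Nat.card N := by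
  have h1 : N.relIndex H = N.relIndex (H ⊔ N) := by
    have := Subgroup.normal_subgroupOf_of_le_normalizer hLE
    have := Subgroup.normal_subgroupOf_sup_of_le_normalizer hLE
    unfold Subgroup.relIndex Subgroup.index
    exact Nat.card_congr (QuotientGroup.quotientInfEquivProdNormalizerQuotient H N hLE).toEquiv
  have h2 : Nat.card N * N.relIndex (H ⊔ N) = Nat.card (H ⊔ N : Subgroup G) := by
    have := Subgroup.relIndex_mul_relIndex ⊥ N (H ⊔ N) bot_le le_sup_right
    rwa [Subgroup.relIndex_bot_left, Subgroup.relIndex_bot_left] at this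
  rw [← h2, ← h1, mul_comm]
  exact Nat.mul_dvd_mul (Subgroup.relIndex_dvd_card N H) dvd_rfl

theorem mem_normalizer_zpowers_of_commute {G : Type*} [Group G] {x a : G} (h : x * a = a * x) :
    x ∈ Subgroup.normalizer ((Subgroup.zpowers a : Subgroup G) : Set G) := by
  apply Subgroup.centralizer_le_normalizer
  rw [Subgroup.mem_centralizer_iff]
  intro y hy
  obtain ⟨k, rfl⟩ := Subgroup.mem_zpowers_iff.1 hy
  exact ((show Commute a x from h.symm).zpow_left k)

theorem pPrimeCore_le_piCore (p : ℕ) (X : Type*) [Group X] [Finite X] :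
    pPrimeCore p X ≤ piCore (primesNotDvd p) X := by
  apply le_sSup
  refine ⟨?_, forall_prime_mem_primesNotDvd_iff.2
    (Cfsg.Agent.Lib.Helper40.pPrimeCore_card_coprime' p X)⟩
  have := Cfsg.Agent.Lib.Helper40.pPrimeCore_characteristic p X
  infer_instance

/-- A subgroup normalizes the image of a normal subgroup of itself. -/
theorem le_normalizer_map_subtype {G : Type*} [Group G] (X : Subgroup G) (K : Subgroup X)
    [hK : K.Normal] : X ≤ Subgroup.normalizer ((K.map X.subtype : Subgroup G) : Set G) := by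
  have h := Subgroup.le_normalizer_map (H := K) X.subtype
  rw [Subgroup.normalizer_eq_top_iff.2 hK, ← MonoidHom.range_eq_map,
    Subgroup.range_subtype] at h
  exact h

/-! ### The structure of `C_G(E)` -/

/-- `D = O_{p'}(C_G(E))` as a subgroup of `G`. -/
abbrev DD {G : Type*} [Group G] (p : ℕ) (E : Subgroup G) : Subgroup G :=
  piCoreOf (primesNotDvd p) (Subgroup.centralizer (E : Set G))

theorem DD_le_centralizer {G : Type*} [Group G] (p : ℕ) (E : Subgroup G) :
    DD p E ≤ Subgroup.centralizer (E : Set G) := piCoreOf_le _ _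

/-- If the abelian `p`-group `E` contains all `p`-elements of `C_G(E)`, then every `p'`-subgroup
of `C_G(E)` lies in `O_{p'}(C_G(E))`. -/
theorem le_DD_of_coprime {G : Type*} [Group G] [Finite G] (p : ℕ) [Fact p.Prime] (E : Subgroup G)
    (hEp : IsPGroup p E)
    (hEfull : ∀ x ∈ Subgroup.centralizer (E : Set G), IsPGroup p (Subgroup.zpowers x) → x ∈ E)
    (Y : Subgroup G) (hYC : Y ≤ Subgroup.centralizer (E : Set G)) (hY : (Nat.card Y).Coprime p) :
    Y ≤ DD p E := by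
  unfold DD
  obtain ⟨C, hCdef⟩ : ∃ C, C = Subgroup.centralizer (E : Set G) := ⟨_, rfl⟩
  rw [← hCdef] at hYC ⊢
  have hE'p : IsPGroup p (E.subgroupOf C) :=
    hEp.comap_of_injective C.subtype C.subtype_injective
  obtain ⟨T, hT⟩ := hE'p.exists_le_sylow
  have hTE : ∀ x : C, x ∈ (T : Subgroup C) → (x : G) ∈ E := by
    intro x hx
    apply hEfull x.1 (hCdef ▸ x.2)
    have h1 : IsPGroup p (Subgroup.zpowers x) :=
      T.isPGroup'.to_le (by rw [Subgroup.zpowers_le]; exact hx)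
    have h2 := h1.map C.subtype
    rw [MonoidHom.map_zpowers] at h2
    exact h2
  have hTcen : (T : Subgroup C) ≤ Subgroup.center C := by
    intro x hx
    rw [Subgroup.mem_center_iff]
    intro c
    apply Subtype.ext
    have h1 : (c : G) ∈ Subgroup.centralizer (E : Set G) := hCdef ▸ c.2
    exact (Subgroup.mem_centralizer_iff.1 h1 x.1 (hTE x hx)).symm
  have htop := Cfsg.Agent.Lib.Helper40.pPrimeCore_sup_central_sylow' p T hTcen
  have hDn : (pPrimeCore p C).Normal := by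
    have := Cfsg.Agent.Lib.Helper40.pPrimeCore_characteristic p C
    infer_instance
  have hY'card : (Nat.card (Y.subgroupOf C)).Coprime p := by
    have : Nat.card (Y.subgroupOf C) = Nat.card Y :=
      Nat.card_congr (Subgroup.subgroupOfEquivOfLe hYC).toEquiv
    rw [this]; exact hY
  have hsupc : (Nat.card (Y.subgroupOf C ⊔ pPrimeCore p C : Subgroup C)).Coprime p :=
    Cfsg.Agent.Lib.Helper40.card_sup_coprime' p _ _ hY'card
      (Cfsg.Agent.Lib.Helper40.pPrimeCore_card_coprime' p C)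
  have hdisj : (T : Subgroup C) ⊓ (Y.subgroupOf C ⊔ pPrimeCore p C) = ⊥ :=
    Cfsg.Agent.Lib.Helper40.isPGroup_inf_coprime_eq_bot _ _ T.isPGroup' hsupc
  have hY' : Y.subgroupOf C ≤ pPrimeCore p C := by
    intro y hy
    have h1 : y ∈ (((T : Subgroup C) ⊔ pPrimeCore p C : Subgroup C) : Set C) := by
      rw [htop]; exact Subgroup.mem_top y
    rw [Subgroup.mul_normal] at h1
    obtain ⟨t, ht, d, hd, rfl⟩ := Set.mem_mul.1 h1
    have ht2 : t ∈ Y.subgroupOf C ⊔ pPrimeCore p C := by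
      have : t = t * d * d⁻¹ := by group
      rw [this]
      exact Subgroup.mul_mem _ (Subgroup.mem_sup_left hy)
        (Subgroup.inv_mem _ (Subgroup.mem_sup_right hd))
    have ht3 : t ∈ (T : Subgroup C) ⊓ (Y.subgroupOf C ⊔ pPrimeCore p C) := ⟨ht, ht2⟩
    rw [hdisj, Subgroup.mem_bot] at ht3
    rw [ht3, one_mul]
    exact hd
  have h4 := Subgroup.map_mono (f := C.subtype) (hY'.trans (pPrimeCore_le_piCore p C))
  rwa [Subgroup.map_subgroupOf_eq_of_le hYC] at h4

/-! ### The local `p'`-cores `θ(a)` -/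

/-- For `a ∈ E#`, the `E`-invariant `p'`-subgroups of `N_G(⟨a⟩)` all lie in one of them. -/
theorem exists_theta {G : Type*} [Group G] [Finite G] (p : ℕ) [Fact p.Prime]
    (hloc : ∀ T : Subgroup G, IsPGroup p T → T ≠ ⊥ →
      Cfsg.IsPConstrained p ↥(Subgroup.normalizer (T : Set G)))
    (h2 : p = 2 → ∀ S : Sylow p G, Group.IsNilpotent (S : Subgroup G) ∧
      Group.nilpotencyClass (S : Subgroup G) ≤ 2)
    (E : Subgroup G) (hEp : IsPGroup p E) (hEc : E ≤ Subgroup.centralizer (E : Set G))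
    (hEfull : ∀ x ∈ Subgroup.centralizer (E : Set G), IsPGroup p (Subgroup.zpowers x) → x ∈ E)
    (a : G) (ha : a ∈ E) (ha1 : a ≠ 1) :
    ∃ Θ : Subgroup G, (Nat.card Θ).Coprime p ∧ E ≤ Subgroup.normalizer (Θ : Set G) ∧
      ∀ Y : Subgroup G, Y ≤ Subgroup.normalizer ((Subgroup.zpowers a : Subgroup G) : Set G) →
        (Nat.card Y).Coprime p → E ≤ Subgroup.normalizer (Y : Set G) → Y ≤ Θ := by
  have hap : IsPGroup p (Subgroup.zpowers a) :=
    hEp.to_le (by rw [Subgroup.zpowers_le]; exact ha)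
  have hane : (Subgroup.zpowers a : Subgroup G) ≠ ⊥ := by
    intro h
    rw [Subgroup.zpowers_eq_bot] at h
    exact ha1 h
  have hcon := hloc _ hap hane
  obtain ⟨H, hHdef⟩ : ∃ H, H = Subgroup.normalizer ((Subgroup.zpowers a : Subgroup G) : Set G) :=
    ⟨_, rfl⟩
  rw [← hHdef] at hcon ⊢
  have hEH : E ≤ H := by
    intro e he
    rw [hHdef]
    exact mem_normalizer_zpowers_of_commute (Subgroup.mem_centralizer_iff.1 (hEc ha) e he)
  have hNn : (pPrimeCore p H).Normal := by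
    have := Cfsg.Agent.Lib.Helper40.pPrimeCore_characteristic p H
    infer_instance
  refine ⟨(pPrimeCore p H).map H.subtype, ?_, ?_, ?_⟩
  · rw [Subgroup.card_map_of_injective H.subtype_injective]
    exact Cfsg.Agent.Lib.Helper40.pPrimeCore_card_coprime' p H
  · exact hEH.trans (le_normalizer_map_subtype H _)
  · intro Y hYH hYc hEY
    have hA' : IsPGroup p (E.subgroupOf H) :=
      hEp.comap_of_injective H.subtype H.subtype_injective
    have hY'c : (Nat.card (Y.subgroupOf H)).Coprime p := by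
      have : Nat.card (Y.subgroupOf H) = Nat.card Y :=
        Nat.card_congr (Subgroup.subgroupOfEquivOfLe hYH).toEquiv
      rw [this]; exact hYc
    have hfull' : ∀ x ∈ Subgroup.centralizer ((E.subgroupOf H : Subgroup H) : Set H),
        IsPGroup p (Subgroup.zpowers x) → x ∈ E.subgroupOf H := by
      intro x hx hxp
      rw [Subgroup.mem_subgroupOf]
      apply hEfull
      · rw [Subgroup.mem_centralizer_iff]
        intro e he
        have h1 := Subgroup.mem_centralizer_iff.1 hx ⟨e, hEH he⟩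
          (by rw [SetLike.mem_coe, Subgroup.mem_subgroupOf]; exact he)
        exact congrArg Subtype.val h1
      · have h2 := hxp.map H.subtype
        rw [MonoidHom.map_zpowers] at h2
        exact h2
    have h2' : p = 2 → ∀ S : Subgroup H, IsPGroup p S → ∀ x ∈ S, ∀ y ∈ S, ∀ z ∈ S,
        ⁅⁅x, y⁆, z⁆ = 1 := by
      intro hp2 S hS x hx y hy z hz
      obtain ⟨P, hP⟩ := (hS.map H.subtype).exists_le_sylow
      obtain ⟨hnil, hcl⟩ := h2 hp2 P
      have h3 : (P : Subgroup G).lowerCentralSeries 2 = ⊥ :=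
        Subgroup.lowerCentralSeries_eq_bot_of_nilpotencyClass_le hcl
      have hxP : (x : G) ∈ (P : Subgroup G) := hP (Subgroup.mem_map_of_mem _ hx)
      have hyP : (y : G) ∈ (P : Subgroup G) := hP (Subgroup.mem_map_of_mem _ hy)
      have hzP : (z : G) ∈ (P : Subgroup G) := hP (Subgroup.mem_map_of_mem _ hz)
      have h4 : ⁅⁅(x : G), (y : G)⁆, (z : G)⁆ ∈ (P : Subgroup G).lowerCentralSeries 2 := by
        rw [show (2 : ℕ) = 1 + 1 from rfl, Subgroup.lowerCentralSeries_succ,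
          show (1 : ℕ) = 0 + 1 from rfl, Subgroup.lowerCentralSeries_succ,
          Subgroup.lowerCentralSeries_zero]
        exact Subgroup.commutator_mem_commutator (Subgroup.commutator_mem_commutator hxP hyP) hzP
      rw [h3, Subgroup.mem_bot] at h4
      apply Subtype.ext
      simpa [commutatorElement_def] using h4
    have hEY' : E.subgroupOf H ≤ Subgroup.normalizer ((Y.subgroupOf H : Subgroup H) : Set H) := by
      intro e he
      rw [Subgroup.mem_subgroupOf] at he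
      rw [Subgroup.mem_normalizer_iff]
      intro y
      rw [Subgroup.mem_subgroupOf, Subgroup.mem_subgroupOf]
      have := Subgroup.mem_normalizer_iff.1 (hEY he) (y : G)
      simpa using this
    have hkey := key_lemma p hcon (E.subgroupOf H) hA' hfull' h2' (Y.subgroupOf H) hY'c hEY'
    have h4 := Subgroup.map_mono (f := H.subtype) hkey
    rwa [Subgroup.map_subgroupOf_eq_of_le hYH] at h4


/-! ### The transitivity step -/

/-- Given `a ∈ E#` with its `θ(a)`, an `E`-invariant `q`-group `R` and two `E`-invariant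
`q`-subgroups `X`, `X'` of `N_G(⟨a⟩) ∩ N_G(R)`: `R X` and `R X'` lie in `Q₀`, `c Q₀ c⁻¹`
for a maximal `E`-invariant `q`-subgroup `Q₀` and some `c ∈ O_{p'}(C_G(E))`. -/
theorem pcon_step {G : Type*} [Group G] [Finite G] (p : ℕ) [Fact p.Prime] (E : Subgroup G)
    (hEp : IsPGroup p E)
    (hEfull : ∀ x ∈ Subgroup.centralizer (E : Set G), IsPGroup p (Subgroup.zpowers x) → x ∈ E)
    (q : ℕ) [Fact q.Prime] (hqp : q ≠ p) (a : G) (Θ : Subgroup G)
    (hΘc : (Nat.card Θ).Coprime p) (hEΘ : E ≤ Subgroup.normalizer (Θ : Set G))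
    (hΘ : ∀ Y : Subgroup G, Y ≤ Subgroup.normalizer ((Subgroup.zpowers a : Subgroup G) : Set G) →
        (Nat.card Y).Coprime p → E ≤ Subgroup.normalizer (Y : Set G) → Y ≤ Θ)
    (R X X' : Subgroup G) (hqR : IsPGroup q R) (hqX : IsPGroup q X) (hqX' : IsPGroup q X')
    (hER : E ≤ Subgroup.normalizer (R : Set G)) (hEX : E ≤ Subgroup.normalizer (X : Set G))
    (hEX' : E ≤ Subgroup.normalizer (X' : Set G))
    (hXa : X ≤ Subgroup.normalizer ((Subgroup.zpowers a : Subgroup G) : Set G))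
    (hX'a : X' ≤ Subgroup.normalizer ((Subgroup.zpowers a : Subgroup G) : Set G))
    (hXR : X ≤ Subgroup.normalizer (R : Set G)) (hX'R : X' ≤ Subgroup.normalizer (R : Set G)) :
    ∃ Q₀ ∈ maxInvSubgroups ⊤ E {q}, ∃ c ∈ DD p E,
      R ⊔ X ≤ Q₀ ∧ R ⊔ X' ≤ MulAut.conj c • Q₀ := by
  have hXΘ : X ≤ Θ := hΘ X hXa (coprime_card_of_isPGroup_ne p q hqp X hqX) hEX
  have hX'Θ : X' ≤ Θ := hΘ X' hX'a (coprime_card_of_isPGroup_ne p q hqp X' hqX') hEX'
  obtain ⟨M, hMdef⟩ : ∃ M, M = Θ ⊓ Subgroup.normalizer (R : Set G) := ⟨_, rfl⟩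
  have hMR : M ≤ Subgroup.normalizer (R : Set G) := by rw [hMdef]; exact inf_le_right
  have hMc : (Nat.card M).Coprime p :=
    Nat.Coprime.coprime_dvd_left (Subgroup.card_dvd_of_le (by rw [hMdef]; exact inf_le_left)) hΘc
  have hEM : E ≤ Subgroup.normalizer (M : Set G) := by
    rw [hMdef]
    exact le_normalizer_inf' hEΘ (hER.trans Subgroup.le_normalizer)
  obtain ⟨W, hWdef⟩ : ∃ W, W = M ⊔ R := ⟨_, rfl⟩
  have hWc : (Nat.card W).Coprime p := by
    rw [hWdef]
    refine Nat.Coprime.coprime_dvd_left (card_sup_dvd_of_le_normalizer' M R hMR) ?_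
    exact Nat.Coprime.mul_left hMc (coprime_card_of_isPGroup_ne p q hqp R hqR)
  have hEW : E ≤ Subgroup.normalizer (W : Set G) := by
    rw [hWdef]; exact le_normalizer_sup' hEM hER
  have hXM : X ≤ M := by rw [hMdef]; exact le_inf hXΘ hXR
  have hX'M : X' ≤ M := by rw [hMdef]; exact le_inf hX'Θ hX'R
  have hRXW : R ⊔ X ≤ W := by
    rw [hWdef]; exact sup_le le_sup_right (hXM.trans le_sup_left)
  have hRX'W : R ⊔ X' ≤ W := by
    rw [hWdef]; exact sup_le le_sup_right (hX'M.trans le_sup_left)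
  have hqRX : IsPGroup q (R ⊔ X : Subgroup G) := by
    rw [sup_comm]; exact IsPGroup.to_sup_of_normal_right' hqX hqR hXR
  have hqRX' : IsPGroup q (R ⊔ X' : Subgroup G) := by
    rw [sup_comm]; exact IsPGroup.to_sup_of_normal_right' hqX' hqR hX'R
  have hcop : (Nat.card E).Coprime (Nat.card W) := by
    obtain ⟨k, hk⟩ := IsPGroup.iff_card.1 hEp
    rw [hk]
    exact (Nat.Coprime.pow_right k hWc).symm
  have hEnil : Group.IsNilpotent E := hEp.isNilpotent
  have hEsolv : Group.IsSolvable E := inferInstance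
  obtain ⟨S, c, hSW, hqS, hES, hRS, hcW, hcC, hR'S⟩ :=
    exists_inv_sylow_pair E W hEW hcop (Or.inl hEsolv) q (R ⊔ X) (R ⊔ X') hRXW hRX'W hqRX hqRX'
      (le_normalizer_sup' hER hEX) (le_normalizer_sup' hER hEX')
  have hcD : c ∈ DD p E := by
    refine le_DD_of_coprime p E hEp hEfull (W ⊓ Subgroup.centralizer (E : Set G)) inf_le_right ?_
      (Subgroup.mem_inf.2 ⟨hcW, hcC⟩)
    exact Nat.Coprime.coprime_dvd_left (Subgroup.card_dvd_of_le inf_le_left) hWc
  obtain ⟨Q₀, hQ₀, hSQ₀⟩ := exists_maxInv_ge E {q} S (mem_invSubgroups_of_isPGroup q E S hqS hES)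
  refine ⟨Q₀, hQ₀, c, hcD, hRS.trans hSQ₀, hR'S.trans ?_⟩
  exact Subgroup.pointwise_smul_le_pointwise_smul_iff.2 hSQ₀

/-- For a `q`-group `Q` normalized by the elementary abelian `p`-group `E₀` of order at least
`p²`, and an `E₀`-invariant proper subgroup `R` of `Q`, some hyperplane `B` of `E₀` has
`C_{N_Q(R)}(B) ≰ R`. -/
theorem exists_hyperplane {G : Type*} [Group G] [Finite G] (p : ℕ) [Fact p.Prime]
    (E₀ : Subgroup G) (hE₀ : IsElementaryAbelian p E₀) (hcard : p ^ 2 ≤ Nat.card E₀)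
    (q : ℕ) [Fact q.Prime] (hqp : q ≠ p) (Q R : Subgroup G) (hqQ : IsPGroup q Q) (hRQ : R < Q)
    (hEQ : E₀ ≤ Subgroup.normalizer (Q : Set G)) (hER : E₀ ≤ Subgroup.normalizer (R : Set G)) :
    ∃ B : Subgroup G, B ≤ E₀ ∧ B.relIndex E₀ ≤ p ∧
      ¬ (Q ⊓ Subgroup.normalizer (R : Set G) ⊓ Subgroup.centralizer ((B : Subgroup G) : Set G) ≤ R) := by
  obtain ⟨y, hyQ, hyR, hyN⟩ := Cfsg.Agent.S0046.exists_normalizing Q R hqQ.isNilpotent hRQ
  obtain ⟨Rx, hRxdef⟩ : ∃ Rx, Rx = Q ⊓ Subgroup.normalizer (R : Set G) := ⟨_, rfl⟩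
  have hRxQ : Rx ≤ Q := by rw [hRxdef]; exact inf_le_left
  have hpRx : ¬ p ∣ Nat.card Rx := by
    intro h
    have h1 := coprime_card_of_isPGroup_ne p q hqp Rx (hqQ.to_le hRxQ)
    have h2 := Nat.dvd_gcd h dvd_rfl
    rw [h1.gcd_eq_one] at h2
    exact (Fact.out : p.Prime).one_lt.ne' (Nat.dvd_one.1 h2)
  have hERx : E₀ ≤ Subgroup.normalizer (Rx : Set G) := by
    rw [hRxdef]; exact le_normalizer_inf' hEQ (hER.trans Subgroup.le_normalizer)
  have hgen := Cfsg.Agent.S1324.result p E₀ Rx hE₀ hcard hpRx hERx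
  by_contra hcon
  push Not at hcon
  apply hyR
  have hyRx : y ∈ Rx := by rw [hRxdef]; exact ⟨hyQ, hyN⟩
  rw [hgen] at hyRx
  refine (iSup_le ?_ : _ ≤ R) hyRx
  rintro ⟨B, hBE, hBidx⟩
  have := hcon B hBE hBidx
  rw [← hRxdef] at this
  exact this

/-- **Thompson transitivity in the `p`-constrained setting**: any two maximal `E`-invariant
`q`-subgroups are conjugate under `O_{p'}(C_G(E))`. -/
theorem pcon_conj {G : Type*} [Group G] [Finite G] (p : ℕ) [Fact p.Prime] (E : Subgroup G)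
    (hEp : IsPGroup p E) (hEc : E ≤ Subgroup.centralizer (E : Set G))
    (hEfull : ∀ x ∈ Subgroup.centralizer (E : Set G), IsPGroup p (Subgroup.zpowers x) → x ∈ E)
    (hΘ : ∀ a ∈ E, a ≠ 1 → ∃ Θ : Subgroup G, (Nat.card Θ).Coprime p ∧
      E ≤ Subgroup.normalizer (Θ : Set G) ∧
      ∀ Y : Subgroup G, Y ≤ Subgroup.normalizer ((Subgroup.zpowers a : Subgroup G) : Set G) →
        (Nat.card Y).Coprime p → E ≤ Subgroup.normalizer (Y : Set G) → Y ≤ Θ)
    (E₀ : Subgroup G) (hE₀E : E₀ ≤ E) (hE₀ : IsElementaryAbelian p E₀)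
    (hE₀card : p ^ 2 < Nat.card E₀) (q : ℕ) [Fact q.Prime] (hqp : q ≠ p) :
    ∀ (n : ℕ) (Q Q' : Subgroup G), Q ∈ maxInvSubgroups ⊤ E {q} → Q' ∈ maxInvSubgroups ⊤ E {q} →
      Nat.card G - Nat.card (Q ⊓ Q' : Subgroup G) = n →
      ∃ k ∈ DD p E, Q' = MulAut.conj k • Q := by
  intro n
  induction n using Nat.strong_induction_on with
  | _ n ih =>
  intro Q Q' hQ hQ' hn
  by_cases hQQ : Q = Q'
  · exact ⟨1, one_mem _, by rw [map_one, one_smul]; exact hQQ.symm⟩
  have hqQ : IsPGroup q Q := isPGroup_of_forall_prime q Q hQ.1.2.1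
  have hqQ' : IsPGroup q Q' := isPGroup_of_forall_prime q Q' hQ'.1.2.1
  obtain ⟨R, hRdef⟩ : ∃ R, R = Q ⊓ Q' := ⟨_, rfl⟩
  rw [← hRdef] at hn
  have hRleQ : R ≤ Q := by rw [hRdef]; exact inf_le_left
  have hRleQ' : R ≤ Q' := by rw [hRdef]; exact inf_le_right
  have hRQ : R < Q := by
    refine lt_of_le_of_ne hRleQ (fun h => hQQ ?_)
    have hle : Q ≤ Q' := by rw [← h]; exact hRleQ'
    exact (hQ.2 Q' hQ'.1 hle).symm
  have hRQ' : R < Q' := by
    refine lt_of_le_of_ne hRleQ' (fun h => hQQ ?_)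
    have hle : Q' ≤ Q := by rw [← h]; exact hRleQ
    exact hQ'.2 Q hQ.1 hle
  have hEQ : E ≤ Subgroup.normalizer (Q : Set G) := hQ.1.2.2
  have hEQ' : E ≤ Subgroup.normalizer (Q' : Set G) := hQ'.1.2.2
  have hER : E ≤ Subgroup.normalizer (R : Set G) := by
    rw [hRdef]; exact le_normalizer_inf' hEQ hEQ'
  have hqR : IsPGroup q R := hqQ.to_le hRleQ
  obtain ⟨B₁, hB₁E, hB₁i, hB₁c⟩ := exists_hyperplane p E₀ hE₀ hE₀card.le q hqp Q R hqQ hRQ
    (hE₀E.trans hEQ) (hE₀E.trans hER)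
  obtain ⟨B₂, hB₂E, hB₂i, hB₂c⟩ := exists_hyperplane p E₀ hE₀ hE₀card.le q hqp Q' R hqQ' hRQ'
    (hE₀E.trans hEQ') (hE₀E.trans hER)
  have hBB : B₁ ⊓ B₂ ≠ ⊥ := by
    intro h
    have h1 := Subgroup.relIndex_inf_le (H := B₁) (K := B₂) (L := E₀)
    rw [h, Subgroup.relIndex_bot_left] at h1
    have h2 : B₁.relIndex E₀ * B₂.relIndex E₀ ≤ p * p := Nat.mul_le_mul hB₁i hB₂i
    rw [sq] at hE₀card
    omega
  obtain ⟨a, haB, ha1⟩ := (Subgroup.ne_bot_iff_exists_ne_one).mp hBB |> fun ⟨x, hx⟩ =>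
    (⟨x.1, x.2, fun h => hx (Subtype.ext h)⟩ : ∃ a ∈ B₁ ⊓ B₂, a ≠ 1)
  have haB₁ : a ∈ B₁ := (Subgroup.mem_inf.1 haB).1
  have haB₂ : a ∈ B₂ := (Subgroup.mem_inf.1 haB).2
  have haE : a ∈ E := hE₀E (hB₁E haB₁)
  obtain ⟨Θ, hΘc, hEΘ, hΘY⟩ := hΘ a haE ha1
  -- the two subgroups `X`, `X'`
  obtain ⟨X, hXdef⟩ : ∃ X, X = Q ⊓ Subgroup.normalizer (R : Set G) ⊓
      Subgroup.centralizer ((B₁ : Subgroup G) : Set G) := ⟨_, rfl⟩
  obtain ⟨X', hX'def⟩ : ∃ X', X' = Q' ⊓ Subgroup.normalizer (R : Set G) ⊓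
      Subgroup.centralizer ((B₂ : Subgroup G) : Set G) := ⟨_, rfl⟩
  rw [← hXdef] at hB₁c
  rw [← hX'def] at hB₂c
  have hXQ : X ≤ Q := by rw [hXdef]; exact inf_le_left.trans inf_le_left
  have hX'Q' : X' ≤ Q' := by rw [hX'def]; exact inf_le_left.trans inf_le_left
  have hXR : X ≤ Subgroup.normalizer (R : Set G) := by
    rw [hXdef]; exact inf_le_left.trans inf_le_right
  have hX'R : X' ≤ Subgroup.normalizer (R : Set G) := by
    rw [hX'def]; exact inf_le_left.trans inf_le_right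
  have hEcB : ∀ B : Subgroup G, B ≤ E₀ →
      E ≤ Subgroup.normalizer ((Subgroup.centralizer ((B : Subgroup G) : Set G) : Subgroup G) : Set G) := by
    intro B hB
    apply le_normalizer_centralizer'
    exact le_normalizer_of_le_centralizer E B ((hB.trans hE₀E).trans hEc)
  have hEX : E ≤ Subgroup.normalizer (X : Set G) := by
    rw [hXdef]
    exact le_normalizer_inf' (le_normalizer_inf' hEQ (hER.trans Subgroup.le_normalizer))
      (hEcB B₁ hB₁E)
  have hEX' : E ≤ Subgroup.normalizer (X' : Set G) := by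
    rw [hX'def]
    exact le_normalizer_inf' (le_normalizer_inf' hEQ' (hER.trans Subgroup.le_normalizer))
      (hEcB B₂ hB₂E)
  have hXa : X ≤ Subgroup.normalizer ((Subgroup.zpowers a : Subgroup G) : Set G) := by
    intro x hx
    rw [hXdef] at hx
    exact mem_normalizer_zpowers_of_commute
      (Subgroup.mem_centralizer_iff.1 hx.2 a haB₁).symm
  have hX'a : X' ≤ Subgroup.normalizer ((Subgroup.zpowers a : Subgroup G) : Set G) := by
    intro x hx
    rw [hX'def] at hx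
    exact mem_normalizer_zpowers_of_commute
      (Subgroup.mem_centralizer_iff.1 hx.2 a haB₂).symm
  obtain ⟨Q₀, hQ₀, c, hc, hRQ₀, hR'Q₀⟩ := pcon_step p E hEp hEfull q hqp a Θ hΘc hEΘ hΘY R X X'
    hqR (hqQ.to_le hXQ) (hqQ'.to_le hX'Q') hER hEX hEX' hXa hX'a hXR hX'R
  -- `Q ∩ Q₀ > R`
  have h1 : R < Q ⊓ Q₀ := by
    refine lt_of_le_of_ne (le_inf hRleQ (le_sup_left.trans hRQ₀)) ?_
    intro heq
    apply hB₁c
    rw [heq]
    exact le_inf hXQ (le_sup_right.trans hRQ₀)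
  have hcard1 : Nat.card G - Nat.card (Q ⊓ Q₀ : Subgroup G) < n := by
    rw [← hn]
    have h3 := Cfsg.Agent.S0046.card_lt_of_lt h1
    have h4 := Subgroup.card_le_card_group (Q ⊓ Q₀)
    omega
  obtain ⟨k1, hk1, hQ₀eq⟩ := ih _ hcard1 Q Q₀ hQ hQ₀ rfl
  have hcC : c ∈ Subgroup.centralizer (E : Set G) := DD_le_centralizer p E hc
  have hQ₁ := conj_mem_maxInvSubgroups E {q} c hcC Q₀ hQ₀
  have h2 : R < (MulAut.conj c • Q₀) ⊓ Q' := by
    refine lt_of_le_of_ne (le_inf (le_sup_left.trans hR'Q₀) hRleQ') ?_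
    intro heq
    apply hB₂c
    rw [heq]
    exact le_inf (le_sup_right.trans hR'Q₀) hX'Q'
  have hcard2 : Nat.card G - Nat.card ((MulAut.conj c • Q₀) ⊓ Q' : Subgroup G) < n := by
    rw [← hn]
    have h3 := Cfsg.Agent.S0046.card_lt_of_lt h2
    have h4 := Subgroup.card_le_card_group ((MulAut.conj c • Q₀) ⊓ Q')
    omega
  obtain ⟨k2, hk2, hQ'eq⟩ := ih _ hcard2 (MulAut.conj c • Q₀) Q' hQ₁ hQ' rfl
  refine ⟨k2 * c * k1, mul_mem (mul_mem hk2 hc) hk1, ?_⟩
  rw [hQ'eq, hQ₀eq, Cfsg.Agent.Lib.Helper01.conj_smul_conj_smul,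
    Cfsg.Agent.Lib.Helper01.conj_smul_conj_smul, mul_assoc]

end Cfsg.Agent.Lib.Helper31
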