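import Mathlib
import Cfsg.Agent.Lib.Helper55.Basic
import Cfsg.Agent.Lib.Helper55.Uniq3
import Cfsg.Agent.Lib.Helper13.BG12B
import Cfsg.Agent.Lib.Helper26.BG1435P2
import Cfsg.Agent.Lib.Helper01.BG134CJ
import Cfsg.Agent.Lib.Helper15.BG1379V8
import Cfsg.Agent.Lib.Helper71.BG11a
import Cfsg.Agent.S1350
import Cfsg.Agent.S1417
import Cfsg.Agent.S1418
import Cfsg.Agent.S1432

/-!
# Pack K-1436 (architect helper71), leaf 143610 K-1436-T `tau2_eq_empty` (parallel hand helper31)

`τ₂(M) = ∅` when `κ(N) = ∅ = κ(M)` and some prime of `σ(N)` divides `|M|`.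
-/

set_option autoImplicit false
set_option linter.unusedVariables false
set_option linter.style.haveILetI false
set_option linter.unusedSectionVars false

namespace Cfsg.Agent.Lib.Helper31.BG1436

open Cfsg Subgroup Cfsg.Agent.Lib.Helper55

variable {G : Type*} [Group G] [Finite G]

/-- KEYSTONE 143610  K-1436-T. -/
theorem tau2_eq_empty (hG : IsMinSimpleOddOrder G) {M N : Subgroup G} (hM : IsCoatom M) (hN : IsCoatom N) {x : G}
    (hx : x ∈ sigmaCore M) (hx1 : x ≠ 1)
    (hnc : ∀ g : G, N.map (MulAut.conj g).toMonoidHom ≠ M) (hdisj : ∀ p : ℕ, p ∈ sigma N → p ∉ sigma M)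
    (hkN : kappa N = ∅) (hkM : kappa M = ∅)
    (hC : ∀ p : ℕ, p ∈ sigma N → p ∣ Nat.card M → ∀ a : G, orderOf a = p →
      ∃ g : G, a ∈ sigmaCore (N.map (MulAut.conj g).toMonoidHom) ∧
        centralizer ({a} : Set G) ≤ N.map (MulAut.conj g).toMonoidHom)
    (hF : ∀ p : ℕ, p ∈ sigma N → p ∣ Nat.card M → ∀ a ∈ M, orderOf a = p → ∀ y ∈ sigmaCore M, y ≠ 1 → a * y = y * a → False)
    (hR : ∀ p : ℕ, p ∈ sigma N → p ∣ Nat.card M → p ∉ tau2 M)
    {p : ℕ} (hp : p ∈ sigma N) (hpM : p ∣ Nat.card M) : tau2 M = ∅ := by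
  classical
  by_contra hne
  obtain ⟨r, hr⟩ := Set.nonempty_iff_ne_empty.mpr hne
  have hrp : r.Prime := hr.1
  haveI : Fact r.Prime := ⟨hrp⟩
  have hrσ : r ∉ sigma M := hr.2.1
  have hpp : p.Prime := hp.1
  haveI : Fact p.Prime := ⟨hpp⟩
  have hpσ : p ∉ sigma M := hdisj p hp
  have hHall : IsPiHallOf (sigma M) (sigmaCore M) M := (Cfsg.Agent.S1350.result hG M hM).1
  have hσM : sigmaCore M ≤ M := hHall.1
  -- an element `a` of order `p` of `M`
  obtain ⟨a', ha'⟩ := exists_prime_orderOf_dvd_card' (G := ↥M) p hpM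
  set a : G := (a' : G) with ha_def
  have haM : a ∈ M := a'.2
  have hao : orderOf a = p := by rw [ha_def, Subgroup.orderOf_coe]; exact ha'
  have ha1 : a ≠ 1 := by
    intro h
    rw [h, orderOf_one] at hao
    exact hpp.one_lt.ne hao
  have hKM : zpowers a ≤ M := (zpowers_le).mpr haM
  have hKcard : Nat.card (zpowers a) = p := by rw [Nat.card_zpowers, hao]
  -- a complement `E` containing `a`
  obtain ⟨E, hE, hKE⟩ := Cfsg.Agent.Lib.Helper13.BG12.exists_complIn_ge hG hM hHall hKM (by
    intro q hq hqd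
    rw [hKcard] at hqd
    have : q = p := (Nat.prime_dvd_prime_iff_eq hq hpp).mp hqd
    rw [this]; exact hpσ)
  have haE : a ∈ E := hKE (mem_zpowers a)
  obtain ⟨A, hAE, hAel, hAcard⟩ :=
    Cfsg.Agent.Lib.Helper13.BG12.exists_elemAb_sq_le_compl hG hM hHall hr hE
  have hAM : A ≤ M := hAE.trans hE.1
  have h18 := Cfsg.Agent.S1418.result hG M hM E hE r hr A ⟨hAE, hAel, hAcard⟩
  have hEA : E ≤ normalizer (A : Set G) := h18.1.1
  have h17 := Cfsg.Agent.S1417.result hG M hM r hr A ⟨hAM, hAel, hAcard⟩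
  have hCA : sigmaCore M ⊓ centralizer (A : Set G) = ⊥ := h17.2.2.2.1
  have hrM : r ∣ Nat.card M := by
    have h1 : Nat.card A ∣ Nat.card M := Subgroup.card_dvd_of_le hAM
    rw [hAcard] at h1
    exact (dvd_pow_self r (by norm_num)).trans h1
  have hrN : r ∉ sigma N := fun h => hR r h hrM hr
  haveI hAc : IsMulCommutative A := hAel.1
  by_cases hb : ∃ b ∈ A, b ≠ 1 ∧ b * a = a * b
  · -- (2)
    obtain ⟨b, hbA, hb1, hba⟩ := hb
    obtain ⟨g, hag, hCg⟩ := hC p hp hpM a hao
    have hN₁ : IsCoatom (cj g N) := isCoatom_cj g hN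
    have hbC : b ∈ centralizer ({a} : Set G) := by
      rw [mem_centralizer_iff]
      intro z hz
      rw [Set.mem_singleton_iff] at hz
      rw [hz]; exact hba.symm
    have hbN₁ : b ∈ cj g N := hCg hbC
    have hbo : orderOf b = r := by
      have hd : orderOf b ∣ r := orderOf_dvd_of_pow_eq_one (hAel.2 b hbA)
      rcases (Nat.dvd_prime hrp).mp hd with h1 | h1
      · exact absurd (orderOf_eq_one_iff.mp h1) hb1
      · exact h1
    have hrN₁ : r ∉ sigma (cj g N) := by
      rw [Cfsg.Agent.Lib.Helper01.BG134.mem_sigma_cj_iff]; exact hrN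
    have h32 := Cfsg.Agent.S1432.result hG (cj g N) hN₁ a hag ha1 b ⟨hbN₁, hbC⟩ hb1 (by
      intro q hq hqd
      rw [hbo] at hqd
      have : q = r := (Nat.prime_dvd_prime_iff_eq hq hrp).mp hqd
      rw [this]; exact hrN₁)
    rcases h32 with ⟨hκ, -⟩ | ⟨hτ, -, hCb, -⟩
    · have h1 : r ∈ kappa (cj g N) := hκ r hrp (by rw [hbo])
      have h2 : r ∈ kappa N := Cfsg.Agent.Lib.Helper15.BG1379.mem_kappa_cj hG hN g h1
      rw [hkN] at h2
      exact h2
    · have hrτ : r ∈ tau2 (cj g N) := hτ r hrp (by rw [hbo])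
      have hAN₁ : A ≤ cj g N := by
        intro c hc
        apply hCb
        rw [mem_centralizer_iff]
        intro z hz
        rw [Set.mem_singleton_iff] at hz
        rw [hz]
        have := hAc.is_comm.comm (⟨b, hbA⟩ : A) ⟨c, hc⟩
        exact congrArg Subtype.val this
      have h17' := Cfsg.Agent.S1417.result hG (cj g N) hN₁ r hrτ A ⟨hAN₁, hAel, hAcard⟩
      have hbot := h17'.2.2.2.2.1 M hM (fun h => hnc g h.symm) hAM
      have : a ∈ sigmaCore (cj g N) ⊓ M := ⟨hag, haM⟩
      rw [hbot, mem_bot] at this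
      exact ha1 this
  · -- (1)
    push Not at hb
    have hcen : A ≤ centralizer (sigmaCore M : Set G) := by
      apply Cfsg.Agent.Lib.Helper26.BG1435.frob_centralizes hG hM hKM (by rw [hKcard]; exact hpp)
        (by rw [hKcard]; exact hpσ) ?_ hAM ((zpowers_le).mpr (hEA haE)) ?_ ?_ ?_
      · -- f.p.f. on `M_σ`
        rw [eq_bot_iff]
        intro y hy
        rw [mem_bot]
        by_contra hy1
        have hya : a * y = y * a := by
          have := (mem_centralizer_iff.mp hy.2) a (mem_zpowers a)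
          exact this
        exact hF p hp hpM a haM hao y hy.1 hy1 hya
      · -- nilpotent
        haveI : IsMulCommutative ↥A := hAc
        letI : CommGroup ↥A := { (inferInstance : Group ↥A) with mul_comm := hAc.is_comm.comm }
        exact CommGroup.isNilpotent
      · -- coprime
        rw [hAcard]
        apply Nat.Coprime.pow_left
        rw [Nat.Prime.coprime_iff_not_dvd hrp]
        intro h
        exact hrσ (Cfsg.Agent.Lib.Helper71.BG11.sigmaCore_pi hG hM hrp h)
      · -- `a` is f.p.f. on `A`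
        intro z hz hz1
        rw [eq_bot_iff]
        intro c hc
        rw [mem_bot]
        by_contra hc1
        -- `a ∈ zpowers z`
        have hzz : zpowers z = zpowers a := by
          have hle : zpowers z ≤ zpowers a := (zpowers_le).mpr hz
          apply Subgroup.eq_of_le_of_card_ge hle
          rw [hKcard]
          have hd : Nat.card (zpowers z) ∣ p := by
            have := Subgroup.card_dvd_of_le hle
            rwa [hKcard] at this
          rcases (Nat.dvd_prime hpp).mp hd with h1 | h1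
          · exact absurd (zpowers_eq_bot.mp (Subgroup.card_eq_one.mp h1)) hz1
          · exact h1.ge
        have haz : a ∈ zpowers z := by rw [hzz]; exact mem_zpowers a
        obtain ⟨n, hn⟩ := mem_zpowers_iff.mp haz
        have hcz : z * c = c * z := (mem_centralizer_iff.mp hc.2) z (Set.mem_singleton z)
        have hca : c * a = a * c := by
          rw [← hn]
          exact ((Commute.zpow_right (show Commute c z from hcz.symm) n)).eq
        exact hb c hc.1 hc1 hca
    have : x ∈ sigmaCore M ⊓ centralizer (A : Set G) := by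
      refine ⟨hx, ?_⟩
      show x ∈ centralizer (A : Set G)
      rw [mem_centralizer_iff]
      intro c hc
      have := (mem_centralizer_iff.mp (hcen hc)) x hx
      exact this.symm
    rw [hCA, mem_bot] at this
    exact hx1 this

end Cfsg.Agent.Lib.Helper31.BG1436
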