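import Mathlib
import Cfsg.Agent.Lib.Helper16.BG1363Defs
import Cfsg.Agent.Lib.Helper55.Basic
import Cfsg.Agent.Lib.Helper31.BG147Glue
import Cfsg.Agent.Lib.Helper78.BG15KPrime
import Cfsg.Agent.Lib.Helper13.BG12B
import Cfsg.Agent.Lib.Helper97.BG1366O
import Cfsg.Agent.Lib.Helper01.BG134CJ
import Cfsg.Agent.Lib.Helper83.BG11e
import Cfsg.Agent.Lib.Helper90.BG14DW1
import Cfsg.Agent.S1350
import Cfsg.Agent.S1351
import Cfsg.Agent.S1354
import Cfsg.Agent.S1420
import Cfsg.Agent.S1430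
import Cfsg.Agent.Lib.Helper03.BG1435P10
import Cfsg.Agent.Lib.Helper14.BG1435P6s
import Cfsg.Agent.Lib.Helper14.BG1435P7b
import Cfsg.Agent.Lib.Helper16.BG1363E
import Cfsg.Agent.Lib.Helper20.BG1435P9
import Cfsg.Agent.Lib.Helper21.BG1435P13b
import Cfsg.Agent.Lib.Helper21.BG1435Q0
import Cfsg.Agent.Lib.Helper26.BG1435P5
import Cfsg.Agent.Lib.Helper28.BG1435P14
import Cfsg.Agent.Lib.Helper36.BG1363D
import Cfsg.Agent.Lib.Helper36.BG1363F
import Cfsg.Agent.Lib.Helper40.BG1435P13a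
import Cfsg.Agent.Lib.Helper56.BG1435P6
import Cfsg.Agent.Lib.Helper57.BG1363C
import Cfsg.Agent.Lib.Helper58.BG1435P13c
import Cfsg.Agent.Lib.Helper61.BG1435P7
import Cfsg.Agent.Lib.Helper61.BG1435Q1
import Cfsg.Agent.Lib.Helper62.BG1435P3
import Cfsg.Agent.Lib.Helper65.BG1435P15
import Cfsg.Agent.Lib.Helper74.BG1435P16
import Cfsg.Agent.Lib.Helper77.BG1363B
import Cfsg.Agent.Lib.Helper80.BG1435P11
import Cfsg.Agent.Lib.Helper83.BG1435P18
import Cfsg.Agent.Lib.Helper84.BG1435P1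
import Cfsg.Agent.Lib.Helper86.BG1435P8
import Cfsg.Agent.Lib.Helper91.BG1435P13t
import Cfsg.Agent.Lib.Helper96.BG1435P12

/-!
# S1435 (BG Theorem 15.2): glue of the pack K-1435 (architect helper31)

`s1435_of` : the conclusion of S1435.  Spec of the leaves: `notes/S1435_keystones.lean.txt`.
-/

set_option autoImplicit false
set_option linter.unusedVariables false
set_option linter.style.haveILetI false
set_option linter.unusedSectionVars false

namespace Cfsg.Agent.Lib.Helper31.BG1435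

open Cfsg Subgroup Cfsg.Agent.Lib.Helper55 Cfsg.Agent.Lib.Helper11.BG14D Cfsg.Agent.Lib.Helper16.BG1363

variable {G : Type*} [Group G] [Finite G]

/-- `K` normalizes the Sylow subgroup `R` of the abelian group `U`. -/
theorem NU.K_le_normalizer (hG : IsMinSimpleOddOrder G) {M K U R H : Subgroup G} {r : ℕ}
    (c : NU M K U R H r) : K ≤ normalizer (R : Set G) := by
  have hab : IsMulCommutative U := (Cfsg.Agent.Lib.Helper90.BG14D.free_action hG
    (fun M hM K hK hK1 => Cfsg.Agent.S1430.result hG M hM K hK hK1) M c.hM K U c.hKU c.hK1).1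
  intro k hk
  have hkU : k ∈ normalizer (U : Set G) := c.hKU.normal hk
  have hR'U : cj k R ≤ U := by
    rintro _ ⟨x, hx, rfl⟩
    have := (Subgroup.mem_normalizer_iff.mp hkU x).mp (c.hRU hx)
    simpa using this
  have hR'p : IsPGroup r (cj k R) := isPGroup_cj c.hRp
  have hnorm : cj k R ≤ normalizer (R : Set G) := by
    intro y hy
    apply Subgroup.centralizer_le_normalizer
    rw [Subgroup.mem_centralizer_iff]
    intro x hx
    have := hab.is_comm.comm (⟨x, c.hRU hx⟩ : U) ⟨y, hR'U hy⟩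
    exact congrArg Subtype.val this
  have hQp : IsPGroup r (cj k R ⊔ R : Subgroup G) := IsPGroup.to_sup_of_normal_right' hR'p c.hRp hnorm
  have hQM : cj k R ⊔ R ≤ M := sup_le (hR'U.trans c.hKU.compl.1) (c.hRU.trans c.hKU.compl.1)
  have hQ := c.hRsyl _ hQM hQp le_sup_right
  have hle : cj k R ≤ R := le_sup_left.trans hQ.le
  have heq : cj k R = R := Subgroup.eq_of_le_of_card_ge hle (by rw [card_cj])
  exact cj_eq_self_iff.mp heq

/-- (★) every prime `s` with a Sylow `s`-subgroup `Rs ≤ U` of `M` and `N_G(Rs) ≤ H` lies in `σ(H)`. -/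
theorem NU.mem_sigma (hG : IsMinSimpleOddOrder G) {M K U R H Ms : Subgroup G} {r : ℕ}
    (c : NU M K U R H r) (pf : PF M K Ms) (hKsH : IsPiHallOf (kappa Ms) (Ks M K) Ms)
    (hp : (Nat.card K).Prime) (hUKH : U ⊔ K ≤ H) (hpH : Nat.card K ∉ sigma H)
    (hfpf : sigmaCore H ⊓ centralizer (K : Set G) = ⊥) : r ∈ sigma H := by
  by_contra hs
  have hτ := Cfsg.Agent.Lib.Helper62.BG1435.NU.mem_tau2_of_not_sigma hG c hUKH hs
  have hKH : K ≤ H := le_sup_right.trans hUKH
  have hKR : K ≤ normalizer (R : Set G) := NU.K_le_normalizer hG c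
  obtain ⟨B, a, x', hBc, hKB, haB, haR, ha1, hxB, hxo, hxK, hBcard, hBexp⟩ :=
    Cfsg.Agent.Lib.Helper26.BG1435.exists_B_fixed hG c.hH hKH hp hpH hfpf hτ (c.hRU.trans (le_sup_left.trans hUKH)) c.hRp c.hR1 hKR
  have hcase : normalizer (B : Set G) ≤ Ms ∨ r ∈ kappa Ms ∨ centralizer ({x'} : Set G) ≤ Ms := by
    rcases Cfsg.Agent.Lib.Helper65.BG1435.star_cases hG pf hp c.hr x' hxo hxK with h | h | ⟨_, h⟩
    · exact Or.inl (Cfsg.Agent.Lib.Helper14.BG1435.normalizer_le_star hG pf hp c.hr h hBc hBcard hBexp hKB)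
    · exact Or.inr (Or.inl h)
    · exact Or.inr (Or.inr h)
  exact Cfsg.Agent.Lib.Helper56.BG1435.NU.false_of_B_fixed hG c pf hKsH B a x' hBc haB haR ha1 hxB hBexp hcase

/-- Clauses 1-4 of S1435 together with the auxiliary facts used for clauses 5-6. -/
theorem NU.part_one (hG : IsMinSimpleOddOrder G) {M K U R H Ms : Subgroup G} {r : ℕ}
    (c : NU M K U R H r) (pf : PF M K Ms) (hKsH : IsPiHallOf (kappa Ms) (Ks M K) Ms)
    (hp : (Nat.card K).Prime) :
    (kappa H = ∅ ∧ U ≤ sigmaCore H ∧ M ⊓ H = U ⊔ K ∧ ¬ H ⊓ normalizer (U : Set G) ≤ M) ∧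
      K ≤ H ∧ Nat.card K ∉ sigma H ∧ sigmaCore H ⊓ centralizer (K : Set G) = ⊥ := by
  obtain ⟨hrM, hUKH, hnc⟩ := Cfsg.Agent.Lib.Helper77.BG1363.NU.basic hG c
  have hpH := Cfsg.Agent.Lib.Helper57.BG1363.NU.p_not_sigma hG c pf hp hUKH
  obtain ⟨hfpf, hnil⟩ := Cfsg.Agent.Lib.Helper36.BG1363D.NU.fpf hG c pf hp hUKH hnc hpH
  have hcent := Cfsg.Agent.Lib.Helper16.BG1363.NU.cent_of_coprime hG c hp hUKH hpH hfpf
  have hbot := Cfsg.Agent.Lib.Helper36.BG1363.NU.inf_sigma_bot hG c hrM hUKH hnc hnil hcent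
  have hκ := Cfsg.Agent.Lib.Helper84.BG1435.NU.kappa_empty hG c pf hp hnc hpH
  have hKH : K ≤ H := le_sup_right.trans hUKH
  have hpr := Cfsg.Agent.Lib.Helper61.BG1435.NU.primes_in_sigma hG c hUKH hcent
    (fun s Rs c' => NU.mem_sigma hG c' pf hKsH hp hUKH hpH hfpf)
  have hUσ : U ≤ sigmaCore H := Cfsg.Agent.Lib.Helper14.BG1435.le_sigmaCore_of_primes hG c.hH (le_sup_left.trans hUKH) hpr
  have hMH := Cfsg.Agent.Lib.Helper86.BG1435.NU.inf_eq hG c hUKH hnc hbot hUσ
  have h4 := Cfsg.Agent.Lib.Helper20.BG1435.NU.not_normalizer_le hG c hp hpH hnc hnil hUσ hMH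
  exact ⟨⟨hκ, hUσ, hMH, h4⟩, hKH, hpH, hfpf⟩

/-- a subgroup of prime order is generated by any of its non-identity elements -/
theorem le_of_prime_card_of_mem {T B : Subgroup G} (hTp : (Nat.card T).Prime) {a : G}
    (haT : a ∈ T) (ha1 : a ≠ 1) (haB : a ∈ B) : T ≤ B := by
  have hz : Subgroup.zpowers a ≤ T := (Subgroup.zpowers_le).mpr haT
  have hz1 : Subgroup.zpowers a ≠ ⊥ := by
    intro h; exact ha1 (Subgroup.zpowers_eq_bot.mp h)
  have hcard : Nat.card (Subgroup.zpowers a) ∣ Nat.card T := Subgroup.card_dvd_of_le hz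
  have hne1 : Nat.card (Subgroup.zpowers a) ≠ 1 := by
    intro h; exact hz1 (Subgroup.card_eq_one.mp h)
  have heq : Nat.card (Subgroup.zpowers a) = Nat.card T :=
    ((Nat.dvd_prime hTp).mp hcard).resolve_left hne1
  have : Subgroup.zpowers a = T := Subgroup.eq_of_le_of_card_ge hz heq.ge
  rw [← this]; exact (Subgroup.zpowers_le).mpr haB

/-- Clauses 5-6 of S1435. -/
theorem part_two (hG : IsMinSimpleOddOrder G) {M K U H Ms : Subgroup G} (hM : IsCoatom M)
    (hKU : IsSigmaDecomposition M K U) (hK1 : K ≠ ⊥) (hU1 : U ≠ ⊥) (hH : IsCoatom H)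
    (pf : PF M K Ms) (hKsH : IsPiHallOf (kappa Ms) (Ks M K) Ms)
    (hKsK : K = sigmaCore Ms ⊓ centralizer ((Ks M K : Subgroup G) : Set G))
    (hp : (Nat.card K).Prime) (hκ : kappa H = ∅) (hKH : K ≤ H) (hpH : Nat.card K ∉ sigma H)
    (hfpf : sigmaCore H ⊓ centralizer (K : Set G) = ⊥) :
    K ≤ fittingOf (H ⊓ Ms) ∧ IsComplIn (H ⊓ Ms) (sigmaCore H) H := by
  classical
  have hKs1 : Ks M K ≠ ⊥ := (Cfsg.Agent.S1354.result hG M hM K hKU.cyclic hKU.hall).1
  have hcard : Nat.card ↥(sigmaCore Ms ⊓ centralizer ((Ks M K : Subgroup G) : Set G)) = Nat.card K := by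
    rw [← hKsK]
  obtain ⟨Q, hQMs, hQn, hQp, hCQ⟩ :=
    Cfsg.Agent.Lib.Helper03.BG1435.exists_normal_pgroup_ge hG pf.hMs hKsH hKs1 (by rw [hcard]; exact hp)
  rw [hcard] at hQp
  have hKQ : K ≤ Q := hKsK.le.trans hCQ
  refine ⟨Cfsg.Agent.Lib.Helper80.BG1435.le_fittingOf_inf (Nat.card K) hp hKH hQMs hQn hQp hKQ, ?_⟩
  have hσMs : sigmaCore H ⊓ Ms = ⊥ := Cfsg.Agent.Lib.Helper96.BG1435.sigma_inf_star hG hH pf hp hKH hpH hfpf
  obtain ⟨E, hE, hKE⟩ := Cfsg.Agent.Lib.Helper13.BG12.exists_complIn_ge hG hH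
    (Cfsg.Agent.S1350.result hG H hH).1 hKH (by
      intro q hq hqK
      have : q = Nat.card K := (Nat.prime_dvd_prime_iff_eq hq hp).mp hqK
      rw [this]; exact hpH)
  have hEMs : E ≤ Ms := by
    by_cases hτ : Nat.card K ∈ tau2 H
    · exact Cfsg.Agent.Lib.Helper40.BG1435.compl_le_of_tau2 hG hH pf hp hE hKE hτ
    · rcases Cfsg.Agent.Lib.Helper58.BG1435.normal_or_T0 hG hH hp hpH hτ hfpf hE hKE with hEN | ⟨T₀, hTE, hTp, hHT, hTK, hTc⟩
      · exact hEN.trans (Cfsg.Agent.Lib.Helper21.BG1435.normalizer_le_of_cent_uniq hG pf hK1)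
      · exfalso
        have htτ := Cfsg.Agent.Lib.Helper91.BG1435.T0_mem_tau2 hG hH hκ hE hTE hTp hTc
        have hKT : K ≤ normalizer (T₀ : Set G) := hKH.trans hHT
        have hTH : T₀ ≤ H := hTE.trans hE.1
        have hTpg : IsPGroup (Nat.card T₀) T₀ := by
          haveI : Fact (Nat.card T₀).Prime := ⟨hTp⟩
          exact IsPGroup.of_card (n := 1) (by rw [pow_one])
        have hT1 : T₀ ≠ ⊥ := by
          intro h
          rw [h, Subgroup.card_bot] at hTp
          exact Nat.not_prime_one hTp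
        obtain ⟨B, a, x', hBc, hKB, haB, haT, ha1, hxB, hxo, hxK, hBcard, hBexp⟩ :=
          Cfsg.Agent.Lib.Helper26.BG1435.exists_B_fixed hG hH hKH hp hpH hfpf htτ hTH hTpg hT1 hKT
        have hTB : T₀ ≤ B := le_of_prime_card_of_mem hTp haT ha1 haB
        have hcomm : ∀ τ ∈ T₀, τ * x' = x' * τ := by
          intro τ hτ
          have := hBc.is_comm.comm (⟨τ, hTB hτ⟩ : B) ⟨x', hxB⟩
          exact congrArg Subtype.val this
        have hfin : T₀ ≤ Ms → False := fun hTMs =>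
          Cfsg.Agent.Lib.Helper74.BG1435.false_T0_of_le_star hK1 hp hQMs hQn hQp hKQ hTp hKT hTK hTMs
        rcases Cfsg.Agent.Lib.Helper65.BG1435.star_cases hG pf hp hTp x' hxo hxK with h | h | ⟨_, h⟩
        · -- `t ∈ σ(M*)`
          have hN := Cfsg.Agent.Lib.Helper14.BG1435.normalizer_le_star hG pf hp hTp h hBc hBcard hBexp hKB
          exact hfin (hTB.trans (Subgroup.le_normalizer.trans hN))
        · -- `t ∈ κ(M*)`
          have hxMs : x' ∈ Ms := pf.hCK hxK
          have hzMs : Subgroup.zpowers x' ≤ Ms := (Subgroup.zpowers_le).mpr hxMs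
          have hzc : Nat.card (Subgroup.zpowers x') = Nat.card T₀ := by
            rw [Nat.card_zpowers, hxo]
          obtain ⟨m, hm, hle⟩ := Cfsg.Agent.Lib.Helper97.BG1366.exists_cj_ge_of_hall
            (ms_solvable hG pf.hMs.1) hKsH hzMs (by
              intro q hq hqd
              rw [hzc] at hqd
              have : q = Nat.card T₀ := (Nat.prime_dvd_prime_iff_eq hq hTp).mp hqd
              rw [this]; exact h)
          have hy : m⁻¹ * x' * m ∈ Ks M K := mem_cj.mp (hle (Subgroup.mem_zpowers x'))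
          have hyo : orderOf (m⁻¹ * x' * m) = Nat.card T₀ := by
            have hsc : SemiconjBy m⁻¹ x' (m⁻¹ * x' * m) := by
              unfold SemiconjBy; group
            rw [← hsc.orderOf_eq, hxo]
          -- `C_G(T₀) ≤ H`
          have haH : a ∈ H := hTH haT
          have hao : orderOf a = Nat.card T₀ := by
            have hd : orderOf a ∣ Nat.card T₀ := Subgroup.orderOf_dvd_natCard T₀ haT
            rcases (Nat.dvd_prime hTp).mp hd with h1 | h1
            · exact absurd (orderOf_eq_one_iff.mp h1) ha1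
            · exact h1
          have hσ1 : sigmaCore H ≠ ⊥ := by
            apply Cfsg.Agent.Lib.Helper83.BG11.sigmaCore_ne_bot hG hH
            intro hbot
            exact hK1 (le_bot_iff.mp (hbot ▸ hKH))
          obtain ⟨y, hy1⟩ := (Subgroup.ne_bot_iff_exists_ne_one.mp hσ1)
          have hahat : a ∈ sigmaHat H := by
            refine ⟨haH, (y : G), y.2, ?_, ?_⟩
            · intro h; exact hy1 (Subtype.ext h)
            · have := (Subgroup.mem_centralizer_iff.mp (hTc haT)) (y : G) y.2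
              exact this.symm
          have hCa : centralizer ({a} : Set G) ≤ H :=
            ((Cfsg.Agent.S1420.result hG H hH E hE).2.2.2 a haH ha1 (by
              intro q hq hqd
              rw [hao] at hqd
              have : q = Nat.card T₀ := (Nat.prime_dvd_prime_iff_eq hq hTp).mp hqd
              rw [this]; exact htτ) hahat).1
          have hCT : centralizer (T₀ : Set G) ≤ H :=
            (Subgroup.centralizer_le (Set.singleton_subset_iff.mpr haT)).trans hCa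
          have hCT' : centralizer ((cj m⁻¹ T₀ : Subgroup G) : Set G) ≤ cj m⁻¹ H := by
            rw [← cj_centralizer]; exact cj_mono hCT
          have hrank : PRankLE (Nat.card T₀) 2 ↥(cj m⁻¹ H) :=
            (Cfsg.Agent.Lib.Helper01.BG134.pRankLE_cj_iff m⁻¹ H (Nat.card T₀) 2).mpr htτ.2.2.1
          refine Cfsg.Agent.Lib.Helper83.BG1435.false_of_kstar_elt hG hM hKU hK1 hU1 hTp (m⁻¹ * x' * m) hy hyo
            (T := cj m⁻¹ T₀) (card_cj _ _) ?_ hCT' hrank
          rintro _ ⟨τ, hτ, rfl⟩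
          have h1 := hcomm τ hτ
          simp only [MulEquiv.coe_toMonoidHom, MulAut.conj_apply, inv_inv]
          calc m⁻¹ * τ * m * (m⁻¹ * x' * m) = m⁻¹ * (τ * x') * m := by group
            _ = m⁻¹ * (x' * τ) * m := by rw [h1]
            _ = m⁻¹ * x' * m * (m⁻¹ * τ * m) := by group
        · -- `t ∈ τ₂(M*)`, `C_G(x') ≤ M*`
          apply hfin
          intro τ hτ
          apply h
          rw [Subgroup.mem_centralizer_iff]
          intro z hz
          rw [Set.mem_singleton_iff] at hz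
          rw [hz]; exact (hcomm τ hτ).symm
  exact Cfsg.Agent.Lib.Helper28.BG1435.isComplIn_of_le hE (le_inf hE.1 hEMs) inf_le_left
    (le_bot_iff.mp ((inf_le_inf_left _ inf_le_right).trans hσMs.le))

/-- **S1435** (BG Theorem 15.2). -/
theorem s1435_of (hG : IsMinSimpleOddOrder G)
    (M : Subgroup G) (hM : IsCoatom M) (K U : Subgroup G) (hKU : IsSigmaDecomposition M K U) (hK1 : K ≠ ⊥) (hU1 : U ≠ ⊥) (Mstar : Subgroup G) (hMstar : IsCoatom Mstar)
    (hKst : K = sigmaCore Mstar ⊓ Subgroup.centralizer ((sigmaCore M ⊓ Subgroup.centralizer (K : Set G)) : Set G))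
    (hKstH : IsPiHallOf (kappa Mstar) (sigmaCore M ⊓ Subgroup.centralizer (K : Set G)) Mstar)
    (r : ℕ) [Fact r.Prime] (hr : r ∣ Nat.card U) (R : Sylow r U) (H : Subgroup G) (hH : IsCoatom H)
    (hNR : Subgroup.normalizer (((R : Subgroup U).map U.subtype : Subgroup G) : Set G) ≤ H) :
    kappa H = ∅ ∧ U ≤ sigmaCore H ∧ M ⊓ H = U ⊔ K ∧ ¬ H ⊓ Subgroup.normalizer (U : Set G) ≤ M ∧
      K ≤ fittingOf (H ⊓ Mstar) ∧ IsComplIn (H ⊓ Mstar) (sigmaCore H) H := by
  have hp := (Cfsg.Agent.Lib.Helper78.BG15.card_prime_of_sigmaDecomposition hG hM hKU hK1 hU1).1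
  have c := Cfsg.Agent.Lib.Helper21.BG1435.nu_of_sylow hG hM hKU hK1 hU1 r hr R hH hNR
  have pf := Cfsg.Agent.Lib.Helper61.BG1435.pf_of_partner hG hM hKU hK1 hp hMstar hKst hKstH
  have hKsK := Cfsg.Agent.Lib.Helper31.BG147.hKst_coe hKst
  obtain ⟨⟨h1, h2, h3, h4⟩, hKH, hpH, hfpf⟩ := NU.part_one hG c pf hKstH hp
  obtain ⟨h5, h6⟩ := part_two hG hM hKU hK1 hU1 hH pf hKstH hKsK hp h1 hKH hpH hfpf
  exact ⟨h1, h2, h3, h4, h5, h6⟩

end Cfsg.Agent.Lib.Helper31.BG1435
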