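import Mathlib
import Cfsg.Agent.Lib.Helper31.BG147Defs
import Cfsg.Agent.Lib.Helper31.BG147C
import Cfsg.Agent.Lib.Helper27.BG147P
import Cfsg.Agent.Lib.Helper77.BG147N

/-!
# Pack K-1369, keystone 136908 (D2): the tilde set of `M` misses the class support of `Ẑ`  (parallel hand)
-/

set_option autoImplicit false
set_option linter.unusedVariables false
set_option linter.unusedSectionVars false

namespace Cfsg.Agent.Lib.Helper31.BG147

open Cfsg Subgroup Cfsg.Agent.Lib.Helper55 Cfsg.Agent.Lib.Helper11.BG14D Cfsg.Agent.Lib.Helper11.BG144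

variable {G : Type*} [Group G] [Finite G]

theorem supportR_le_centralizer (M : Subgroup G) (a : G) :
    supportR M a ≤ centralizer ({a} : Set G) := by
  classical
  unfold supportR
  split_ifs with h
  · exact inf_le_right
  · exact bot_le

theorem supportR_eq_bot_of_le {M : Subgroup G} {a : G} (h : centralizer ({a} : Set G) ≤ M) :
    supportR M a = ⊥ := by
  classical
  unfold supportR
  rw [dif_neg]
  intro hc
  exact hc.1 h

/-- KEYSTONE 136908  K-1369-D2. -/
theorem tilde_disjoint_csupp (hG : IsMinSimpleOddOrder G) (h31 : H1431 G) {M K : Subgroup G} (hM : IsCoatom M)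
    (hKc : IsCyclic K) (hK : IsPiHallOf (kappa M) K M) (hK1 : K ≠ ⊥)
    (h54 : ∀ k ∈ K, k ≠ 1 → M ⊓ centralizer ({k} : Set G) = K ⊔ Ks M K) :
    Disjoint (tildeOf M ((sigmaCore M : Set G) \ {1})) (csupp (Zhat M K)) := by
  rw [Set.disjoint_left]
  rintro v ⟨a, ⟨haσ, ha1⟩, r, hr, y, rfl⟩ ⟨g, z, hz, hvz⟩
  have ha1' : a ≠ 1 := fun h => ha1 (Set.mem_singleton_iff.mpr h)
  have haσ' : a ∈ sigmaCore M := haσ
  have hσM : sigmaCore M ≤ M := Cfsg.Agent.Lib.Helper71.BG11.sigmaCore_le M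
  set c : G := g⁻¹ * y with hc
  have hzc : z = c * (a * r) * c⁻¹ := by
    have : z = g⁻¹ * (g * z * g⁻¹) * g := by group
    rw [this, ← hvz, hc]
    group
  -- parts of `z`
  have hKsc : Ks M K ≤ centralizer (K : Set G) := inf_le_right
  have hcop := Cfsg.Agent.Lib.Helper77.BG147.coprime_card_Ks hG hM hK
  obtain ⟨x₀, hx₀, y₀, hy₀, hx₀1, hy₀1, hzxy, hxy, ⟨α, hα⟩, ⟨β, hβ⟩⟩ :=
    Cfsg.Agent.Lib.Helper27.BG147.zhat_parts hKsc hcop hz
  -- `a' := c a c⁻¹` commutes with `z`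
  have har : a * r = r * a := by
    have := supportR_le_centralizer M a hr
    rw [mem_centralizer_singleton_iff] at this
    exact this.symm
  set a' : G := c * a * c⁻¹ with ha'
  have ha'z : a' * z = z * a' := by
    rw [hzc, ha']
    have h1 : a * (a * r) = (a * r) * a := by rw [mul_assoc, har, ← mul_assoc]
    calc c * a * c⁻¹ * (c * (a * r) * c⁻¹) = c * (a * (a * r)) * c⁻¹ := by group
      _ = c * ((a * r) * a) * c⁻¹ := by rw [h1]
      _ = c * (a * r) * c⁻¹ * (c * a * c⁻¹) := by group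
  have hcz : Commute a' z := ha'z
  have ha'x : Commute a' x₀ := hα ▸ hcz.pow_right α
  have ha'y : Commute a' y₀ := hβ ▸ hcz.pow_right β
  have ha'1 : a' ≠ 1 := by
    intro h
    apply ha1'
    have : a = c⁻¹ * a' * c := by rw [ha']; group
    rw [this, h]; group
  -- `a' ∈ C_G(y₀) ≤ M`
  have hY₀ : zpowers y₀ ≤ Ks M K := zpowers_le.mpr hy₀
  have hY₀1 : zpowers y₀ ≠ ⊥ := by
    intro h
    apply hy₀1
    have := mem_zpowers y₀
    rw [h, Subgroup.mem_bot] at this
    exact this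
  have ha'M : a' ∈ M := by
    apply centralizer_le h31 hM hK hK1 hY₀ hY₀1
    rw [Subgroup.mem_centralizer_iff]
    intro w hw
    obtain ⟨n, rfl⟩ := mem_zpowers_iff.mp hw
    exact (ha'y.zpow_right n).eq.symm
  have ha'Z : a' ∈ K ⊔ Ks M K := by
    rw [← h54 x₀ hx₀ hx₀1]
    refine ⟨ha'M, ?_⟩
    show a' ∈ centralizer ({x₀} : Set G)
    rw [mem_centralizer_singleton_iff]
    exact ha'x.eq
  -- `a' ∈ K*`
  obtain ⟨x₁, hx₁, y₁, hy₁, ha'xy⟩ :=
    Cfsg.Agent.Lib.Helper27.BG147.exists_mul_of_mem_sup_of_centralizer hKsc ha'Z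
  have hcomm₁ : Commute x₁ y₁ := (Subgroup.mem_centralizer_iff.mp (hKsc hy₁)) x₁ hx₁
  set m := Nat.card (sigmaCore M) with hm
  have ha'm : a' ^ m = 1 := by
    have h1 : a ^ m = 1 := by
      have : (⟨a, haσ'⟩ : sigmaCore M) ^ Nat.card (sigmaCore M) = 1 := pow_card_eq_one'
      exact congrArg Subtype.val this
    rw [ha', conj_pow, h1]
    group
  have hcopKm : (Nat.card K).Coprime m := by
    apply Nat.coprime_of_dvd
    intro p hp hpK hpm
    have h1 : p ∈ kappa M := hK.2.1 p hp hpK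
    have h2 : p ∈ sigma M := Cfsg.Agent.Lib.Helper71.BG11.sigmaCore_pi hG hM hp hpm
    exact h1.2.2.1 h2
  have hinf : K ⊓ Ks M K = ⊥ := Subgroup.inf_eq_bot_of_coprime hcop
  have hx₁m : x₁ ^ m = 1 := by
    have h1 : x₁ ^ m * y₁ ^ m = 1 := by rw [← hcomm₁.mul_pow, ← ha'xy, ha'm]
    have h2 : x₁ ^ m = (y₁ ^ m)⁻¹ := eq_inv_of_mul_eq_one_left h1
    have h3 : x₁ ^ m ∈ K ⊓ Ks M K :=
      ⟨K.pow_mem hx₁ m, h2 ▸ (Ks M K).inv_mem ((Ks M K).pow_mem hy₁ m)⟩
    rw [hinf, Subgroup.mem_bot] at h3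
    exact h3
  have hx₁1 : x₁ = 1 := by
    have hK' : x₁ ^ Nat.card K = 1 := by
      have : (⟨x₁, hx₁⟩ : K) ^ Nat.card K = 1 := pow_card_eq_one'
      exact congrArg Subtype.val this
    have h1 : orderOf x₁ ∣ Nat.card K := orderOf_dvd_of_pow_eq_one hK'
    have h2 : orderOf x₁ ∣ m := orderOf_dvd_of_pow_eq_one hx₁m
    have h3 : orderOf x₁ ∣ 1 := by
      have := Nat.dvd_gcd h1 h2
      rwa [Nat.Coprime.gcd_eq_one hcopKm] at this
    exact orderOf_eq_one_iff.mp (Nat.dvd_one.mp h3)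
  have ha'Ks : a' ∈ Ks M K := by rw [ha'xy, hx₁1, one_mul]; exact hy₁
  -- `c ∈ M`
  have haM : a ∈ M := hσM haσ'
  have hA' : zpowers a' ≤ Ks M K := zpowers_le.mpr ha'Ks
  have hA'1 : zpowers a' ≠ ⊥ := by
    intro h
    apply ha'1
    have := mem_zpowers a'
    rw [h, Subgroup.mem_bot] at this
    exact this
  have hcM : c ∈ M := by
    apply mem_of_le_cj h31 hM hK hK1 hA' hA'1 (g := c)
    rw [zpowers_le, mem_cj]
    have : c⁻¹ * a' * c = a := by rw [ha']; group
    rw [this]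
    exact haM
  -- `C_G(a) ≤ M`
  have hCa' : centralizer ((zpowers a' : Subgroup G) : Set G) ≤ M :=
    centralizer_le h31 hM hK hK1 hA' hA'1
  have hCa : centralizer ({a} : Set G) ≤ M := by
    intro t ht
    rw [mem_centralizer_singleton_iff] at ht
    have h1 : c * t * c⁻¹ ∈ M := by
      apply hCa'
      rw [Subgroup.mem_centralizer_iff]
      intro w hw
      obtain ⟨n, rfl⟩ := mem_zpowers_iff.mp hw
      have hcomm : Commute (c * t * c⁻¹) a' := by
        show c * t * c⁻¹ * a' = a' * (c * t * c⁻¹)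
        rw [ha']
        calc c * t * c⁻¹ * (c * a * c⁻¹) = c * (t * a) * c⁻¹ := by group
          _ = c * (a * t) * c⁻¹ := by rw [ht]
          _ = c * a * c⁻¹ * (c * t * c⁻¹) := by group
      exact (hcomm.zpow_right n).eq.symm
    have : t = c⁻¹ * (c * t * c⁻¹) * c := by group
    rw [this]
    exact M.mul_mem (M.mul_mem (M.inv_mem hcM) h1) hcM
  -- `r = 1`, so `z = a' ∈ K*`
  have hr1 : r = 1 := by
    have := supportR_eq_bot_of_le hCa
    rw [this, Subgroup.mem_bot] at hr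
    exact hr
  have hza' : z = a' := by rw [hzc, hr1, mul_one]
  apply hz.2
  right
  rw [hza']
  exact ha'Ks

end Cfsg.Agent.Lib.Helper31.BG147
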