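import Mathlib
import Cfsg.Agent.Lib.Helper15.S3Spec2
import Cfsg.Agent.Lib.Helper03.CoprimeAbelian
import Cfsg.Agent.Lib.Helper20.SylowNormal
import Cfsg.Agent.S0027

/-!
# K15-E4: no three-layer configuration (sub-task of S4305)
-/

set_option autoImplicit false

open Cfsg Cfsg.Agent.Lib.Helper15.S3
open scoped commutatorElement

namespace Cfsg.Agent.Lib.Helper31.S3E4

section General

variable {M : Type*} [Group M]

theorem le_normalizer_of_conj_mem {R X : Subgroup M}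
    (h : ∀ x ∈ R, ∀ y ∈ X, x * y * x⁻¹ ∈ X) : R ≤ Subgroup.normalizer (X : Set M) := by
  intro x hx
  rw [Subgroup.mem_normalizer_iff]
  intro y
  constructor
  · intro hy
    exact h x hx y hy
  · intro hy
    have := h x⁻¹ (R.inv_mem hx) _ hy
    have e : x⁻¹ * (x * y * x⁻¹) * x⁻¹⁻¹ = y := by group
    rwa [e] at this

theorem conj_mem_of_le_normalizer {R X : Subgroup M}
    (h : R ≤ Subgroup.normalizer (X : Set M)) {x y : M} (hx : x ∈ R) (hy : y ∈ X) :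
    x * y * x⁻¹ ∈ X :=
  (Subgroup.mem_normalizer_iff.1 (h hx) y).1 hy

theorem ainv_map (α : Equiv.Perm (Fin 3) →* M) {X : Subgroup M} (h : AInv α X)
    (g : Equiv.Perm (Fin 3)) : X.map (MulAut.conj (α g)).toMonoidHom ≤ X := by
  rintro _ ⟨x, hx, rfl⟩
  exact h g x hx

theorem map_conj_le_of_conj_mem {X : Subgroup M} {a : M}
    (h : ∀ y ∈ X, a * y * a⁻¹ ∈ X) : X.map (MulAut.conj a).toMonoidHom ≤ X := by
  rintro _ ⟨x, hx, rfl⟩
  exact h x hx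

theorem commutator_conj_mem {Q R : Subgroup M} {a : M}
    (hQ : ∀ y ∈ Q, a * y * a⁻¹ ∈ Q) (hR : ∀ y ∈ R, a * y * a⁻¹ ∈ R) :
    ∀ y ∈ ⁅Q, R⁆, a * y * a⁻¹ ∈ ⁅Q, R⁆ := by
  intro y hy
  have h1 : (⁅Q, R⁆).map (MulAut.conj a).toMonoidHom ≤ ⁅Q, R⁆ := by
    rw [Subgroup.map_commutator]
    exact Subgroup.commutator_mono (map_conj_le_of_conj_mem hQ) (map_conj_le_of_conj_mem hR)
  exact h1 ⟨y, hy, rfl⟩

theorem ainv_commutator (α : Equiv.Perm (Fin 3) →* M) {Q R : Subgroup M} (hQ : AInv α Q)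
    (hR : AInv α R) : AInv α ⁅Q, R⁆ := by
  intro g y hy
  exact commutator_conj_mem (hQ g) (hR g) y hy

theorem commutator_le_of_normalizes {Q R : Subgroup M}
    (h : R ≤ Subgroup.normalizer (Q : Set M)) : ⁅Q, R⁆ ≤ Q := by
  rw [Subgroup.commutator_le]
  intro y hy x hx
  have h1 : x * y⁻¹ * x⁻¹ ∈ Q := conj_mem_of_le_normalizer h hx (Q.inv_mem hy)
  have e : ⁅y, x⁆ = y * (x * y⁻¹ * x⁻¹) := by
    rw [commutatorElement_def]; group
  rw [e]
  exact Q.mul_mem hy h1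

/-- The elements of order dividing `q` in an abelian subgroup. -/
def omegaQ (Q : Subgroup M) (hQab : ∀ x ∈ Q, ∀ y ∈ Q, x * y = y * x) (q : ℕ) : Subgroup M where
  carrier := {y | y ∈ Q ∧ y ^ q = 1}
  one_mem' := ⟨Q.one_mem, one_pow _⟩
  mul_mem' := by
    rintro a b ⟨ha, ha'⟩ ⟨hb, hb'⟩
    refine ⟨Q.mul_mem ha hb, ?_⟩
    have hc : Commute a b := hQab a ha b hb
    rw [hc.mul_pow, ha', hb', one_mul]
  inv_mem' := by
    rintro a ⟨ha, ha'⟩
    exact ⟨Q.inv_mem ha, by rw [inv_pow, ha', inv_one]⟩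

theorem mem_omegaQ {Q : Subgroup M} {hQab : ∀ x ∈ Q, ∀ y ∈ Q, x * y = y * x} {q : ℕ} {y : M} :
    y ∈ omegaQ Q hQab q ↔ y ∈ Q ∧ y ^ q = 1 := Iff.rfl

theorem omegaQ_le {Q : Subgroup M} {hQab : ∀ x ∈ Q, ∀ y ∈ Q, x * y = y * x} {q : ℕ} :
    omegaQ Q hQab q ≤ Q := fun _ h => h.1

theorem omegaQ_conj_mem {Q : Subgroup M} {hQab : ∀ x ∈ Q, ∀ y ∈ Q, x * y = y * x} {q : ℕ}
    {a : M} (h : ∀ y ∈ Q, a * y * a⁻¹ ∈ Q) :
    ∀ y ∈ omegaQ Q hQab q, a * y * a⁻¹ ∈ omegaQ Q hQab q := by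
  rintro y ⟨hy, hy'⟩
  refine ⟨h y hy, ?_⟩
  rw [conj_pow, hy', mul_one, mul_inv_cancel]

end General

section Core

universe u

variable {M : Type u} [Group M] [Finite M]

theorem exists_min_R (α : Equiv.Perm (Fin 3) →* M) (Q₁ R₀ : Subgroup M) (hRα : AInv α R₀)
    (hn : ¬ R₀ ≤ Subgroup.centralizer (Q₁ : Set M)) :
    ∃ R : Subgroup M, R ≤ R₀ ∧ AInv α R ∧ ¬ R ≤ Subgroup.centralizer (Q₁ : Set M) ∧
      ∀ D : Subgroup M, D ≤ R → D ≠ R → AInv α D → D ≤ Subgroup.centralizer (Q₁ : Set M) := by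
  classical
  let S : Set (Subgroup M) :=
    {R | R ≤ R₀ ∧ AInv α R ∧ ¬ R ≤ Subgroup.centralizer (Q₁ : Set M)}
  have hfin : S.Finite := Set.toFinite S
  have hne : S.Nonempty := ⟨R₀, le_rfl, hRα, hn⟩
  obtain ⟨R, hR⟩ := hfin.exists_minimal hne
  refine ⟨R, hR.prop.1, hR.prop.2.1, hR.prop.2.2, ?_⟩
  intro D hDR hne hDα
  by_contra hD
  have hDS : D ∈ S := ⟨hDR.trans hR.prop.1, hDα, hD⟩
  exact hne (le_antisymm hDR (hR.le_of_le hDS hDR))

theorem exists_min_Q (α : Equiv.Perm (Fin 3) →* M) (Q₁ R : Subgroup M) (hQα : AInv α Q₁)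
    (hRQ : R ≤ Subgroup.normalizer (Q₁ : Set M))
    (hn : ¬ R ≤ Subgroup.centralizer (Q₁ : Set M)) :
    ∃ Q : Subgroup M, Q ≤ Q₁ ∧ AInv α Q ∧ R ≤ Subgroup.normalizer (Q : Set M) ∧
      ¬ R ≤ Subgroup.centralizer (Q : Set M) ∧
      ∀ Q' : Subgroup M, Q' ≤ Q → Q' ≠ Q → AInv α Q' →
        R ≤ Subgroup.normalizer (Q' : Set M) → Q' ≤ Subgroup.centralizer (R : Set M) := by
  classical
  let S : Set (Subgroup M) :=
    {Q | Q ≤ Q₁ ∧ AInv α Q ∧ R ≤ Subgroup.normalizer (Q : Set M) ∧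
      ¬ R ≤ Subgroup.centralizer (Q : Set M)}
  have hfin : S.Finite := Set.toFinite S
  have hne : S.Nonempty := ⟨Q₁, le_rfl, hQα, hRQ, hn⟩
  obtain ⟨Q, hQ⟩ := hfin.exists_minimal hne
  refine ⟨Q, hQ.prop.1, hQ.prop.2.1, hQ.prop.2.2.1, hQ.prop.2.2.2, ?_⟩
  intro Q' hQ'Q hne hQ'α hRQ'
  by_contra hD
  have hD' : ¬ R ≤ Subgroup.centralizer (Q' : Set M) := fun h =>
    hD (Subgroup.le_centralizer_iff.1 h)
  have hDS : Q' ∈ S := ⟨hQ'Q.trans hQ.prop.1, hQ'α, hRQ', hD'⟩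
  exact hne (le_antisymm hQ'Q (hQ.le_of_le hDS hQ'Q))

theorem core (hB3 : B3Statement.{u}) (α : Equiv.Perm (Fin 3) →* M)
    (r : ℕ) [Fact r.Prime] (hr6 : r.Coprime 6) (Q₁ R₀ : Subgroup M)
    (hQab : ∀ x ∈ Q₁, ∀ y ∈ Q₁, x * y = y * x) (hQ6 : (Nat.card Q₁).Coprime 6)
    (hQr : (Nat.card Q₁).Coprime r)
    (hR : IsPGroup r R₀) (hRQ : R₀ ≤ Subgroup.normalizer (Q₁ : Set M))
    (hQα : AInv α Q₁) (hRα : AInv α R₀) (hQfpf : AFpf α Q₁) (hRfpf : AFpf α R₀)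
    (hab : ⁅R₀, R₀⁆ ≤ Subgroup.centralizer (Q₁ : Set M))
    (hK : ∀ (q : ℕ) (Q R : Subgroup M), q.Prime → Q ≤ Q₁ → R ≤ R₀ → AInv α Q →
      R ≤ Subgroup.normalizer (Q : Set M) → Q ≠ ⊥ → (∀ z ∈ Q, z ^ q = 1) →
      ∃ K : Subgroup M, K ≤ Q ∧ K ≠ Q ∧ ∀ x ∈ R, ∃ g : Equiv.Perm (Fin 3), g ≠ 1 ∧
        ∀ y ∈ Q, (x⁻¹ * α g * x) * y * (x⁻¹ * α g * x)⁻¹ * y⁻¹ ∈ K) :
    R₀ ≤ Subgroup.centralizer (Q₁ : Set M) := by
  by_contra hn
  obtain ⟨R, hRR₀, hRα', hRn, hRmin⟩ := exists_min_R α Q₁ R₀ hRα hn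
  have hRQ₁ : R ≤ Subgroup.normalizer (Q₁ : Set M) := hRR₀.trans hRQ
  obtain ⟨Q, hQQ₁, hQα', hRQ', hQn, hQmin⟩ := exists_min_Q α Q₁ R hQα hRQ₁ hRn
  have hQab' : ∀ x ∈ Q, ∀ y ∈ Q, x * y = y * x :=
    fun x hx y hy => hQab x (hQQ₁ hx) y (hQQ₁ hy)
  have hRr : IsPGroup r R := hR.to_le hRR₀
  have hcardQ : Nat.card Q ∣ Nat.card Q₁ := Subgroup.card_dvd_of_le hQQ₁
  have hQr' : (Nat.card Q).Coprime r := Nat.Coprime.coprime_dvd_left hcardQ hQr
  obtain ⟨n, hn'⟩ := IsPGroup.iff_card.1 hRr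
  have hcop : (Nat.card R).Coprime (Nat.card Q) := by
    rw [hn']
    exact Nat.Coprime.pow_left n hQr'.symm
  have hsolv : Group.IsSolvable Q :=
    Group.isSolvable_of_comm (fun a b => Subtype.ext (hQab' a a.2 b b.2))
  have h27 := Cfsg.Agent.S0027.result R Q hRQ' hcop (Or.inr hsolv)
  have hQR : ⁅Q, R⁆ = Q := by
    by_contra hne
    have h1 : ⁅Q, R⁆ ≤ Q := commutator_le_of_normalizes hRQ'
    have h2 : AInv α ⁅Q, R⁆ := ainv_commutator α hQα' hRα'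
    have h3 : R ≤ Subgroup.normalizer ((⁅Q, R⁆ : Subgroup M) : Set M) :=
      le_normalizer_of_conj_mem (fun x hx => commutator_conj_mem
        (fun y hy => conj_mem_of_le_normalizer hRQ' hx hy)
        (fun y hy => R.mul_mem (R.mul_mem hx hy) (R.inv_mem hx)))
    have h4 := hQmin _ h1 hne h2 h3
    have h5 : ⁅⁅Q, R⁆, R⁆ = ⊥ := Subgroup.commutator_eq_bot_iff_le_centralizer.2 h4
    rw [h27] at h5
    exact hQn (Subgroup.le_centralizer_iff.1 (Subgroup.commutator_eq_bot_iff_le_centralizer.1 h5))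
  have hCQR : Q ⊓ Subgroup.centralizer (R : Set M) = ⊥ := by
    have hc : IsMulCommutative Q :=
      isMulCommutative_iff.2 (fun a b => Subtype.ext (hQab' a a.2 b b.2))
    have hrel : Nat.Coprime (Nat.card Q) (Q.relIndex (R ⊔ Q)) := by
      rw [Cfsg.Agent.Lib.Helper20.relIndex_sup_right_of_le_normalizer R Q hRQ']
      exact Nat.Coprime.coprime_dvd_right (Subgroup.relIndex_dvd_card Q R) hcop.symm
    have h := Cfsg.Agent.Lib.Helper03.commutator_inf_centralizer_inf_eq_bot_of_abelian_hall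
      Q (R ⊔ Q) le_sup_right hc hrel
    rw [eq_bot_iff]
    intro y hy
    obtain ⟨hyQ, hyC⟩ := Subgroup.mem_inf.1 hy
    rw [← h]
    refine Subgroup.mem_inf.2 ⟨Subgroup.mem_inf.2 ⟨?_, ?_⟩, hyQ⟩
    · have h1 : y ∈ ⁅Q, R⁆ := by rw [hQR]; exact hyQ
      exact Subgroup.commutator_mono le_sup_right le_sup_left h1
    · have h1 : R ⊔ Q ≤ Subgroup.centralizer ({y} : Set M) := by
        apply sup_le
        · intro x hx
          rw [Subgroup.mem_centralizer_singleton_iff]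
          exact Subgroup.mem_centralizer_iff.1 hyC x hx
        · intro x hx
          rw [Subgroup.mem_centralizer_singleton_iff]
          exact hQab' x hx y hyQ
      rw [Subgroup.mem_centralizer_iff]
      intro h hh
      exact Subgroup.mem_centralizer_singleton_iff.1 (h1 hh)
  have hQne : Q ≠ ⊥ := by
    intro hbot
    apply hQn
    intro x _
    rw [Subgroup.mem_centralizer_iff]
    intro h hh
    rw [hbot] at hh
    rw [Subgroup.mem_bot.1 hh, one_mul, mul_one]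
  have hcard1 : Nat.card Q ≠ 1 := fun h => hQne (Subgroup.card_eq_one.1 h)
  obtain ⟨q, hq, hqd⟩ := Nat.exists_prime_and_dvd hcard1
  have : Fact q.Prime := ⟨hq⟩
  have hΩ : omegaQ Q hQab' q = Q := by
    by_contra hne
    have h1 := hQmin _ omegaQ_le hne (fun g => omegaQ_conj_mem (hQα' g))
      (le_normalizer_of_conj_mem (fun x hx => omegaQ_conj_mem
        (fun y hy => conj_mem_of_le_normalizer hRQ' hx hy)))
    obtain ⟨y, hy⟩ := exists_prime_orderOf_dvd_card' q hqd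
    have hyq : (y : M) ^ q = 1 := by
      rw [← Subgroup.coe_pow, ← hy, pow_orderOf_eq_one]
      rfl
    have hyΩ : (y : M) ∈ omegaQ Q hQab' q := ⟨y.2, hyq⟩
    have h2 : (y : M) ∈ Q ⊓ Subgroup.centralizer (R : Set M) :=
      Subgroup.mem_inf.2 ⟨y.2, h1 hyΩ⟩
    rw [hCQR, Subgroup.mem_bot] at h2
    have h3 : y = 1 := Subtype.ext h2
    rw [h3, orderOf_one] at hy
    exact hq.one_lt.ne hy
  have hexp : ∀ z ∈ Q, z ^ q = 1 := by
    intro z hz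
    rw [← hΩ] at hz
    exact hz.2
  obtain ⟨K, hKQ, hKne, hUP⟩ := hK q Q R hq hQQ₁ hRR₀ hQα' hRQ' hQne hexp
  have hqQ₁ : q ∣ Nat.card Q₁ := hqd.trans hcardQ
  have hq6 : q.Coprime 6 := Nat.Coprime.coprime_dvd_left hqQ₁ hQ6
  have hqr' : q.Coprime r := Nat.Coprime.coprime_dvd_left hqQ₁ hQr
  have hqr : q ≠ r := by
    rintro rfl
    exact hq.one_lt.ne' ((Nat.coprime_self q).1 hqr')
  have hq2 : q ≠ 2 := by
    rintro rfl
    revert hq6
    decide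
  have hq3 : q ≠ 3 := by
    rintro rfl
    revert hq6
    decide
  have hr2 : r ≠ 2 := by
    rintro rfl
    revert hr6
    decide
  have hr3 : r ≠ 3 := by
    rintro rfl
    revert hr6
    decide
  have hQq : IsPGroup q Q := by
    intro y
    refine ⟨1, ?_⟩
    rw [pow_one]
    exact Subtype.ext (by simpa using hexp y y.2)
  have hQfpf' : AFpf α Q := fun x hx h => hQfpf x (hQQ₁ hx) h
  have hRfpf' : AFpf α R := fun x hx h => hRfpf x (hRR₀ hx) h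
  have hcent : Subgroup.centralizer (Q₁ : Set M) ≤ Subgroup.centralizer (Q : Set M) :=
    Subgroup.centralizer_le hQQ₁
  have hRab : ⁅R, R⁆ ≤ Subgroup.centralizer (Q : Set M) :=
    ((Subgroup.commutator_mono hRR₀ hRR₀).trans hab).trans hcent
  have hRmin' : ∀ D : Subgroup M, D ≤ R → D ≠ R → AInv α D →
      D ≤ Subgroup.centralizer (Q : Set M) :=
    fun D h1 h2 h3 => (hRmin D h1 h2 h3).trans hcent
  exact hB3 α q r hqr hr2 hr3 hq2 hq3 Q R K hQab' hQq hRr hRQ' hQα' hRα' hQfpf' hRfpf' hRab hCQR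
    hQmin hRmin' hKQ hKne hUP

end Core

section Main

universe u

/-- (E4) no three-layer configuration: an invariant `r`-group acting on an invariant abelian
`r'`-group of automorphisms, with derived subgroup acting trivially, acts trivially. -/
theorem no_three_layer (hHyp : HyperplaneStatement.{u}) (hS1 : Step1Statement.{u})
    (hB3 : B3Statement.{u}) {V : Type u} [CommGroup V] [Finite V] {t : ℕ} (ht : t.Prime)
    (ht6 : t.Coprime 6) (hV : ∀ v : V, v ^ t = 1)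
    (α : Equiv.Perm (Fin 3) →* MulAut V) (hVfpf : ∀ v : V, (∀ g, α g v = v) → v = 1)
    (r : ℕ) [Fact r.Prime] (hr6 : r.Coprime 6) (Q₁ R₀ : Subgroup (MulAut V))
    (hQab : ∀ x ∈ Q₁, ∀ y ∈ Q₁, x * y = y * x) (hQ6 : (Nat.card Q₁).Coprime 6)
    (hQr : (Nat.card Q₁).Coprime r) (hQt : (Nat.card Q₁).Coprime t)
    (hR : IsPGroup r R₀) (hRQ : R₀ ≤ Subgroup.normalizer (Q₁ : Set (MulAut V)))
    (hQα : AInv α Q₁) (hRα : AInv α R₀) (hQfpf : AFpf α Q₁) (hRfpf : AFpf α R₀)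
    (hab : ⁅R₀, R₀⁆ ≤ Subgroup.centralizer (Q₁ : Set (MulAut V))) :
    R₀ ≤ Subgroup.centralizer (Q₁ : Set (MulAut V)) := by
  have : Fact t.Prime := ⟨ht⟩
  have hVt : IsPGroup t V := fun v => ⟨1, by rw [pow_one]; exact hV v⟩
  obtain ⟨n, hn⟩ := IsPGroup.iff_card.1 hVt
  have hV6 : (Nat.card V).Coprime 6 := by
    rw [hn]
    exact Nat.Coprime.pow_left n ht6
  apply core hB3 α r hr6 Q₁ R₀ hQab hQ6 hQr hR hRQ hQα hRα hQfpf hRfpf hab
  intro q Q R hq hQQ₁ _ hQα' hRQ' hQne hexp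
  have hQab' : ∀ x ∈ Q, ∀ y ∈ Q, x * y = y * x :=
    fun x hx y hy => hQab x (hQQ₁ hx) y (hQQ₁ hy)
  have hcardQ : Nat.card Q ∣ Nat.card Q₁ := Subgroup.card_dvd_of_le hQQ₁
  have hcopV : (Nat.card V).Coprime (Nat.card Q) := by
    rw [hn]
    exact Nat.Coprime.pow_left n (Nat.Coprime.coprime_dvd_left hcardQ hQt).symm
  obtain ⟨K, hKQ, hcard, hW⟩ := hHyp hq Q hQab' hexp hQne hcopV
  refine ⟨K, hKQ, ?_, ?_⟩
  · intro hKe
    rw [hKe] at hcard
    have hpos : 0 < Nat.card Q := Nat.card_pos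
    have h1 : 1 * Nat.card Q = q * Nat.card Q := by rw [one_mul]; exact hcard
    have h2 : 1 = q := Nat.eq_of_mul_eq_mul_right hpos h1
    exact hq.one_lt.ne h2
  · intro x hx
    have hxQ : ∀ z ∈ Q, x * z * x⁻¹ ∈ Q :=
      fun z hz => conj_mem_of_le_normalizer hRQ' hx hz
    have hW' : Wsub Q (conjSub x K) ≠ ⊥ := by
      intro hbot
      apply hW
      rw [eq_bot_iff]
      intro w hw
      have h1 := apply_mem_Wsub hxQ hw
      rw [hbot, Subgroup.mem_bot] at h1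
      rw [Subgroup.mem_bot]
      have h2 := congrArg (x⁻¹ : MulAut V) h1
      rwa [MulAut.inv_apply_self, map_one] at h2
    obtain ⟨g, hg1, hg⟩ := hS1 hq α hVfpf hV6 Q (conjSub x K) hQab' hQα' (conjSub_le hKQ hxQ)
      (by rw [card_conjSub]; exact hcard) hcopV hW'
    refine ⟨g, hg1, ?_⟩
    intro y hy
    obtain ⟨k, hk, hke⟩ := mem_conjSub.1 (hg (x * y * x⁻¹) (hxQ y hy))
    have e : (x⁻¹ * α g * x) * y * (x⁻¹ * α g * x)⁻¹ * y⁻¹
        = x⁻¹ * (α g * (x * y * x⁻¹) * (α g)⁻¹ * (x * y * x⁻¹)⁻¹) * x := by group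
    rw [e, ← hke]
    have e2 : x⁻¹ * (x * k * x⁻¹) * x = k := by group
    rw [e2]
    exact hk

end Main

end Cfsg.Agent.Lib.Helper31.S3E4
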