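import Mathlib
import Cfsg.Prelude.Def_Transfer
import Cfsg.Agent.Lib.Helper03.CentralTransfer
import Cfsg.Agent.Lib.Helper73.Ito
import Cfsg.Agent.Lib.Helper21.SqFL5

/-!
# S4130 keystone L8a (helper73's spec `notes/S4130_SqFSpec.lean.txt`)

`G' ≤ P`, `P` an abelian Sylow `p`-subgroup, class sizes `p²`-free  ⟹  `|G'| ∣ p`.
The dichotomy lemma L5 is taken as a hypothesis in `card_commutator_dvd_of_abelian_sylow_aux`.
-/

set_option autoImplicit false

namespace Cfsg.Agent.Lib.Helper31.SqF

open Subgroup

universe u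

section Basic

variable {G : Type u} [Group G] [Finite G]

/-- For `P` normal, `|P : P ∩ C| = |CP : C|`. -/
theorem relIndex_eq_relIndex_sup_of_normal (P C : Subgroup G) [P.Normal] :
    C.relIndex P = C.relIndex (C ⊔ P) := by
  have h1 := Cfsg.Agent.Lib.Helper73.relIndex_mul_card_inf C (C ⊔ P)
  have h2 := Cfsg.Agent.Lib.Helper73.relIndex_mul_card_inf P (C ⊔ P)
  have h3 := Cfsg.Agent.Lib.Helper73.relIndex_mul_card_inf P C
  have h4 := Cfsg.Agent.Lib.Helper73.relIndex_mul_card_inf C P
  rw [inf_sup_self] at h1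
  rw [sup_comm, inf_sup_self, sup_comm, Subgroup.relIndex_sup_right] at h2
  rw [inf_comm] at h4
  have hpos : 0 < Nat.card (P ⊓ C : Subgroup G) := Nat.card_pos
  have hposC : 0 < Nat.card C := Nat.card_pos
  -- card (C ⊔ P) = relIndex C (C ⊔ P) * card C = P.relIndex C * card P
  have h5 : C.relIndex (C ⊔ P) * Nat.card C = C.relIndex P * Nat.card C := by
    calc C.relIndex (C ⊔ P) * Nat.card C = Nat.card (C ⊔ P : Subgroup G) := h1
      _ = P.relIndex C * Nat.card P := h2.symm
      _ = P.relIndex C * (C.relIndex P * Nat.card (P ⊓ C : Subgroup G)) := by rw [h4]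
      _ = C.relIndex P * (P.relIndex C * Nat.card (P ⊓ C : Subgroup G)) := by ring
      _ = C.relIndex P * Nat.card C := by rw [h3]
  exact (Nat.eq_of_mul_eq_mul_right hposC h5).symm

theorem relIndex_dvd_index_of_normal_right (P C : Subgroup G) [P.Normal] :
    C.relIndex P ∣ C.index := by
  rw [relIndex_eq_relIndex_sup_of_normal]
  exact Subgroup.relIndex_dvd_index_of_le le_sup_left

/-- class sizes `p²`-free: every element centralizes a subgroup of index `1` or `p` in the normal
Sylow `p`-subgroup. -/
theorem relIndex_centralizer_dvd_prime (p : ℕ) [Fact p.Prime] (P : Sylow p G)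
    [(P : Subgroup G).Normal] (g : G)
    (h : ¬ p ^ 2 ∣ (centralizer ({g} : Set G)).index) :
    (centralizer ({g} : Set G)).relIndex (P : Subgroup G) ∣ p := by
  have hp : p.Prime := Fact.out
  have h1 : (centralizer ({g} : Set G)).relIndex (P : Subgroup G) ∣ Nat.card (P : Subgroup G) :=
    Subgroup.relIndex_dvd_card _ _
  obtain ⟨n, hn⟩ := IsPGroup.iff_card.1 P.isPGroup'
  rw [hn] at h1
  obtain ⟨j, -, hj⟩ := (Nat.dvd_prime_pow hp).1 h1
  have h2 := relIndex_dvd_index_of_normal_right (P : Subgroup G) (centralizer ({g} : Set G))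
  rw [hj] at h2 ⊢
  rcases Nat.lt_or_ge j 2 with hlt | hge
  · interval_cases j
    · simp
    · simp
  · exfalso
    exact h (dvd_trans (pow_dvd_pow p hge) h2)

/-- quotient form of the central transfer lemma: if `G' ≤ P` and `P / N` is central in `G / N`
then `G' ≤ N`. -/
theorem commutator_le_of_central_quotient (p : ℕ) [Fact p.Prime] (P : Sylow p G)
    (N : Subgroup G) [hN : N.Normal] (hG' : commutator G ≤ (P : Subgroup G))
    (hc : ∀ g : G, ∀ x ∈ (P : Subgroup G), g * x * g⁻¹ * x⁻¹ ∈ N) :
    commutator G ≤ N := by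
  intro z hz
  have hzP := hG' hz
  have hf : Function.Surjective (QuotientGroup.mk' N) := QuotientGroup.mk'_surjective N
  have hcomm : ∀ g : G, ∀ x ∈ (P : Subgroup G),
      (QuotientGroup.mk' N) g * (QuotientGroup.mk' N) x =
        (QuotientGroup.mk' N) x * (QuotientGroup.mk' N) g := by
    intro g x hx
    have h3 : (QuotientGroup.mk' N) (g * x * g⁻¹ * x⁻¹) = 1 :=
      (QuotientGroup.eq_one_iff _).2 (hc g x hx)
    rw [map_mul, map_mul, map_mul, map_inv, map_inv] at h3
    have h4 := mul_inv_eq_one.1 h3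
    have h5 := mul_inv_eq_iff_eq_mul.1 h4
    exact h5
  let Pb : Sylow p (G ⧸ N) := P.mapSurjective hf
  have hPb : (Pb : Subgroup (G ⧸ N)) = (P : Subgroup G).map (QuotientGroup.mk' N) :=
    Sylow.coe_mapSurjective hf P
  have h1 : (QuotientGroup.mk' N) z ∈ (Pb : Subgroup (G ⧸ N)) := by
    rw [hPb]; exact ⟨z, hzP, rfl⟩
  have h2 : (QuotientGroup.mk' N) z ∈ Subgroup.center (G ⧸ N) := by
    rw [Subgroup.mem_center_iff]
    intro gb
    obtain ⟨g, rfl⟩ := hf gb
    exact hcomm g z hzP
  have h3 : (QuotientGroup.mk' N) z ∈ commutator (G ⧸ N) := by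
    have : commutator (G ⧸ N) = (commutator G).map (QuotientGroup.mk' N) := by
      rw [_root_.commutator_def, _root_.commutator_def, Subgroup.map_commutator,
        ← MonoidHom.range_eq_map, MonoidHom.range_eq_top.2 hf]
    rw [this]
    exact ⟨z, hz, rfl⟩
  have h4 := Cfsg.Agent.Lib.Helper03.mem_commutator_sylow_of_mem_center_of_mem_commutator
    Pb ((QuotientGroup.mk' N) z) h1 h2 h3
  have h5 : commutator ↥(Pb : Subgroup (G ⧸ N)) = ⊥ := by
    rw [_root_.commutator_def, Subgroup.commutator_eq_bot_iff_le_centralizer]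
    intro a _
    rw [Subgroup.mem_centralizer_iff]
    intro b _
    apply Subtype.ext
    have ha : (a : G ⧸ N) ∈ (P : Subgroup G).map (QuotientGroup.mk' N) := hPb ▸ a.2
    have hb : (b : G ⧸ N) ∈ (P : Subgroup G).map (QuotientGroup.mk' N) := hPb ▸ b.2
    obtain ⟨x, hx, hxa⟩ := ha
    obtain ⟨y, hy, hyb⟩ := hb
    rw [Subgroup.coe_mul, Subgroup.coe_mul, ← hxa, ← hyb]
    exact (hcomm x y hy).symm
  rw [h5, Subgroup.mem_bot] at h4
  have h6 : (QuotientGroup.mk' N) z = 1 := congrArg Subtype.val h4
  exact (QuotientGroup.eq_one_iff z).1 h6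

end Basic

section Main

variable {G : Type u} [Group G] [Finite G]

/-- L8a with the dichotomy lemma L5 (for `N = P`, `q = p`) as a hypothesis. -/
theorem card_commutator_dvd_of_abelian_sylow_aux (p : ℕ) [Fact p.Prime] (P : Sylow p G)
    (hG' : commutator G ≤ (P : Subgroup G))
    (hab : ∀ a ∈ (P : Subgroup G), ∀ b ∈ (P : Subgroup G), a * b = b * a)
    (h : ∀ x : G, ¬ p ^ 2 ∣ (centralizer ({x} : Set G)).index)
    (hdich : (∀ g₁ g₂ : G, ¬ (P : Subgroup G) ≤ centralizer ({g₁} : Set G) →
          ¬ (P : Subgroup G) ≤ centralizer ({g₂} : Set G) →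
          (P : Subgroup G) ⊓ centralizer ({g₁} : Set G) =
            (P : Subgroup G) ⊓ centralizer ({g₂} : Set G)) ∨
        (∃ L : Subgroup G, L ≤ (P : Subgroup G) ∧ Nat.card L = p ∧
          ∀ g : G, ∀ n ∈ (P : Subgroup G), g * n * g⁻¹ * n⁻¹ ∈ L)) :
    Nat.card (commutator G) ∣ p := by
  have hp : p.Prime := Fact.out
  have hPn : (P : Subgroup G).Normal := Subgroup.Normal.of_commutator_le (G := G) hG'
  -- central transfer: `G' ∩ Z(G) = 1`
  have hTL : ∀ z ∈ commutator G, z ∈ Subgroup.center G → z = 1 := by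
    intro z hz hzZ
    have hzP := hG' hz
    have h4 := Cfsg.Agent.Lib.Helper03.mem_commutator_sylow_of_mem_center_of_mem_commutator
      P z hzP hzZ hz
    have h5 : commutator ↥(P : Subgroup G) = ⊥ := by
      rw [_root_.commutator_def, Subgroup.commutator_eq_bot_iff_le_centralizer]
      intro a _
      rw [Subgroup.mem_centralizer_iff]
      intro b _
      apply Subtype.ext
      exact hab b b.2 a a.2
    rw [h5, Subgroup.mem_bot] at h4
    exact congrArg Subtype.val h4
  rcases hdich with h1 | ⟨L, hLP, hLc, hL⟩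
  · by_cases hall : ∀ g : G, (P : Subgroup G) ≤ centralizer ({g} : Set G)
    · have hbot : commutator G = ⊥ := by
        rw [Subgroup.eq_bot_iff_forall]
        intro z hz
        apply hTL z hz
        rw [Subgroup.mem_center_iff]
        intro g
        have := hall g (hG' hz)
        rw [Subgroup.mem_centralizer_singleton_iff] at this
        exact this.symm
      rw [hbot, Subgroup.card_bot]
      exact one_dvd p
    · push Not at hall
      obtain ⟨g₀, hg₀⟩ := hall
      set H0 : Subgroup G := (P : Subgroup G) ⊓ centralizer ({g₀} : Set G) with hH0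
      have hH0P : H0 ≤ (P : Subgroup G) := inf_le_left
      have hH0Z : H0 ≤ Subgroup.center G := by
        intro x hx
        rw [Subgroup.mem_center_iff]
        intro g
        by_cases hg : (P : Subgroup G) ≤ centralizer ({g} : Set G)
        · have := hg (Subgroup.mem_inf.1 hx).1
          rw [Subgroup.mem_centralizer_singleton_iff] at this
          exact this.symm
        · have h2 := h1 g g₀ hg hg₀
          have h3 : x ∈ (P : Subgroup G) ⊓ centralizer ({g} : Set G) := by rw [h2]; exact hx
          have h4 := (Subgroup.mem_inf.1 h3).2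
          rw [Subgroup.mem_centralizer_singleton_iff] at h4
          exact h4.symm
      have hinf : commutator G ⊓ H0 = ⊥ := by
        rw [Subgroup.eq_bot_iff_forall]
        intro z hz
        exact hTL z (Subgroup.mem_inf.1 hz).1 (hH0Z (Subgroup.mem_inf.1 hz).2)
      have hrel : H0.relIndex (P : Subgroup G) = p := by
        rw [hH0, Subgroup.inf_relIndex_left]
        have hd := relIndex_centralizer_dvd_prime p P g₀ (h g₀)
        rcases (Nat.dvd_prime hp).1 hd with h1' | h1'
        · exfalso; exact hg₀ (Subgroup.relIndex_eq_one.1 h1')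
        · exact h1'
      have e1 := Cfsg.Agent.Lib.Helper73.relIndex_mul_card_inf (commutator G)
        (H0 ⊔ commutator G)
      have e2 := Cfsg.Agent.Lib.Helper73.relIndex_mul_card_inf (commutator G) H0
      have e3 := Cfsg.Agent.Lib.Helper73.relIndex_mul_card_inf H0 (P : Subgroup G)
      rw [Subgroup.relIndex_sup_right, sup_comm, inf_sup_self] at e1
      rw [hinf, Subgroup.card_bot, mul_one] at e2
      rw [inf_of_le_left hH0P, hrel] at e3
      -- `card (H0 ⊔ G') = card H0 * card G'` divides `card P = p * card H0`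
      have hle : commutator G ⊔ H0 ≤ (P : Subgroup G) := sup_le hG' hH0P
      have hdvd := Subgroup.card_dvd_of_le hle
      rw [← e1, e2, ← e3] at hdvd
      have hpos : 0 < Nat.card H0 := Nat.card_pos
      rw [mul_comm p] at hdvd
      exact Nat.dvd_of_mul_dvd_mul_left hpos hdvd
  · have hLn : L.Normal := by
      constructor
      intro l hl g
      have h2 := hL g l (hLP hl)
      have e : g * l * g⁻¹ = (g * l * g⁻¹ * l⁻¹) * l := by group
      rw [e]
      exact L.mul_mem h2 hl
    have h3 := commutator_le_of_central_quotient p P L hG' hL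
    rw [← hLc]
    exact Subgroup.card_dvd_of_le h3

end Main

/-- **L8a** (E0, abelian normal Sylow): exact statement of `notes/S4130_SqFSpec.lean.txt`. -/
theorem card_commutator_dvd_of_abelian_sylow {G : Type u} [Group G] [Finite G] (p : ℕ)
    [Fact p.Prime] (P : Sylow p G) (hG' : commutator G ≤ (P : Subgroup G))
    (hab : ∀ a ∈ (P : Subgroup G), ∀ b ∈ (P : Subgroup G), a * b = b * a)
    (h : ∀ x : G, ¬ p ^ 2 ∣ (centralizer ({x} : Set G)).index) :
    Nat.card (commutator G) ∣ p := by
  have hPn : (P : Subgroup G).Normal := Subgroup.Normal.of_commutator_le (G := G) hG'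
  apply card_commutator_dvd_of_abelian_sylow_aux p P hG' hab h
  refine Cfsg.Agent.Lib.Helper21.SqF.dichotomy p (P : Subgroup G) hab (fun g => ?_)
  rw [Subgroup.inf_relIndex_left]
  exact relIndex_centralizer_dvd_prime p P g (h g)

end Cfsg.Agent.Lib.Helper31.SqF
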