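import Mathlib
import Cfsg.Prelude.Def_Transfer
import Cfsg.Agent.Lib.Helper31.SqFL8a
import Cfsg.Agent.Lib.Helper60.SqFL7
import Cfsg.Agent.Lib.Helper46.SqFL8b

/-!
# S4130 keystone L8 (helper73's spec `notes/S4130_SqFSpec.lean.txt`)

`G'` a `p`-group and class sizes `p²`-free  ⟹  `|G'| ∣ p`.
Glue of L7 (Knoche), L8a, L8b, taken as hypotheses in `card_commutator_dvd_of_isPGroup_aux`.
-/

set_option autoImplicit false

namespace Cfsg.Agent.Lib.Helper31.SqF

open Subgroup
open scoped commutatorElement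

universe u

section Glue

variable {G : Type u} [Group G] [Finite G]

/-- class sizes of a normal Sylow `p`-subgroup are `p²`-free if those of `G` are. -/
theorem sylow_class_sizes (p : ℕ) [Fact p.Prime] (P : Sylow p G) [(P : Subgroup G).Normal]
    (h : ∀ x : G, ¬ p ^ 2 ∣ (centralizer ({x} : Set G)).index) :
    ∀ x : ↥(P : Subgroup G),
      ¬ p ^ 2 ∣ (centralizer ({x} : Set ↥(P : Subgroup G))).index := by
  intro x hx
  have hp : p.Prime := Fact.out
  have e : centralizer ({x} : Set ↥(P : Subgroup G)) =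
      (centralizer ({(x : G)} : Set G)).subgroupOf (P : Subgroup G) := by
    ext y
    rw [Subgroup.mem_subgroupOf, Subgroup.mem_centralizer_singleton_iff,
      Subgroup.mem_centralizer_singleton_iff, Subtype.ext_iff]
    rfl
  rw [e] at hx
  have h1 : (centralizer ({(x : G)} : Set G)).relIndex (P : Subgroup G) ∣ p :=
    relIndex_centralizer_dvd_prime p P (x : G) (h x)
  have h2 : p ^ 2 ∣ p := dvd_trans hx h1
  have h3 := Nat.le_of_dvd hp.pos h2
  have h4 : p < p ^ 2 := by
    calc p = p ^ 1 := (pow_one p).symm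
      _ < p ^ 2 := Nat.pow_lt_pow_right hp.one_lt (by norm_num)
  omega

/-- L8 with L7, L8a, L8b as hypotheses. -/
theorem card_commutator_dvd_of_isPGroup_aux (p : ℕ) [Fact p.Prime]
    (hG' : IsPGroup p (commutator G))
    (h : ∀ x : G, ¬ p ^ 2 ∣ (centralizer ({x} : Set G)).index)
    (hL7 : ∀ (Q : Type u) [Group Q] [Finite Q], IsPGroup p Q →
      (∀ x : Q, ¬ p ^ 2 ∣ (centralizer ({x} : Set Q)).index) → Nat.card (commutator Q) ∣ p)
    (hL8a : ∀ P : Sylow p G, commutator G ≤ (P : Subgroup G) →
      (∀ a ∈ (P : Subgroup G), ∀ b ∈ (P : Subgroup G), a * b = b * a) →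
      Nat.card (commutator G) ∣ p)
    (hL8b : ∀ P : Sylow p G, (P : Subgroup G).Normal →
      (¬ ∀ a ∈ (P : Subgroup G), ∀ b ∈ (P : Subgroup G), a * b = b * a) →
      ∀ g : G, (orderOf g).Coprime p → g ∈ centralizer ((P : Subgroup G) : Set G)) :
    Nat.card (commutator G) ∣ p := by
  have hp : p.Prime := Fact.out
  obtain ⟨P, hP⟩ := hG'.exists_le_sylow
  have hPn : (P : Subgroup G).Normal := Subgroup.Normal.of_commutator_le (G := G) hP
  by_cases hab : ∀ a ∈ (P : Subgroup G), ∀ b ∈ (P : Subgroup G), a * b = b * a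
  · exact hL8a P hP hab
  · have hcen := hL8b P hPn hab
    have huniq : Unique (Sylow p G) := Sylow.unique_of_normal P hPn
    have hpel : ∀ u : G, (∃ a : ℕ, orderOf u = p ^ a) → u ∈ (P : Subgroup G) := by
      rintro u ⟨a, hua⟩
      have hz : IsPGroup p (Subgroup.zpowers u) := by
        apply IsPGroup.of_card (n := a)
        rw [Nat.card_zpowers, hua]
      obtain ⟨Q, hQ⟩ := hz.exists_le_sylow
      have hQP : Q = P := Subsingleton.elim Q P
      rw [← hQP]
      exact hQ (Subgroup.mem_zpowers u)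
    have hc : ∀ g : G, ∀ x ∈ (P : Subgroup G),
        g * x * g⁻¹ * x⁻¹ ∈ ⁅(P : Subgroup G), (P : Subgroup G)⁆ := by
      intro g x hx
      obtain ⟨u, v, huv, -, -, hu, hv⟩ := Cfsg.Agent.Lib.Helper73.dec' g p hp
      have huP := hpel u hu
      have hvc := hcen v hv
      have hvx : x * v = v * x := Subgroup.mem_centralizer_iff.1 hvc x hx
      have e : g * x * g⁻¹ * x⁻¹ = ⁅u, x⁆ := by
        rw [← huv, commutatorElement_def]
        have : u * v * x * (u * v)⁻¹ = u * x * u⁻¹ := by
          rw [mul_inv_rev, mul_assoc u v x, ← hvx]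
          group
        rw [this]
      rw [e]
      exact Subgroup.commutator_mem_commutator huP hx
    have h3 := commutator_le_of_central_quotient p P
      (⁅(P : Subgroup G), (P : Subgroup G)⁆ : Subgroup G) hP hc
    have h4 : Nat.card ↥(⁅(P : Subgroup G), (P : Subgroup G)⁆ : Subgroup G) =
        Nat.card (commutator ↥(P : Subgroup G)) := by
      rw [← Subgroup.map_subtype_commutator]
      exact Subgroup.card_map_of_injective (P : Subgroup G).subtype_injective
    have h5 := hL7 ↥(P : Subgroup G) P.isPGroup' (sylow_class_sizes p P h)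
    exact dvd_trans (Subgroup.card_dvd_of_le h3) (h4 ▸ h5)

end Glue

/-- **L8** (E0): exact statement of `notes/S4130_SqFSpec.lean.txt`. -/
theorem card_commutator_dvd_of_isPGroup {G : Type u} [Group G] [Finite G] (p : ℕ) [Fact p.Prime]
    (hG' : IsPGroup p (commutator G))
    (h : ∀ x : G, ¬ p ^ 2 ∣ (centralizer ({x} : Set G)).index) :
    Nat.card (commutator G) ∣ p := by
  apply card_commutator_dvd_of_isPGroup_aux p hG' h
  · intro Q _ _ hQ hQc
    exact Cfsg.Agent.Lib.Helper60.SqF.card_commutator_dvd_of_pgroup p hQ hQc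
  · intro P hP hab
    exact card_commutator_dvd_of_abelian_sylow p P hP hab h
  · intro P hPn hnab g hg
    exact Cfsg.Agent.Lib.Helper46.SqF.coprime_centralizes_of_nonabelian_sylow p P hnab h g hg

end Cfsg.Agent.Lib.Helper31.SqF
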