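import Cfsg.Agent.Lib.Helper31.AltFreeSub
set_option autoImplicit false
set_option linter.unusedSectionVars false
namespace Cfsg.Agent.Lib.Helper31.AltFree
open Equiv Equiv.Perm Cfsg.Agent.Lib.Helper45.AltFree
variable {α : Type*} [Fintype α] [DecidableEq α]

theorem mem_orb_iff_sameCycle (w : Perm α) (z x : α) : x ∈ orb w z ↔ w.SameCycle z x := by
  rw [mem_orb]
  constructor
  · rintro ⟨i, h⟩; exact ⟨(i : ℤ), by simpa using h⟩
  · intro h; exact h.exists_nat_pow_eq

theorem support_cycleOf_eq_orb (w : Perm α) (x : α) (hx : w x ≠ x) :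
    (w.cycleOf x).support = orb w x := by
  ext y
  rw [mem_support_cycleOf_iff' hx, mem_orb_iff_sameCycle]

theorem card_support_cycleOf (w : Perm α) (x : α) (hx : w x ≠ x) :
    (w.cycleOf x).support.card = Function.minimalPeriod w x := by
  rw [support_cycleOf_eq_orb w x hx, card_orb]

theorem sameCycle_of_per_eq (w : Perm α) (h : Subgroup.centralizer {w} ≤ alternatingGroup α)
    (x z : α) (hxz : Function.minimalPeriod w x = Function.minimalPeriod w z) :
    w.SameCycle x z := by
  obtain ⟨_, hfix, hcount⟩ := Equiv.Perm.centralizer_le_alternating_iff.mp h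
  by_cases hx : w x = x
  · have hz : w z = z := by
      have h1 : Function.minimalPeriod w x = 1 :=
        Function.minimalPeriod_eq_one_iff_isFixedPt.mpr hx
      rw [hxz] at h1
      exact Function.minimalPeriod_eq_one_iff_isFixedPt.mp h1
    by_contra hne
    have hxz' : x ≠ z := fun e => hne (e ▸ SameCycle.refl _ _)
    have hsub : ({x, z} : Finset α) ⊆ Finset.univ \ w.support := by
      intro y hy
      rw [Finset.mem_insert, Finset.mem_singleton] at hy
      rw [Finset.mem_sdiff]
      refine ⟨Finset.mem_univ _, ?_⟩
      rw [Perm.notMem_support]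
      rcases hy with rfl | rfl
      · exact hx
      · exact hz
    have h2 := Finset.card_le_card hsub
    rw [Finset.card_pair hxz', Finset.card_sdiff_of_subset (Finset.subset_univ _), Finset.card_univ] at h2
    rw [sum_cycleType] at hfix
    omega
  · have hz : w z ≠ z := by
      intro hz
      have h1 : Function.minimalPeriod w z = 1 :=
        Function.minimalPeriod_eq_one_iff_isFixedPt.mpr hz
      rw [← hxz] at h1
      exact hx (Function.minimalPeriod_eq_one_iff_isFixedPt.mp h1)
    rw [sameCycle_iff_cycleOf_eq_of_mem_support (mem_support.mpr hx) (mem_support.mpr hz)]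
    by_contra hne
    have h1 : w.cycleOf x ∈ w.cycleFactorsFinset :=
      cycleOf_mem_cycleFactorsFinset_iff.mpr (mem_support.mpr hx)
    have h2 : w.cycleOf z ∈ w.cycleFactorsFinset :=
      cycleOf_mem_cycleFactorsFinset_iff.mpr (mem_support.mpr hz)
    have hnd : (w.cycleOf x ::ₘ {w.cycleOf z} : Multiset (Perm α)).Nodup := by
      rw [Multiset.nodup_cons]
      exact ⟨by simpa using hne, Multiset.nodup_singleton _⟩
    have hle : (w.cycleOf x ::ₘ {w.cycleOf z} : Multiset (Perm α)) ≤ w.cycleFactorsFinset.1 := by
      rw [Multiset.le_iff_subset hnd]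
      intro c hc
      rw [Multiset.mem_cons, Multiset.mem_singleton] at hc
      rcases hc with rfl | rfl
      · exact h1
      · exact h2
    have h3 := Multiset.map_le_map hle (f := Finset.card ∘ support)
    rw [← cycleType_def] at h3
    have hc := Multiset.count_le_of_le (Function.minimalPeriod w x) h3
    have hc2 := hcount (Function.minimalPeriod w x)
    simp only [Multiset.map_cons, Multiset.map_singleton, Function.comp_apply,
      card_support_cycleOf w x hx, card_support_cycleOf w z hz, hxz] at hc
    rw [Multiset.count_cons_self, Multiset.count_singleton_self] at hc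
    rw [hxz] at hc2
    omega


theorem sameCycle_of_centralizer_le (w : Perm α) (p : ℕ) (hp : p.Prime) (hw : IsPE p w)
    (h : Subgroup.centralizer {w} ≤ alternatingGroup α) (Y : Finset α)
    (hY : ∀ x, x ∈ Y ↔ w x ∈ Y) (a : ℕ) (hYc : Y.card = p ^ a) :
    ∀ x ∈ Y, ∀ z ∈ Y, w.SameCycle x z := by
  have hYne : Y.Nonempty := by
    rw [← Finset.card_pos, hYc]; exact pow_pos hp.pos a
  obtain ⟨x0, hx0, hmax⟩ := Finset.exists_max_image Y (fun x => Function.minimalPeriod w x) hYne
  obtain ⟨b, hb⟩ := per_isPow w p hp hw x0
  have hsub : orb w x0 ⊆ Y := by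
    intro y hy
    obtain ⟨i, rfl⟩ := (mem_orb w x0 y).mp hy
    exact (inv_pow_mem w Y hY i x0).mp hx0
  have h1 : p ^ b ≤ p ^ a := by
    rw [← hb, ← card_orb, ← hYc]; exact Finset.card_le_card hsub
  have h2 : Y.card < p ^ (b + 1) := by
    have hcov : Y ⊆ (Finset.range (b + 1)).biUnion
        (fun i => Finset.univ.filter (fun y => Function.minimalPeriod w y = p ^ i)) := by
      intro y hy
      obtain ⟨i, hi⟩ := per_isPow w p hp hw y
      have := hmax y hy
      simp only [hi, hb] at this
      have hib : i ≤ b := (Nat.pow_le_pow_iff_right hp.one_lt).mp this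
      rw [Finset.mem_biUnion]
      exact ⟨i, Finset.mem_range.mpr (by omega),
        Finset.mem_filter.mpr ⟨Finset.mem_univ _, hi⟩⟩
    have hP : ∀ i, (Finset.univ.filter
        (fun y => Function.minimalPeriod w y = p ^ i)).card ≤ p ^ i := by
      intro i
      rcases Finset.eq_empty_or_nonempty (Finset.univ.filter
        (fun y => Function.minimalPeriod w y = p ^ i)) with he | ⟨y, hy⟩
      · rw [he]; simp
      · have hyp := (Finset.mem_filter.mp hy).2
        have hle : (Finset.univ.filter
            (fun y => Function.minimalPeriod w y = p ^ i)).card ≤ (orb w y).card := by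
          apply Finset.card_le_card
          intro y' hy'
          rw [mem_orb_iff_sameCycle]
          exact sameCycle_of_per_eq w h y y' (by rw [hyp, (Finset.mem_filter.mp hy').2])
        rw [card_orb, hyp] at hle
        exact hle
    calc Y.card ≤ _ := Finset.card_le_card hcov
      _ ≤ ∑ i ∈ Finset.range (b + 1), (Finset.univ.filter
          (fun y => Function.minimalPeriod w y = p ^ i)).card := Finset.card_biUnion_le
      _ ≤ ∑ i ∈ Finset.range (b + 1), p ^ i := Finset.sum_le_sum (fun i _ => hP i)
      _ < p ^ (b + 1) := Nat.geomSum_lt hp.two_le (fun k hk => Finset.mem_range.mp hk)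
  have h3 : a ≤ b := by
    rw [hYc] at h2
    have := (Nat.pow_lt_pow_iff_right hp.one_lt).mp h2
    omega
  have h4 : orb w x0 = Y := Finset.eq_of_subset_of_card_le hsub (by
    rw [card_orb, hb, hYc]; exact Nat.pow_le_pow_right hp.pos h3)
  intro x hx z hz
  rw [← h4, mem_orb_iff_sameCycle] at hx hz
  exact hx.symm.trans hz

end Cfsg.Agent.Lib.Helper31.AltFree
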