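import Cfsg.Agent.Lib.Helper45.AltFreeDefs
set_option autoImplicit false
set_option linter.unusedSectionVars false
namespace Cfsg.Agent.Lib.Helper31.AltFree
open Equiv Equiv.Perm Cfsg.Agent.Lib.Helper45.AltFree
variable {α : Type*} [Fintype α] [DecidableEq α]

theorem pow_apply_eq_self_iff (w : Perm α) (x : α) (n : ℕ) :
    (w ^ n) x = x ↔ Function.minimalPeriod w x ∣ n := by
  rw [← Function.isPeriodicPt_iff_minimalPeriod_dvd]
  unfold Function.IsPeriodicPt Function.IsFixedPt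
  rw [Equiv.Perm.iterate_eq_pow]

theorem per_dvd_orderOf (w : Perm α) (x : α) : Function.minimalPeriod w x ∣ orderOf w := by
  rw [← pow_apply_eq_self_iff, pow_orderOf_eq_one]; rfl

theorem per_pos (w : Perm α) (x : α) : 0 < Function.minimalPeriod w x :=
  Nat.pos_of_dvd_of_pos (per_dvd_orderOf w x) (orderOf_pos w)

theorem per_isPow (w : Perm α) (p : ℕ) (hp : p.Prime) (hw : IsPE p w) (x : α) :
    ∃ j, Function.minimalPeriod w x = p ^ j := by
  obtain ⟨k, hk⟩ := hw
  have h := per_dvd_orderOf w x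
  rw [hk] at h
  obtain ⟨j, _, hj⟩ := (Nat.dvd_prime_pow hp).mp h
  exact ⟨j, hj⟩

/-- the orbit of `z` as a finset -/
noncomputable def orb (w : Perm α) (z : α) : Finset α :=
  (Finset.range (Function.minimalPeriod w z)).image (fun i => (w ^ i) z)

theorem mem_orb (w : Perm α) (z x : α) : x ∈ orb w z ↔ ∃ i : ℕ, (w ^ i) z = x := by
  unfold orb
  rw [Finset.mem_image]
  constructor
  · rintro ⟨i, _, h⟩; exact ⟨i, h⟩
  · rintro ⟨i, h⟩
    refine ⟨i % Function.minimalPeriod w z, Finset.mem_range.mpr (Nat.mod_lt _ (per_pos w z)), ?_⟩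
    rw [← h]
    have := Function.iterate_mod_minimalPeriod_eq (f := ⇑w) (x := z) (n := i)
    rw [Equiv.Perm.iterate_eq_pow, Equiv.Perm.iterate_eq_pow] at this
    exact this

theorem self_mem_orb (w : Perm α) (z : α) : z ∈ orb w z := (mem_orb w z z).mpr ⟨0, by simp⟩

theorem card_orb (w : Perm α) (z : α) : (orb w z).card = Function.minimalPeriod w z := by
  unfold orb
  rw [Finset.card_image_of_injOn, Finset.card_range]
  intro i hi j hj h
  have hi' : i ∈ Set.Iio (Function.minimalPeriod w z) := Finset.mem_range.mp hi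
  have hj' : j ∈ Set.Iio (Function.minimalPeriod w z) := Finset.mem_range.mp hj
  apply Function.iterate_injOn_Iio_minimalPeriod (f := ⇑w) (x := z) hi' hj'
  simp only [Equiv.Perm.iterate_eq_pow]
  exact h

theorem orb_inv (w : Perm α) (z x : α) : x ∈ orb w z ↔ w x ∈ orb w z := by
  rw [mem_orb, mem_orb]
  constructor
  · rintro ⟨i, h⟩
    exact ⟨i + 1, by rw [pow_succ', Perm.mul_apply, h]⟩
  · rintro ⟨i, h⟩
    refine ⟨(orderOf w - 1) + i, ?_⟩
    rw [pow_add, Perm.mul_apply, h, ← Perm.mul_apply, ← pow_succ]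
    have : orderOf w - 1 + 1 = orderOf w := Nat.sub_add_cancel (orderOf_pos w)
    rw [this, pow_orderOf_eq_one]; rfl

theorem inv_pow_mem (w : Perm α) (Y : Finset α) (hY : ∀ x, x ∈ Y ↔ w x ∈ Y) (i : ℕ) (x : α) :
    x ∈ Y ↔ (w ^ i) x ∈ Y := by
  induction i with
  | zero => simp
  | succ n ih => rw [pow_succ', Perm.mul_apply, ← hY]; exact ih

theorem orb_disjoint (w : Perm α) (Y : Finset α) (hY : ∀ x, x ∈ Y ↔ w x ∈ Y) (z : α) (hz : z ∉ Y) :
    Disjoint Y (orb w z) := by
  rw [Finset.disjoint_left]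
  intro x hxY hx
  obtain ⟨i, rfl⟩ := (mem_orb w z x).mp hx
  exact hz ((inv_pow_mem w Y hY i z).mpr hxY)


theorem per_dvd_of_le (w : Perm α) (p : ℕ) (hp : p.Prime) (hw : IsPE p w) (x y : α)
    (h : Function.minimalPeriod w x ≤ Function.minimalPeriod w y) :
    Function.minimalPeriod w x ∣ Function.minimalPeriod w y := by
  obtain ⟨i, hi⟩ := per_isPow w p hp hw x
  obtain ⟨j, hj⟩ := per_isPow w p hp hw y
  rw [hi, hj] at h ⊢
  exact Nat.pow_dvd_pow p ((Nat.pow_le_pow_iff_right hp.one_lt).mp h)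

/-- the invariant of the greedy construction -/
def GInv (w : Perm α) (Y : Finset α) : Prop :=
  (∀ x, x ∈ Y ↔ w x ∈ Y) ∧ (∀ z, z ∉ Y → Function.minimalPeriod w z ∣ Y.card)

theorem ginv_step (w : Perm α) (p : ℕ) (hp : p.Prime) (hw : IsPE p w) (a : ℕ)
    (hk : p ^ a ≤ Fintype.card α) (hmax : ∀ x, Function.minimalPeriod w x ≤ p ^ a)
    (Y : Finset α) (hY : GInv w Y) (hlt : Y.card < p ^ a) :
    ∃ Y' : Finset α, Y ⊆ Y' ∧ GInv w Y' ∧ Y.card < Y'.card ∧ Y'.card ≤ p ^ a := by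
  have hne : (Finset.univ \ Y).Nonempty := by
    rw [Finset.nonempty_iff_ne_empty]
    intro h
    rw [Finset.sdiff_eq_empty_iff_subset] at h
    have := Finset.card_le_card h
    rw [Finset.card_univ] at this
    omega
  obtain ⟨z, hz, hzmax⟩ := Finset.exists_max_image (Finset.univ \ Y) (fun x => Function.minimalPeriod w x) hne
  have hzY : z ∉ Y := (Finset.mem_sdiff.mp hz).2
  have hdisj := orb_disjoint w Y hY.1 z hzY
  have hcard : (Y ∪ orb w z).card = Y.card + Function.minimalPeriod w z := by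
    rw [Finset.card_union_of_disjoint hdisj, card_orb]
  refine ⟨Y ∪ orb w z, Finset.subset_union_left, ⟨?_, ?_⟩, ?_, ?_⟩
  · intro x
    rw [Finset.mem_union, Finset.mem_union, ← hY.1 x, ← orb_inv w z x]
  · intro z' hz'
    rw [Finset.mem_union, not_or] at hz'
    rw [hcard]
    have h1 := hY.2 z' hz'.1
    have h2 : Function.minimalPeriod w z' ≤ Function.minimalPeriod w z :=
      hzmax z' (Finset.mem_sdiff.mpr ⟨Finset.mem_univ _, hz'.1⟩)
    exact Nat.dvd_add h1 (per_dvd_of_le w p hp hw z' z h2)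
  · rw [hcard]; have := per_pos w z; omega
  · rw [hcard]
    have h1 := hY.2 z hzY
    obtain ⟨j, hj⟩ := per_isPow w p hp hw z
    have h2 : Function.minimalPeriod w z ∣ p ^ a := by
      have := hmax z
      rw [hj] at this ⊢
      exact Nat.pow_dvd_pow p ((Nat.pow_le_pow_iff_right hp.one_lt).mp this)
    exact Nat.le_of_lt_add_of_dvd (by omega) (Nat.dvd_add h1 (dvd_refl _)) h2

theorem ginv_extend (w : Perm α) (p : ℕ) (hp : p.Prime) (hw : IsPE p w) (a : ℕ)
    (hk : p ^ a ≤ Fintype.card α) (hmax : ∀ x, Function.minimalPeriod w x ≤ p ^ a) :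
    ∀ n : ℕ, ∀ Y : Finset α, GInv w Y → Y.card ≤ p ^ a → p ^ a - Y.card = n →
      ∃ Y' : Finset α, Y ⊆ Y' ∧ GInv w Y' ∧ Y'.card = p ^ a := by
  intro n
  induction n using Nat.strong_induction_on with
  | _ n ih =>
    intro Y hY hle hn
    rcases Nat.lt_or_ge Y.card (p ^ a) with hlt | hge
    · obtain ⟨Y1, hsub, hY1, hlt1, hle1⟩ := ginv_step w p hp hw a hk hmax Y hY hlt
      obtain ⟨Y', hsub', hY', hc'⟩ := ih (p ^ a - Y1.card) (by omega) Y1 hY1 hle1 rfl
      exact ⟨Y', hsub.trans hsub', hY', hc'⟩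
    · exact ⟨Y, Finset.Subset.refl _, hY, le_antisymm hle hge⟩

theorem exists_invariant_card (w : Perm α) (p : ℕ) (hp : p.Prime) (hw : IsPE p w) (a : ℕ)
    (hk : p ^ a ≤ Fintype.card α) (hmax : ∀ x, Function.minimalPeriod w x ≤ p ^ a)
    (hw1 : w ≠ 1) :
    ∃ Y : Finset α, Y.card = p ^ a ∧ (∀ x, x ∈ Y ↔ w x ∈ Y) ∧ ∃ x ∈ Y, w x ≠ x := by
  -- a non-fixed point exists
  have hex : ∃ x, w x ≠ x := by
    by_contra h
    push Not at h
    exact hw1 (Equiv.ext h)
  obtain ⟨x0, hx0⟩ := hex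
  have hα : (Finset.univ : Finset α).Nonempty := ⟨x0, Finset.mem_univ _⟩
  obtain ⟨z0, _, hz0max⟩ := Finset.exists_max_image (Finset.univ : Finset α)
    (fun x => Function.minimalPeriod w x) hα
  -- z0 is not fixed
  have hz0 : w z0 ≠ z0 := by
    intro h
    have h1 : Function.minimalPeriod w z0 = 1 :=
      Function.minimalPeriod_eq_one_iff_isFixedPt.mpr h
    have h2 := hz0max x0 (Finset.mem_univ _)
    rw [h1] at h2
    have h3 := per_pos w x0
    have h4 : Function.minimalPeriod w x0 = 1 := by omega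
    exact hx0 (Function.minimalPeriod_eq_one_iff_isFixedPt.mp h4)
  have hY0 : GInv w (orb w z0) := by
    refine ⟨orb_inv w z0, ?_⟩
    intro z _
    rw [card_orb]
    exact per_dvd_of_le w p hp hw z z0 (hz0max z (Finset.mem_univ _))
  have hc0 : (orb w z0).card ≤ p ^ a := by rw [card_orb]; exact hmax z0
  obtain ⟨Y, hsub, hY, hc⟩ := ginv_extend w p hp hw a hk hmax _ (orb w z0) hY0 hc0 rfl
  exact ⟨Y, hc, hY.1, z0, hsub (self_mem_orb w z0), hz0⟩

end Cfsg.Agent.Lib.Helper31.AltFree
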