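import Mathlib
import Cfsg.Agent.Lib.Helper31.BG137Defs
import Cfsg.Agent.Lib.Helper71.BG11a
import Cfsg.Agent.S1423
import Cfsg.Agent.S1426

/-!
# BG 13.7, pack K-137N, keystone 137718 (step (n)): the final contradiction
-/

set_option autoImplicit false
set_option linter.unusedVariables false

namespace Cfsg.Agent.Lib.Helper31.BG137

open Cfsg Cfsg.Agent.Lib.Helper55

variable {G : Type*} [Group G] [Finite G]

/-- KEYSTONE 137718  K-137N-N  (step (n)).  The final contradiction. -/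
theorem SCfg.final {M E P A L S₁ EL : Subgroup G} {p q : ℕ} (s : SCfg M E P A L S₁ EL p q)
    (hR : Nat.card ↥(A ⊓ Subgroup.centralizer (P : Set G)) = q)
    (hRM : Subgroup.centralizer ((A ⊓ Subgroup.centralizer (P : Set G) : Subgroup G) : Set G) ≤ M ∧
      ∀ L' : Subgroup G, IsCoatom L' →
        Subgroup.centralizer ((A ⊓ Subgroup.centralizer (P : Set G) : Subgroup G) : Set G) ≤ L' → L' = M)
    (hDEL : EL ≤ Subgroup.centralizer ((S₁ ⊓ Subgroup.centralizer (P : Set G) : Subgroup G) : Set G)) : False := by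
  have hG := s.l.c.hG
  have hL := s.l.hL
  have hqp : q.Prime := s.l.c.hq.1
  haveI : Fact q.Prime := ⟨hqp⟩
  -- `R ≤ D ≤ L_σ ⊓ C(EL)`
  have hRD : A ⊓ Subgroup.centralizer (P : Set G) ≤ S₁ ⊓ Subgroup.centralizer (P : Set G) :=
    inf_le_inf_right _ s.hAS
  have hDσ : S₁ ⊓ Subgroup.centralizer (P : Set G) ≤
      sigmaCore L ⊓ Subgroup.centralizer (EL : Set G) := by
    intro d hd
    refine ⟨s.hS₁.1 hd.1, ?_⟩
    show d ∈ Subgroup.centralizer (EL : Set G)
    rw [Subgroup.mem_centralizer_iff]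
    intro e he
    exact ((Subgroup.mem_centralizer_iff.mp (hDEL he)) d hd).symm
  have h26 := (Cfsg.Agent.S1426.result hG L hL EL s.hEL).1
  have hRder : A ⊓ Subgroup.centralizer (P : Set G) ≤ ⁅sigmaCore L, sigmaCore L⁆ :=
    (hRD.trans hDσ).trans h26
  have hRL : A ⊓ Subgroup.centralizer (P : Set G) ≤ L :=
    (inf_le_left.trans s.l.c.hAE).trans s.l.hEL
  have h23 := (Cfsg.Agent.S1423.result hG L hL q s.l.hqL (A ⊓ Subgroup.centralizer (P : Set G)) hRL hR
    default (Or.inr hRder)).1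
  exact s.l.hLM (hRM.2 L hL h23.1)

end Cfsg.Agent.Lib.Helper31.BG137
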