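import Mathlib
import Cfsg.Prelude.Def_OddOrderLocal
import Cfsg.Agent.Lib.Helper31.BG15KA

/-!
# S1360 from the `V`-version of the second half of BG Lemma 12.11 (S1421 pack of helper83)

`U` is a normal Hall subgroup of the complement `E = U K` of `M_σ`, and the hypothesis of
BG 12.11 holds on `U`.
-/

set_option autoImplicit false

namespace Cfsg.Agent.Lib.Helper31.BG15

open Cfsg

variable {G : Type*} [Group G] [Finite G]

/-- hypothesis `h` of S1421 on a subgroup `V` -/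
def HypV (M V : Subgroup G) : Prop :=
  ∀ e ∈ V, e ≠ 1 → (∀ p : ℕ, p.Prime → p ∣ orderOf e → p ∈ tau1 M ∪ tau3 M) →
    sigmaCore M ⊓ Subgroup.centralizer ({e} : Set G) = ⊥

/-- conclusion: a fixed-point-free subgroup of `V` of the same exponent -/
def ConclV (M V : Subgroup G) : Prop :=
  ∃ V₀ : Subgroup G, V₀ ≤ V ∧ Monoid.exponent V₀ = Monoid.exponent V ∧
    ∀ e ∈ V₀, e ≠ 1 → sigmaCore M ⊓ Subgroup.centralizer ({e} : Set G) = ⊥

theorem s1360_of_hyps (hG : IsMinSimpleOddOrder G) (M : Subgroup G) (hM : IsCoatom M)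
    (K U : Subgroup G) (hKU : IsSigmaDecomposition M K U)
    (hN : ∀ (E : Subgroup G), IsComplIn E (sigmaCore M) M → ∀ V : Subgroup G, V ≤ E →
      E ≤ Subgroup.normalizer (V : Set G) → (Nat.card V).Coprime (V.relIndex E) → HypV M V →
      ∀ (p : ℕ) [Fact p.Prime], p ∈ tau2 M → ∀ S : Sylow p G,
        (¬ ∀ x ∈ (S : Subgroup G), ∀ y ∈ (S : Subgroup G), x * y = y * x) → ConclV M V)
    (hA : ∀ (E : Subgroup G), IsComplIn E (sigmaCore M) M → ∀ V : Subgroup G, V ≤ E →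
      E ≤ Subgroup.normalizer (V : Set G) → (Nat.card V).Coprime (V.relIndex E) → HypV M V →
      (∀ p ∈ tau2 M, ∀ S : Sylow p G, ∀ a ∈ (S : Subgroup G), ∀ b ∈ (S : Subgroup G),
        a * b = b * a) → ConclV M V) :
    ∃ U₀ : Subgroup G, U₀ ≤ U ∧ Monoid.exponent U₀ = Monoid.exponent U ∧
      ∀ u ∈ U₀, u ∈ sigmaHat M → u = 1 := by
  have hE := isComplIn_sup_of_sigmaDecomposition hG hM hKU
  have hVE : U ≤ U ⊔ K := le_sup_left
  have hVn := le_normalizer_of_sigmaDecomposition hKU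
  have hVh := coprime_of_sigmaDecomposition hKU
  have hV : HypV M U := fun e he he1 hτ => fpf_of_mem_of_sigmaDecomposition hG hM hKU he he1 hτ
  have key : ConclV M U := by
    by_cases hab : ∀ p ∈ tau2 M, ∀ S : Sylow p G, ∀ a ∈ (S : Subgroup G),
        ∀ b ∈ (S : Subgroup G), a * b = b * a
    · exact hA _ hE U hVE hVn hVh hV hab
    · push Not at hab
      obtain ⟨p, hp, S, a, ha, b, hb, hne⟩ := hab
      have : Fact p.Prime := ⟨hp.1⟩
      exact hN _ hE U hVE hVn hVh hV p hp S (fun hc => hne (hc a ha b hb))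
  obtain ⟨V₀, hV₀, hexp, hfpf⟩ := key
  refine ⟨V₀, hV₀, hexp, ?_⟩
  intro u hu hσ
  by_contra hu1
  have h1 := hfpf u hu hu1
  exact (not_nonFpf_iff.mpr h1) (nonFpf_of_mem_sigmaHat hσ)

end Cfsg.Agent.Lib.Helper31.BG15
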