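import Mathlib
import Cfsg.Prelude.Def_Transfer
import Cfsg.Prelude.Def_KGroupFacts
import Cfsg.Agent.Lib.Helper03.PResidual
import Cfsg.Agent.Lib.Helper38.PGroup
import Cfsg.Agent.Lib.Helper26.NormalPP

set_option autoImplicit false

/-!
# A `G`-invariant variant of Thompson's critical subgroup

`P` a finite `p`-group, `Inn P ≤ G ≤ Aut P`.  We construct a `G`-invariant subgroup `C` of
`R = [P, O^p(G)]` with `[C, P] ≤ Z(C)`, `C^p ≤ Z(C)`, `C_R(C) ≤ C` and deduce that `p'`-elements of `G`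
acting trivially on `Ω(C)` are trivial.
-/

namespace Cfsg.Agent.Lib.Helper31.CritVariant

open Cfsg
open scoped commutatorElement

variable {P : Type*} [Group P]

/-- `H` is invariant under all automorphisms in `G`. -/
def GInv (G : Subgroup (MulAut P)) (H : Subgroup P) : Prop := ∀ α ∈ G, ∀ x ∈ H, α x ∈ H

theorem GInv.map_eq {G : Subgroup (MulAut P)} {H : Subgroup P} (h : GInv G H) (α : MulAut P)
    (hα : α ∈ G) : H.map α.toMonoidHom = H := by
  apply le_antisymm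
  · rintro x ⟨y, hy, rfl⟩
    exact h α hα y hy
  · intro x hx
    refine ⟨α⁻¹ x, h α⁻¹ (G.inv_mem hα) x hx, ?_⟩
    simp

theorem GInv.normal {G : Subgroup (MulAut P)} {H : Subgroup P} (hG : Cfsg.Inn P ≤ G) (h : GInv G H) :
    H.Normal := by
  refine ⟨fun x hx g => ?_⟩
  have : MulAut.conj g ∈ G := hG ⟨g, rfl⟩
  have h2 := h _ this x hx
  simpa [MulAut.conj_apply] using h2

theorem GInv.inf {G : Subgroup (MulAut P)} {H K : Subgroup P} (h : GInv G H) (k : GInv G K) :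
    GInv G (H ⊓ K) := fun α hα x hx => ⟨h α hα x hx.1, k α hα x hx.2⟩

theorem GInv.centralizer {G : Subgroup (MulAut P)} {H : Subgroup P} (h : GInv G H) :
    GInv G (Subgroup.centralizer (H : Set P)) := by
  intro α hα x hx
  rw [Subgroup.mem_centralizer_iff] at hx ⊢
  intro y hy
  have hy' : α⁻¹ y ∈ H := h α⁻¹ (G.inv_mem hα) y hy
  have := hx _ hy'
  have h2 := congrArg α this
  simpa using h2

/-- The subgroup `[P, O^p(G)]`. -/
def Rsub (p : ℕ) (G : Subgroup (MulAut P)) : Subgroup P :=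
  Subgroup.closure {y : P | ∃ α ∈ Cfsg.pResidual p ↥G, ∃ x : P, y = x⁻¹ * (α : MulAut P) x}

theorem Rsub_inv (p : ℕ) (G : Subgroup (MulAut P)) : GInv G (Rsub p G) := by
  intro g hg x hx
  unfold Rsub at hx ⊢
  induction hx using Subgroup.closure_induction with
  | mem y hy =>
    obtain ⟨α, hα, x, rfl⟩ := hy
    apply Subgroup.subset_closure
    have hn : (Cfsg.pResidual p ↥G).Normal := Cfsg.Agent.Lib.Helper03.pResidual_normal p ↥G
    refine ⟨(⟨g, hg⟩ : ↥G) * α * (⟨g, hg⟩ : ↥G)⁻¹, hn.conj_mem α hα _, g x, ?_⟩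
    simp
  | one => simp
  | mul a b _ _ ha hb => rw [map_mul]; exact Subgroup.mul_mem _ ha hb
  | inv a _ ha => rw [map_inv]; exact Subgroup.inv_mem _ ha

/-- Coprime fixed point argument: if `β x = x u` with `β u = u`, `β` of order prime to `p` and
`u` a `p`-element, then `u = 1`. -/
theorem eq_one_of_coprime [Finite P] {p : ℕ} [Fact p.Prime] (hP : IsPGroup p P) (β : MulAut P)
    (hβ : (orderOf β).Coprime p) (x u : P) (h1 : β x = x * u) (h2 : β u = u) : u = 1 := by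
  have hpow : ∀ k : ℕ, (β ^ k) x = x * u ^ k := by
    intro k
    induction k with
    | zero => simp
    | succ k ih =>
      rw [pow_succ', MulAut.mul_apply, ih, map_mul, map_pow, h1, h2, pow_succ, mul_assoc]
      congr 1
      exact (Commute.self_pow u k).eq
  have h3 := hpow (orderOf β)
  rw [pow_orderOf_eq_one, MulAut.one_apply] at h3
  have h4 : u ^ orderOf β = 1 := by
    have := mul_left_cancel (a := x) (b := 1) (c := u ^ orderOf β) (by rw [mul_one]; exact h3)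
    exact this.symm
  obtain ⟨j, hj⟩ := IsPGroup.iff_orderOf.mp hP u
  have hdvd : orderOf u ∣ orderOf β := orderOf_dvd_of_pow_eq_one h4
  have hcop : (orderOf u).Coprime (orderOf β) := by
    rw [hj]
    exact (Nat.Coprime.pow_left j hβ.symm)
  have : orderOf u = 1 := Nat.Coprime.eq_one_of_dvd hcop hdvd
  exact orderOf_eq_one_iff.mp this


/-- The standing hypotheses: `Z` is a `G`-invariant abelian subgroup of `R = [P, O^p(G)]`. -/
structure Ctx (p : ℕ) (G : Subgroup (MulAut P)) (Z : Subgroup P) : Prop where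
  inn : Cfsg.Inn P ≤ G
  zinv : GInv G Z
  zle : Z ≤ Rsub p G
  zcomm : ∀ a ∈ Z, ∀ b ∈ Z, a * b = b * a

theorem inv_comm_of_comm {x w : P} (h : x * w = w * x) : x⁻¹ * w = w * x⁻¹ := by
  rw [eq_mul_inv_iff_mul_eq, mul_assoc, ← h, ← mul_assoc, inv_mul_cancel, one_mul]

/-- The subgroup `C` with `C / Z = Ω₁(Z(P / Z)) ∩ C_R(Z) / Z`. -/
def Csub {p : ℕ} {G : Subgroup (MulAut P)} {Z : Subgroup P} (_h : Ctx p G Z) : Subgroup P where
  carrier := {x | x ∈ Rsub p G ∧ (∀ z ∈ Z, x * z = z * x) ∧ (∀ g : P, x⁻¹ * g⁻¹ * x * g ∈ Z) ∧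
    x ^ p ∈ Z}
  one_mem' := by
    refine ⟨Subgroup.one_mem _, fun z _ => by simp, fun g => by simp, ?_⟩
    simp
  mul_mem' := by
    intro x y hx hy
    refine ⟨Subgroup.mul_mem _ hx.1 hy.1, ?_, ?_, ?_⟩
    · intro z hz
      rw [mul_assoc, hy.2.1 z hz, ← mul_assoc, hx.2.1 z hz, mul_assoc]
    · intro g
      have hw := hx.2.2.1 g
      have hv := hy.2.2.1 g
      have e2 : y⁻¹ * (x⁻¹ * g⁻¹ * x * g) = (x⁻¹ * g⁻¹ * x * g) * y⁻¹ :=
        inv_comm_of_comm (hy.2.1 _ hw)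
      have e1 : (x * y)⁻¹ * g⁻¹ * (x * y) * g
          = y⁻¹ * (x⁻¹ * g⁻¹ * x * g) * (g⁻¹ * y * g) := by group
      rw [e1, e2]
      have e3 : (x⁻¹ * g⁻¹ * x * g) * y⁻¹ * (g⁻¹ * y * g)
          = (x⁻¹ * g⁻¹ * x * g) * (y⁻¹ * g⁻¹ * y * g) := by group
      rw [e3]
      exact Z.mul_mem hw hv
    · have hc : y⁻¹ * x⁻¹ * y * x ∈ Z := hy.2.2.1 x
      have h : y * x = x * y * (y⁻¹ * x⁻¹ * y * x) := by group
      have hcx : Commute (y⁻¹ * x⁻¹ * y * x) x := (hx.2.1 _ hc).symm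
      have hcy : Commute (y⁻¹ * x⁻¹ * y * x) y := (hy.2.1 _ hc).symm
      rw [Cfsg.Agent.Lib.Helper26.mul_pow_comm_central x y _ h hcx hcy p]
      exact Z.mul_mem (Z.mul_mem hx.2.2.2 hy.2.2.2) (Z.pow_mem hc _)
  inv_mem' := by
    intro x hx
    refine ⟨Subgroup.inv_mem _ hx.1, ?_, ?_, ?_⟩
    · intro z hz
      exact inv_comm_of_comm (hx.2.1 z hz)
    · intro g
      have hw := hx.2.2.1 g
      have hw' : (x⁻¹ * g⁻¹ * x * g)⁻¹ ∈ Z := Z.inv_mem hw
      have e1 : x⁻¹⁻¹ * g⁻¹ * x⁻¹ * g = x * (x⁻¹ * g⁻¹ * x * g)⁻¹ * x⁻¹ := by group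
      rw [e1, hx.2.1 _ hw', mul_assoc, mul_inv_cancel, mul_one]
      exact hw'
    · rw [inv_pow]
      exact Z.inv_mem hx.2.2.2

section props

variable {p : ℕ} {G : Subgroup (MulAut P)} {Z : Subgroup P} (h : Ctx p G Z)

theorem mem_Csub {x : P} : x ∈ Csub h ↔ x ∈ Rsub p G ∧ (∀ z ∈ Z, x * z = z * x) ∧
    (∀ g : P, x⁻¹ * g⁻¹ * x * g ∈ Z) ∧ x ^ p ∈ Z := Iff.rfl

include h in
theorem Z_normal : Z.Normal := GInv.normal h.inn h.zinv

theorem Z_le_Csub : Z ≤ Csub h := by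
  intro z hz
  refine ⟨h.zle hz, fun w hw => h.zcomm z hz w hw, fun g => ?_, Z.pow_mem hz _⟩
  have : g⁻¹ * z * g⁻¹⁻¹ ∈ Z := (Z_normal h).conj_mem z hz g⁻¹
  rw [inv_inv] at this
  have e : z⁻¹ * g⁻¹ * z * g = z⁻¹ * (g⁻¹ * z * g) := by group
  rw [e]
  exact Z.mul_mem (Z.inv_mem hz) this

theorem Csub_le_R : Csub h ≤ Rsub p G := fun _ hx => hx.1

theorem Csub_inv : GInv G (Csub h) := by
  intro α hα x hx
  refine ⟨Rsub_inv p G α hα x hx.1, ?_, ?_, ?_⟩
  · intro z hz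
    have hz' : α⁻¹ z ∈ Z := h.zinv α⁻¹ (G.inv_mem hα) z hz
    have h2 := congrArg α (hx.2.1 _ hz')
    simpa using h2
  · intro g
    have h1 := h.zinv α hα _ (hx.2.2.1 (α⁻¹ g))
    simpa using h1
  · have h1 := h.zinv α hα _ hx.2.2.2
    simpa using h1

theorem Csub_normal : (Csub h).Normal := GInv.normal h.inn (Csub_inv h)

/-- `Z(C)`, as a subgroup of `P`. -/
theorem W_props : (Csub h ⊓ Subgroup.centralizer (Csub h : Set P)) ≤ Rsub p G ∧
    GInv G (Csub h ⊓ Subgroup.centralizer (Csub h : Set P)) ∧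
    (∀ a ∈ (Csub h ⊓ Subgroup.centralizer (Csub h : Set P)),
      ∀ b ∈ (Csub h ⊓ Subgroup.centralizer (Csub h : Set P)), a * b = b * a) ∧
    Z ≤ Csub h ⊓ Subgroup.centralizer (Csub h : Set P) := by
  refine ⟨fun x hx => hx.1.1, GInv.inf (Csub_inv h) (GInv.centralizer (Csub_inv h)), ?_, ?_⟩
  · intro a ha b hb
    have := Subgroup.mem_centralizer_iff.mp hb.2 a ha.1
    exact this
  · intro z hz
    refine ⟨Z_le_Csub h hz, Subgroup.mem_centralizer_iff.mpr ?_⟩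
    intro c hc
    exact hc.2.1 z hz


/-- `Z` is maximal among the `G`-invariant abelian subgroups of `R`. -/
def IsMaxInv (p : ℕ) (G : Subgroup (MulAut P)) (Z : Subgroup P) : Prop :=
  ∀ Z' : Subgroup P, Z' ≤ Rsub p G → GInv G Z' → (∀ a ∈ Z', ∀ b ∈ Z', a * b = b * a) → Z ≤ Z' →
    Z' = Z

include h in
theorem W_eq_Z (hmax : IsMaxInv p G Z) :
    Csub h ⊓ Subgroup.centralizer (Csub h : Set P) = Z := by
  obtain ⟨h1, h2, h3, h4⟩ := W_props h
  exact hmax _ h1 h2 h3 h4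

theorem CR_le_Z [Finite P] [Fact p.Prime] (hP : IsPGroup p P) (hmax : IsMaxInv p G Z) :
    Rsub p G ⊓ Subgroup.centralizer (Csub h : Set P) ≤ Z := by
  by_contra hne
  obtain ⟨y, hyQ, hyZ⟩ := SetLike.not_le_iff_exists.mp hne
  have hZn : Z.Normal := Z_normal h
  have hQinv : GInv G (Rsub p G ⊓ Subgroup.centralizer (Csub h : Set P)) :=
    GInv.inf (Rsub_inv p G) (GInv.centralizer (Csub_inv h))
  have hQn : (Rsub p G ⊓ Subgroup.centralizer (Csub h : Set P)).Normal := GInv.normal h.inn hQinv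
  have hQbn : ((Rsub p G ⊓ Subgroup.centralizer (Csub h : Set P)).map (QuotientGroup.mk' Z)).Normal :=
    Subgroup.Normal.map hQn _ (QuotientGroup.mk'_surjective Z)
  have hQb : (Rsub p G ⊓ Subgroup.centralizer (Csub h : Set P)).map (QuotientGroup.mk' Z) ≠ ⊥ := by
    intro hbot
    have : QuotientGroup.mk' Z y ∈
        (Rsub p G ⊓ Subgroup.centralizer (Csub h : Set P)).map (QuotientGroup.mk' Z) :=
      Subgroup.mem_map_of_mem _ hyQ
    rw [hbot, Subgroup.mem_bot] at this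
    exact hyZ ((QuotientGroup.eq_one_iff y).mp this)
  obtain ⟨yb, hybQ, hybc, hyb1⟩ :=
    Cfsg.Agent.Lib.Helper38.normal_inf_center_ne_bot p (hP.to_quotient Z) _ hQb
  obtain ⟨k, hk⟩ := IsPGroup.iff_orderOf.mp (hP.to_quotient Z) yb
  have hk0 : k ≠ 0 := by
    rintro rfl
    rw [pow_zero, orderOf_eq_one_iff] at hk
    exact hyb1 hk
  obtain ⟨k', rfl⟩ := Nat.exists_eq_add_one_of_ne_zero hk0
  have hp := (Fact.out : p.Prime)
  have ht1 : yb ^ p ^ k' ≠ 1 := by
    intro h1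
    have hd := orderOf_dvd_of_pow_eq_one h1
    rw [hk] at hd
    have := Nat.le_of_dvd (pow_pos hp.pos _) hd
    have h2 : p ^ k' < p ^ (k' + 1) := Nat.pow_lt_pow_right hp.one_lt (Nat.lt_succ_self _)
    omega
  have htp : (yb ^ p ^ k') ^ p = 1 := by
    rw [← pow_mul, ← pow_succ, ← hk, pow_orderOf_eq_one]
  have htQ := Subgroup.pow_mem _ hybQ (p ^ k')
  have htc := Subgroup.pow_mem _ hybc (p ^ k')
  obtain ⟨y', hy'Q, hy't⟩ := Subgroup.mem_map.mp htQ
  have hy'C : y' ∈ Csub h := by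
    refine ⟨hy'Q.1, ?_, ?_, ?_⟩
    · intro z hz
      exact (Subgroup.mem_centralizer_iff.mp hy'Q.2 z (Z_le_Csub h hz)).symm
    · intro g
      rw [← QuotientGroup.eq_one_iff]
      have hcen := Subgroup.mem_center_iff.mp htc
      have e : ((y'⁻¹ * g⁻¹ * y' * g : P) : P ⧸ Z) =
          (QuotientGroup.mk' Z y')⁻¹ * (QuotientGroup.mk' Z g)⁻¹ * QuotientGroup.mk' Z y' *
            QuotientGroup.mk' Z g := by
        simp
      rw [e, hy't, mul_assoc, ← hcen (QuotientGroup.mk' Z g)]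
      group
    · rw [← QuotientGroup.eq_one_iff]
      have e : ((y' ^ p : P) : P ⧸ Z) = (QuotientGroup.mk' Z y') ^ p := by simp
      rw [e, hy't, htp]
  have hy'Z : y' ∈ Z := by
    rw [← W_eq_Z h hmax]
    exact ⟨hy'C, hy'Q.2⟩
  apply ht1
  rw [← hy't]
  exact (QuotientGroup.eq_one_iff y').mpr hy'Z

/-- A `p'`-element of `G` acting trivially on `C` is trivial. -/
theorem detect_C [Finite P] [Fact p.Prime] (hP : IsPGroup p P) (hmax : IsMaxInv p G Z)
    (β : MulAut P) (hβG : β ∈ G) (hβ : (orderOf β).Coprime p) (hfix : ∀ c ∈ Csub h, β c = c) :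
    β = 1 := by
  have hCn := Csub_normal h
  -- trivial on `R`
  have hR : ∀ r ∈ Rsub p G, β r = r := by
    intro r hr
    have hu : r⁻¹ * β r ∈ Rsub p G ⊓ Subgroup.centralizer (Csub h : Set P) := by
      refine ⟨Subgroup.mul_mem _ (Subgroup.inv_mem _ hr) (Rsub_inv p G β hβG r hr),
        Subgroup.mem_centralizer_iff.mpr ?_⟩
      intro c hc
      have h1 : r * c * r⁻¹ ∈ Csub h := hCn.conj_mem c hc r
      have h2 := hfix _ h1
      rw [map_mul, map_mul, hfix c hc, map_inv] at h2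
      -- β r * c * (β r)⁻¹ = r * c * r⁻¹
      have h3 : c * (r⁻¹ * β r) = r⁻¹ * (r * c * r⁻¹) * β r := by group
      rw [h3, ← h2]
      group
    have huZ := CR_le_Z h hP hmax hu
    have hfixu : β (r⁻¹ * β r) = r⁻¹ * β r := hfix _ (Z_le_Csub h huZ)
    have h1 : β r = r * (r⁻¹ * β r) := by group
    have := eq_one_of_coprime hP β hβ r _ h1 hfixu
    rw [h1, this, mul_one]
  ext x
  rw [MulAut.one_apply]
  have hmem : x⁻¹ * β x ∈ Rsub p G := by
    apply Subgroup.subset_closure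
    refine ⟨⟨β, hβG⟩, ?_, x, rfl⟩
    apply Cfsg.Agent.Lib.Helper03.mem_pResidual_of_coprime
    rw [Subgroup.orderOf_mk]
    exact hβ
  have h1 : β x = x * (x⁻¹ * β x) := by group
  have := eq_one_of_coprime hP β hβ x _ h1 (hR _ hmem)
  rw [h1, this, mul_one]


/-- the exponent: `4` if `p = 2`, else `p`. -/
def ee (p : ℕ) : ℕ := if p = 2 then 4 else p

theorem ee_eq_mul (p : ℕ) : ∃ s : ℕ, ee p = p * s := by
  unfold ee
  split_ifs with h2
  · exact ⟨2, by rw [h2]⟩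
  · exact ⟨1, by rw [mul_one]⟩

include h in
theorem comm_pow_p {x y : P} (hx : x ∈ Csub h) (hy : y ∈ Csub h) :
    (y⁻¹ * x⁻¹ * y * x) ^ p = 1 := by
  have hc : y⁻¹ * x⁻¹ * y * x ∈ Z := hy.2.2.1 x
  have hh : y * x = x * y * (y⁻¹ * x⁻¹ * y * x) := by group
  have hcy : Commute (y⁻¹ * x⁻¹ * y * x) y := (hy.2.1 _ hc).symm
  have h1 := Cfsg.Agent.Lib.Helper26.pow_mul_comm_central x y _ hh hcy p
  have h2 : x * y ^ p = y ^ p * x := hx.2.1 _ hy.2.2.2
  rw [h2] at h1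
  have h3 : y ^ p * x * 1 = y ^ p * x * (y⁻¹ * x⁻¹ * y * x) ^ p := by rw [mul_one]; exact h1
  exact (mul_left_cancel h3).symm

include h in
theorem pow_ee_mul [Fact p.Prime] {x y : P} (hx : x ∈ Csub h) (hy : y ∈ Csub h) :
    (x * y) ^ ee p = x ^ ee p * y ^ ee p := by
  have hc : y⁻¹ * x⁻¹ * y * x ∈ Z := hy.2.2.1 x
  have hh : y * x = x * y * (y⁻¹ * x⁻¹ * y * x) := by group
  have hcx : Commute (y⁻¹ * x⁻¹ * y * x) x := (hx.2.1 _ hc).symm
  have hcy : Commute (y⁻¹ * x⁻¹ * y * x) y := (hy.2.1 _ hc).symm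
  have hcp := comm_pow_p h hx hy
  rw [Cfsg.Agent.Lib.Helper26.mul_pow_comm_central x y _ hh hcx hcy (ee p)]
  have : (y⁻¹ * x⁻¹ * y * x) ^ (ee p * (ee p - 1) / 2) = 1 := by
    unfold ee
    split_ifs with h2
    · have e : 4 * (4 - 1) / 2 = 2 * 3 := by norm_num
      rw [e, pow_mul]
      rw [h2] at hcp
      rw [hcp, one_pow]
    · have hp := (Fact.out : p.Prime)
      have hodd : p % 2 = 1 := by
        rcases hp.eq_two_or_odd with h | h
        · exact absurd h h2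
        · exact h
      have hd : 2 ∣ p - 1 := by omega
      rw [Nat.mul_div_assoc p hd, pow_mul, hcp, one_pow]
  rw [this, mul_one]

/-- The subgroup `D = Ω(C)` of elements of `C` of order dividing `p` (`4` when `p = 2`). -/
def Dsub [Fact p.Prime] : Subgroup P where
  carrier := {x | x ∈ Csub h ∧ x ^ ee p = 1}
  one_mem' := ⟨Subgroup.one_mem _, one_pow _⟩
  mul_mem' := by
    intro x y hx hy
    refine ⟨Subgroup.mul_mem _ hx.1 hy.1, ?_⟩
    rw [pow_ee_mul h hx.1 hy.1, hx.2, hy.2, one_mul]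
  inv_mem' := by
    intro x hx
    refine ⟨Subgroup.inv_mem _ hx.1, ?_⟩
    rw [inv_pow, hx.2, inv_one]

theorem Dsub_le_Csub [Fact p.Prime] : Dsub h ≤ Csub h := fun _ hx => hx.1

theorem Dsub_inv [Fact p.Prime] : GInv G (Dsub h) := by
  intro α hα x hx
  refine ⟨Csub_inv h α hα x hx.1, ?_⟩
  rw [← map_pow, hx.2, map_one]

theorem Dsub_exp [Fact p.Prime] {d : P} (hd : d ∈ Dsub h) : d ^ p = 1 ∨ (p = 2 ∧ d ^ 4 = 1) := by
  have h1 := hd.2
  unfold ee at h1
  split_ifs at h1 with h2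
  · exact Or.inr ⟨h2, h1⟩
  · exact Or.inl h1

theorem Dsub_comm [Fact p.Prime] :
    ⁅Dsub h, (⊤ : Subgroup P)⁆ ≤ Dsub h ⊓ Subgroup.centralizer (Dsub h : Set P) := by
  have hDn : (Dsub h).Normal := GInv.normal h.inn (Dsub_inv h)
  rw [Subgroup.commutator_le]
  intro d hd g _
  refine ⟨?_, Subgroup.mem_centralizer_iff.mpr ?_⟩
  · rw [commutatorElement_def]
    have : g * d⁻¹ * g⁻¹ ∈ Dsub h := hDn.conj_mem _ ((Dsub h).inv_mem hd) g
    have e : d * g * d⁻¹ * g⁻¹ = d * (g * d⁻¹ * g⁻¹) := by group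
    rw [e]
    exact (Dsub h).mul_mem hd this
  · intro d' hd'
    have hz : ⁅d, g⁆ ∈ Z := by
      have := ((Csub h).inv_mem hd.1).2.2.1 g⁻¹
      rw [commutatorElement_def]
      simpa using this
    exact (hd'.1.2.1 _ hz)

/-- A `p'`-element of `G` acting trivially on `D` is trivial. -/
theorem detect_D [Finite P] [Fact p.Prime] (hP : IsPGroup p P) (hmax : IsMaxInv p G Z)
    (β : MulAut P) (hβG : β ∈ G) (hβ : (orderOf β).Coprime p) (hfix : ∀ d ∈ Dsub h, β d = d) :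
    β = 1 := by
  apply detect_C h hP hmax β hβG hβ
  have key : ∀ k : ℕ, ∀ x ∈ Csub h, x ^ (ee p) ^ k = 1 → β x = x := by
    intro k
    induction k with
    | zero =>
      intro x _ hx1
      rw [pow_zero, pow_one] at hx1
      rw [hx1, map_one]
    | succ k ih =>
      intro x hx hx1
      have hy : β (x ^ ee p) = x ^ ee p := by
        apply ih _ (Subgroup.pow_mem _ hx _)
        rw [← pow_mul, ← pow_succ']
        exact hx1
      have hβx : β x ∈ Csub h := Csub_inv h β hβG x hx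
      have hu : x⁻¹ * β x ∈ Dsub h := by
        refine ⟨Subgroup.mul_mem _ (Subgroup.inv_mem _ hx) hβx, ?_⟩
        rw [pow_ee_mul h (Subgroup.inv_mem _ hx) hβx, ← map_pow, hy, inv_pow, inv_mul_cancel]
      have h1 : β x = x * (x⁻¹ * β x) := by group
      have := eq_one_of_coprime hP β hβ x _ h1 (hfix _ hu)
      rw [h1, this, mul_one]
  intro c hc
  obtain ⟨j, hj⟩ := hP c
  obtain ⟨s, hs⟩ := ee_eq_mul p
  apply key j c hc
  rw [hs, mul_pow, pow_mul, hj, one_pow]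

end props

end Cfsg.Agent.Lib.Helper31.CritVariant
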