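import Cfsg.Agent.S1461
import Cfsg.Agent.Lib.Helper68.OddRank2
import Cfsg.Agent.Lib.Helper55.SylowIn
import Cfsg.Agent.Lib.Helper55.Uniq2

set_option autoImplicit false

/-! Control of strong fusion in Sylow subgroups of arbitrary subgroups of a minimal simple group
of odd order all of whose proper subgroups have `p`-length one (Bender–Glauberman 10.6 as a
hypothesis). -/

namespace Cfsg.Agent.Lib.Helper31.FusionCtl

open Cfsg Cfsg.Agent.Lib.Helper55

variable {G : Type*} [Group G] [Finite G] {p : ℕ} [Fact p.Prime]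

/-- fusion control in groups of `p`-length one (S1461), transported to a subgroup `X` of `G` -/
theorem fusion_in_sub {X S : Subgroup G} (hXs : Group.IsSolvable X) (hpl : PLengthLE p 1 X)
    (hS : IsSylowIn p X S) (Y : Set G) (hY : Y ⊆ (S : Set G)) {g : G} (hg : g ∈ X)
    (hgY : ∀ y ∈ Y, g * y * g⁻¹ ∈ S) :
    ∃ n ∈ X ⊓ Subgroup.normalizer (S : Set G), ∃ c ∈ X ⊓ Subgroup.centralizer Y, g = n * c := by
  obtain ⟨-, h2, -⟩ := Cfsg.Agent.S1461.result p hpl hS.toSylow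
  let Y' : Set X := {y | (y : G) ∈ Y}
  have hY' : Y' ⊆ ((hS.toSylow : Subgroup X) : Set X) := by
    intro y hy
    rw [SetLike.mem_coe, hS.coe_toSylow, Subgroup.mem_subgroupOf]
    exact hY hy
  have hgY' : (fun y => (⟨g, hg⟩ : X) * y * (⟨g, hg⟩ : X)⁻¹) '' Y' ⊆
      ((hS.toSylow : Subgroup X) : Set X) := by
    rintro _ ⟨y, hy, rfl⟩
    rw [SetLike.mem_coe, hS.coe_toSylow, Subgroup.mem_subgroupOf]
    exact hgY _ hy
  obtain ⟨g', hg', c', hc', hgc⟩ := h2 Y' ⟨g, hg⟩ hY' hgY'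
  have hmemS : ∀ s : X, s ∈ (hS.toSylow : Subgroup X) ↔ (s : G) ∈ S := by
    intro s
    rw [hS.coe_toSylow, Subgroup.mem_subgroupOf]
  refine ⟨(g' : G), Subgroup.mem_inf.mpr ⟨g'.2, ?_⟩, (c' : G),
    Subgroup.mem_inf.mpr ⟨c'.2, ?_⟩, ?_⟩
  · rw [Subgroup.mem_normalizer_iff] at hg' ⊢
    intro s
    constructor
    · intro hs
      have := (hg' ⟨s, hS.1 hs⟩).mp ((hmemS _).mpr hs)
      exact (hmemS _).mp this
    · intro hs
      have hsX : s ∈ X := by
        have h1 : (g' : G) * s * (g' : G)⁻¹ ∈ X := hS.1 hs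
        have h2 : s = (g' : G)⁻¹ * ((g' : G) * s * (g' : G)⁻¹) * (g' : G) := by group
        rw [h2]
        exact X.mul_mem (X.mul_mem (X.inv_mem g'.2) h1) g'.2
      have := (hg' ⟨s, hsX⟩).mpr ((hmemS _).mpr hs)
      exact (hmemS _).mp this
  · rw [Subgroup.mem_centralizer_iff] at hc' ⊢
    intro y hy
    have := hc' ⟨y, hS.1 (hY hy)⟩ hy
    exact congrArg Subtype.val this
  · have := congrArg Subtype.val hgc
    exact this.symm

/-- **control of fusion in a Sylow subgroup of `G`** by its normalizer (Glauberman's `ZJ`-theorem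
plus `p`-length one of `N_G(ZJ(P))`) -/
theorem fusion_top (hG : IsMinSimpleOddOrder G)
    (h1410 : ∀ H : Subgroup G, H ≠ ⊤ → PLengthLE p 1 H)
    (P : Sylow p G) (Y : Set G) (hY : Y ⊆ ((P : Subgroup G) : Set G)) (g : G)
    (hgY : ∀ y ∈ Y, g * y * g⁻¹ ∈ (P : Subgroup G)) :
    ∃ n ∈ Subgroup.normalizer ((P : Subgroup G) : Set G), ∃ c ∈ Subgroup.centralizer Y,
      g = n * c := by
  by_cases hP1 : (P : Subgroup G) = ⊥
  · refine ⟨1, one_mem _, g, ?_, (one_mul g).symm⟩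
    rw [Subgroup.mem_centralizer_iff]
    intro y hy
    have h1 : y ∈ (P : Subgroup G) := hY hy
    rw [hP1, Subgroup.mem_bot] at h1
    rw [h1, one_mul, mul_one]
  · have hp2 : p ≠ 2 := ms_prime_ne_two hG P.isPGroup' hP1
    have hfree := Cfsg.Agent.Lib.Helper68.OddRank2.not_involves_qd_of_odd hG.1 p hp2
    set U := Cfsg.centerThompsonAOf (P : Subgroup G) with hU
    have hU1 : U ≠ ⊥ := Cfsg.Agent.Lib.Helper68.OddRank2.centerThompsonAOf_ne_bot _ P.2 hP1
    have hUP : U ≤ (P : Subgroup G) := Cfsg.Agent.Lib.Helper68.OddRank2.centerThompsonAOf_le _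
    have hUtop : U ≠ ⊤ := by
      intro h
      exact ms_pgroup_ne_top hG P.isPGroup' (top_le_iff.mp (h ▸ hUP))
    have hNtop : Subgroup.normalizer (U : Set G) ≠ ⊤ := ms_normalizer_ne_top hG hU1 hUtop
    have hctl := Cfsg.Agent.Lib.Helper68.OddRank2.control_ZJ hp2 hfree P
    have hsub : ∀ t ∈ (P : Subgroup G), ∀ u ∈ U, t * u * t⁻¹ ∈ U := by
      intro t ht u hu
      obtain ⟨x, hx, hxa⟩ := hctl (U : Set G) hUP t (by
        rintro _ ⟨v, hv, rfl⟩
        exact mul_mem (mul_mem ht (hUP hv)) (inv_mem ht))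
      rw [hxa u hu]
      exact (Subgroup.mem_normalizer_iff.1 hx u).1 hu
    have hPN : (P : Subgroup G) ≤ Subgroup.normalizer (U : Set G) := by
      intro t ht
      rw [Subgroup.mem_normalizer_iff]
      intro u
      constructor
      · exact hsub t ht u
      · intro hu
        have := hsub t⁻¹ (inv_mem ht) _ hu
        have e : t⁻¹ * (t * u * t⁻¹) * t⁻¹⁻¹ = u := by group
        rwa [e] at this
    obtain ⟨x, hx, hxa⟩ := hctl Y hY g (by
      rintro _ ⟨y, hy, rfl⟩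
      exact hgY y hy)
    have hNs : Group.IsSolvable ↥(Subgroup.normalizer (U : Set G)) := ms_solvable hG hNtop
    obtain ⟨n, hn, c₁, hc₁, hxnc⟩ := fusion_in_sub hNs (h1410 _ hNtop)
      (isSylowIn_of_sylow_le P hPN) Y hY hx (by
        intro y hy
        rw [← hxa y hy]
        exact hgY y hy)
    have hxg : x⁻¹ * g ∈ Subgroup.centralizer Y := by
      rw [Subgroup.mem_centralizer_iff]
      intro y hy
      have h1 := hxa y hy
      have h2 : y * (x⁻¹ * g) = x⁻¹ * (x * y * x⁻¹) * g := by group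
      have h3 : x⁻¹ * g * y = x⁻¹ * (g * y * g⁻¹) * g := by group
      rw [h2, h3, h1]
    refine ⟨n, hn.2, c₁ * (x⁻¹ * g), mul_mem hc₁.2 hxg, ?_⟩
    rw [← mul_assoc, ← hxnc]
    group

/-- **control of fusion in a Sylow subgroup `S` of an arbitrary subgroup `X`** of `G` -/
theorem fusion_control (hG : IsMinSimpleOddOrder G)
    (h1410 : ∀ H : Subgroup G, H ≠ ⊤ → PLengthLE p 1 H)
    {X S : Subgroup G} (hS : IsSylowIn p X S) (Y : Set G) (hY : Y ⊆ (S : Set G)) {g : G}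
    (hg : g ∈ X) (hgY : ∀ y ∈ Y, g * y * g⁻¹ ∈ S) :
    ∃ n ∈ X ⊓ Subgroup.normalizer (S : Set G), ∃ c ∈ X ⊓ Subgroup.centralizer Y, g = n * c := by
  by_cases hX : X = ⊤
  · subst hX
    let P : Sylow p G := ⟨S, hS.2.1, fun {Q} hQ hle => hS.2.2 Q le_top hQ hle⟩
    obtain ⟨n, hn, c, hc, hgnc⟩ := fusion_top hG h1410 P Y hY g hgY
    exact ⟨n, Subgroup.mem_inf.mpr ⟨Subgroup.mem_top _, hn⟩, c,
      Subgroup.mem_inf.mpr ⟨Subgroup.mem_top _, hc⟩, hgnc⟩
  · exact fusion_in_sub (ms_solvable hG hX) (h1410 X hX) hS Y hY hg hgY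

end Cfsg.Agent.Lib.Helper31.FusionCtl
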