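import Mathlib
import Cfsg.Agent.Lib.Helper19.DicksonUse
import Cfsg.Agent.Lib.Helper09.SuzukiOrder
import Cfsg.Agent.Lib.Helper09.SuzukiLie
import Cfsg.Agent.Lib.Helper72.U3qMain

/-!
# Sections of `GL₅(2)`: no element of order nine
-/

set_option autoImplicit false

namespace Cfsg.Agent.Lib.Helper31.GL52

open Matrix

theorem card_GL52 : Nat.card (GL (Fin 5) (ZMod 2)) = 9999360 := by
  rw [Matrix.card_GL_field]
  simp [Fin.prod_univ_succ, ZMod.card]

theorem zmod_two_sq : ∀ t : ZMod 2, t ^ 2 = t := by decide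

theorem zmod_two_zero_ne_one : (0 : ZMod 2) ≠ 1 := by decide

/-- first explicit element of order three (trace `0`) -/
def mA : Matrix (Fin 5) (Fin 5) (ZMod 2) :=
  !![0, 1, 0, 0, 0; 1, 1, 0, 0, 0; 0, 0, 1, 0, 0; 0, 0, 0, 1, 0; 0, 0, 0, 0, 1]

/-- second explicit element of order three (trace `1`) -/
def mC : Matrix (Fin 5) (Fin 5) (ZMod 2) :=
  !![0, 1, 0, 0, 0; 1, 1, 0, 0, 0; 0, 0, 0, 1, 0; 0, 0, 1, 1, 0; 0, 0, 0, 0, 1]

theorem mA_cube : mA * mA * mA = 1 := by decide
theorem mC_cube : mC * mC * mC = 1 := by decide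
theorem mA_ne : mA ≠ 1 := by decide
theorem mC_ne : mC ≠ 1 := by decide
theorem mA_trace : mA.trace = 0 := by decide
theorem mC_trace : mC.trace = 1 := by decide


section Conj

variable {G : Type*} [Group G] [Finite G]

/-- If `y` has order nine in a finite group whose order has `3`-part nine, every element of
order three is conjugate to `y ^ 3` or `y ^ 6`. -/
theorem conj_of_order_three (hG : (Nat.card G).factorization 3 = 2)
    (y : G) (hy : orderOf y = 9) (x : G) (hx : orderOf x = 3) :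
    ∃ g : G, g * x * g⁻¹ = y ^ 3 ∨ g * x * g⁻¹ = y ^ 6 := by
  have : Fact (Nat.Prime 3) := ⟨Nat.prime_three⟩
  have hy3 : IsPGroup 3 (Subgroup.zpowers y) :=
    IsPGroup.of_card (n := 2) (by rw [Nat.card_zpowers, hy]; norm_num)
  have hx3 : IsPGroup 3 (Subgroup.zpowers x) :=
    IsPGroup.of_card (n := 1) (by rw [Nat.card_zpowers, hx]; norm_num)
  obtain ⟨P, hP⟩ := hy3.exists_le_sylow
  obtain ⟨Q, hQ⟩ := hx3.exists_le_sylow
  have hPc : Nat.card P = 9 := by rw [Sylow.card_eq_multiplicity, hG]; norm_num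
  have hPy : Subgroup.zpowers y = (P : Subgroup G) :=
    Subgroup.eq_of_le_of_card_ge hP (by rw [Nat.card_zpowers, hy]; exact le_of_eq hPc)
  obtain ⟨g, hg⟩ := MulAction.exists_smul_eq G Q P
  have hxQ : x ∈ (Q : Subgroup G) := hQ (Subgroup.mem_zpowers x)
  have hmem : g * x * g⁻¹ ∈ (P : Subgroup G) := by
    rw [← hg, Sylow.coe_subgroup_smul]
    have := Subgroup.smul_mem_pointwise_smul x (MulAut.conj g) (Q : Subgroup G) hxQ
    simpa [MulAut.smul_def] using this
  rw [← hPy] at hmem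
  obtain ⟨n, hn⟩ := (mem_powers_iff_mem_zpowers.2 hmem)
  have hn' : y ^ (n % 9) = g * x * g⁻¹ := by
    have := pow_mod_orderOf y n
    rw [hy] at this
    rw [this]; exact hn
  have hcube : (g * x * g⁻¹) ^ 3 = 1 := by
    rw [conj_pow, ← hx, pow_orderOf_eq_one, mul_one, mul_inv_cancel]
  have hne : g * x * g⁻¹ ≠ 1 := by
    intro h1
    have : x = 1 := by
      have := congrArg (fun t => g⁻¹ * t * g) h1
      simpa [mul_assoc] using this
    rw [this, orderOf_one] at hx
    omega
  have hdvd : 9 ∣ (n % 9) * 3 := by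
    have h0 : orderOf y ∣ (n % 9) * 3 := by
      apply orderOf_dvd_of_pow_eq_one
      rw [pow_mul, hn', hcube]
    rwa [hy] at h0
  have hlt : n % 9 < 9 := Nat.mod_lt _ (by norm_num)
  refine ⟨g, ?_⟩
  have h3 : n % 9 = 0 ∨ n % 9 = 3 ∨ n % 9 = 6 := by omega
  rcases h3 with h | h | h
  · rw [h, pow_zero] at hn'
    exact absurd hn'.symm hne
  · left; rw [← hn', h]
  · right; rw [← hn', h]

end Conj

/-- the first explicit element as a unit -/
def gA : GL (Fin 5) (ZMod 2) := ⟨mA, mA * mA, by decide, by decide⟩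

/-- the second explicit element as a unit -/
def gC : GL (Fin 5) (ZMod 2) := ⟨mC, mC * mC, by decide, by decide⟩

theorem orderOf_gA : orderOf gA = 3 := by
  have : Fact (Nat.Prime 3) := ⟨Nat.prime_three⟩
  apply orderOf_eq_prime
  · apply Units.ext
    show ((gA ^ 3 : GL (Fin 5) (ZMod 2)) : Matrix (Fin 5) (Fin 5) (ZMod 2)) = 1
    rw [Units.val_pow_eq_pow_val]
    show mA ^ 3 = 1
    rw [pow_succ, pow_two]; exact mA_cube
  · intro h
    exact mA_ne (congrArg Units.val h)

theorem orderOf_gC : orderOf gC = 3 := by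
  have : Fact (Nat.Prime 3) := ⟨Nat.prime_three⟩
  apply orderOf_eq_prime
  · apply Units.ext
    show ((gC ^ 3 : GL (Fin 5) (ZMod 2)) : Matrix (Fin 5) (Fin 5) (ZMod 2)) = 1
    rw [Units.val_pow_eq_pow_val]
    show mC ^ 3 = 1
    rw [pow_succ, pow_two]; exact mC_cube
  · intro h
    exact mC_ne (congrArg Units.val h)

/-- `GL₅(2)` has no element of order nine. -/
theorem no_order_nine (y : GL (Fin 5) (ZMod 2)) : orderOf y ≠ 9 := by
  intro hy
  have : Fact (Nat.Prime 2) := ⟨Nat.prime_two⟩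
  have hfac : (Nat.card (GL (Fin 5) (ZMod 2))).factorization 3 = 2 := by
    rw [card_GL52]
    have : (9999360 : ℕ) = 3 ^ 2 * 1111040 := by norm_num
    rw [this, Nat.factorization_mul (by norm_num) (by norm_num), Nat.factorization_pow]
    have h2 : (1111040 : ℕ).factorization 3 = 0 :=
      Nat.factorization_eq_zero_of_not_dvd (by norm_num)
    simp [h2, Nat.Prime.factorization_self Nat.prime_three]
  obtain ⟨g₁, h₁⟩ := conj_of_order_three hfac y hy gA orderOf_gA
  obtain ⟨g₂, h₂⟩ := conj_of_order_three hfac y hy gC orderOf_gC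
  have hsq : ∀ t : ZMod 2, t ^ 2 = t := zmod_two_sq
  have htr6 : ((y ^ 6 : GL (Fin 5) (ZMod 2)) : Matrix (Fin 5) (Fin 5) (ZMod 2)).trace =
      ((y ^ 3 : GL (Fin 5) (ZMod 2)) : Matrix (Fin 5) (Fin 5) (ZMod 2)).trace := by
    have : (y ^ 6 : GL (Fin 5) (ZMod 2)) = (y ^ 3) ^ 2 := by rw [← pow_mul]
    rw [this, Units.val_pow_eq_pow_val, ZMod.trace_pow_card, hsq]
  have hconj : ∀ (g a : GL (Fin 5) (ZMod 2)),
      ((g * a * g⁻¹ : GL (Fin 5) (ZMod 2)) : Matrix (Fin 5) (Fin 5) (ZMod 2)).trace =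
        (a : Matrix (Fin 5) (Fin 5) (ZMod 2)).trace := by
    intro g a
    rw [Units.val_mul, Units.val_mul]
    exact Matrix.trace_units_conj g a.1
  have hA : (mA).trace = ((y ^ 3 : GL (Fin 5) (ZMod 2)) : Matrix (Fin 5) (Fin 5) (ZMod 2)).trace := by
    have := hconj g₁ gA
    rcases h₁ with h | h
    · rw [h] at this; exact this.symm
    · rw [h, htr6] at this; exact this.symm
  have hC : (mC).trace = ((y ^ 3 : GL (Fin 5) (ZMod 2)) : Matrix (Fin 5) (Fin 5) (ZMod 2)).trace := by
    have := hconj g₂ gC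
    rcases h₂ with h | h
    · rw [h] at this; exact this.symm
    · rw [h, htr6] at this; exact this.symm
  have : (0 : ZMod 2) = 1 := by rw [← mA_trace, ← mC_trace, hA, hC]
  exact zmod_two_zero_ne_one this

section SL2

variable {F : Type*} [Field F] [CharP F 2]

/-- In characteristic two, a `2 × 2` matrix of determinant one and order three satisfies
`A² = A + 1`. -/
theorem sq_eq_add_one (A : Matrix (Fin 2) (Fin 2) F)
    (hdet : A.det = 1) (hcube : A * A * A = 1) (hne : A ≠ 1) : A * A = A + 1 := by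
  have h2 : (2 : F) = 0 := CharTwo.two_eq_zero
  rw [Matrix.det_fin_two] at hdet
  have hCH : A * A = (A 0 0 + A 1 1) • A + 1 := by
    ext i j
    fin_cases i <;> fin_cases j
    · simp [Matrix.mul_apply, Fin.sum_univ_two]
      linear_combination (-1 : F) * hdet - h2
    · simp [Matrix.mul_apply, Fin.sum_univ_two]
      ring
    · simp [Matrix.mul_apply, Fin.sum_univ_two]
      ring
    · simp [Matrix.mul_apply, Fin.sum_univ_two]
      linear_combination (-1 : F) * hdet - h2
  obtain ⟨t, htdef⟩ : ∃ t : F, t = A 0 0 + A 1 1 := ⟨_, rfl⟩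
  rw [← htdef] at hCH
  by_cases ht : t = 1
  · rw [hCH, ht, one_smul]
  exfalso
  have hA3 : A * A * A = (t * t + 1) • A + t • (1 : Matrix (Fin 2) (Fin 2) F) := by
    rw [hCH, Matrix.add_mul, Matrix.one_mul, Matrix.smul_mul, hCH, smul_add, smul_smul,
      add_smul (t * t) 1 A, one_smul]
    abel
  have h3 : (t * t + 1) • A + t • (1 : Matrix (Fin 2) (Fin 2) F) = 1 := by
    rw [← hA3]; exact hcube
  have hne0 : t * t + 1 ≠ 0 := by
    intro h0
    apply ht
    have : (t + 1) * (t + 1) = 0 := by linear_combination h0 + t * h2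
    have h1 : t + 1 = 0 := by
      rcases mul_eq_zero.1 this with h | h <;> exact h
    linear_combination h1 - h2
  have e00 := congrFun (congrFun h3 0) 0
  have e01 := congrFun (congrFun h3 0) 1
  have e10 := congrFun (congrFun h3 1) 0
  have e11 := congrFun (congrFun h3 1) 1
  simp at e00 e01 e10 e11
  have a01 : A 0 1 = 0 := by
    rcases e01 with h | h
    · exact absurd h hne0
    · exact h
  have a10 : A 1 0 = 0 := by
    rcases e10 with h | h
    · exact absurd h hne0
    · exact h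
  have hdiag : A 0 0 = A 1 1 := by
    apply mul_left_cancel₀ hne0
    linear_combination e00 - e11
  have ht0 : t = 0 := by
    rw [htdef, hdiag]; linear_combination (A 1 1) * h2
  rw [ht0] at e00 e11
  simp at e00 e11
  apply hne
  ext i j
  fin_cases i <;> fin_cases j <;> simp [a01, a10, e00, e11]


/-- In characteristic two `SL₂` contains no elementary abelian subgroup of order nine. -/
theorem no_c3c3 (g h : Matrix.SpecialLinearGroup (Fin 2) F) (hg : g ^ 3 = 1) (hh : h ^ 3 = 1)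
    (hg1 : g ≠ 1) (hh1 : h ≠ 1) (hc : g * h = h * g) (hne : h ≠ g) (hne' : h ≠ g⁻¹) :
    False := by
  have h2 : (2 : F) = 0 := CharTwo.two_eq_zero
  have key : ∀ k : Matrix.SpecialLinearGroup (Fin 2) F, k ^ 3 = 1 → k ≠ 1 →
      (k : Matrix (Fin 2) (Fin 2) F) * (k : Matrix (Fin 2) (Fin 2) F) =
        (k : Matrix (Fin 2) (Fin 2) F) + 1 := by
    intro k hk hk1
    apply sq_eq_add_one _ k.det_coe
    · have := congrArg (fun x : Matrix.SpecialLinearGroup (Fin 2) F => (x : Matrix (Fin 2) (Fin 2) F)) hk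
      simpa [pow_succ] using this
    · intro h1
      apply hk1
      ext i j
      simpa using congrFun (congrFun h1 i) j
  have hA := key g hg hg1
  have hB := key h hh hh1
  have hgh3 : (g * h) ^ 3 = 1 := by
    rw [(show Commute g h from hc).mul_pow, hg, hh, one_mul]
  have hgh1 : g * h ≠ 1 := by
    intro h1
    exact hne' (eq_inv_of_mul_eq_one_right h1)
  have hAB := key (g * h) hgh3 hgh1
  rw [Matrix.SpecialLinearGroup.coe_mul] at hAB
  have hcM : (g : Matrix (Fin 2) (Fin 2) F) * (h : Matrix (Fin 2) (Fin 2) F) =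
      (h : Matrix (Fin 2) (Fin 2) F) * (g : Matrix (Fin 2) (Fin 2) F) := by
    rw [← Matrix.SpecialLinearGroup.coe_mul, ← Matrix.SpecialLinearGroup.coe_mul, hc]
  have hsum : (g : Matrix (Fin 2) (Fin 2) F) + (h : Matrix (Fin 2) (Fin 2) F) = 0 := by
    generalize (g : Matrix (Fin 2) (Fin 2) F) = A at hA hAB hcM
    generalize (h : Matrix (Fin 2) (Fin 2) F) = B at hB hAB hcM
    have e1 : A * B * (A * B) = (A * A) * (B * B) := by
      rw [Matrix.mul_assoc A B (A * B), ← Matrix.mul_assoc B A B, ← hcM]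
      simp only [Matrix.mul_assoc]
    rw [e1, hA, hB] at hAB
    have e2 : (A + 1) * (B + 1) = A * B + 1 + (A + B) := by
      rw [Matrix.add_mul, Matrix.mul_add, Matrix.mul_one, Matrix.one_mul]
      abel
    rw [e2] at hAB
    exact add_eq_left.1 hAB
  apply hne
  ext i j
  have := congrFun (congrFun hsum i) j
  simp only [Matrix.add_apply, Matrix.zero_apply] at this
  exact (CharTwo.add_eq_zero.1 this).symm


theorem center_sl2_eq_bot : Subgroup.center (Matrix.SpecialLinearGroup (Fin 2) F) = ⊥ := by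
  rw [Subgroup.eq_bot_iff_forall]
  intro A hA
  obtain ⟨r, hr, hrA⟩ := Matrix.SpecialLinearGroup.mem_center_iff.1 hA
  have h2 : (2 : F) = 0 := CharTwo.two_eq_zero
  have hr1 : r = 1 := by
    rw [Fintype.card_fin] at hr
    have : (r - 1) * (r - 1) = 0 := by linear_combination hr - r * h2 + h2
    have h1 : r - 1 = 0 := by
      rcases mul_eq_zero.1 this with h | h <;> exact h
    linear_combination h1
  ext i j
  rw [← hrA, hr1]
  simp

/-- In characteristic two `PSL₂` and `SL₂` are isomorphic. -/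
noncomputable def pslEquivSl :
    Matrix.ProjectiveSpecialLinearGroup (Fin 2) F ≃* Matrix.SpecialLinearGroup (Fin 2) F :=
  (QuotientGroup.quotientMulEquivOfEq center_sl2_eq_bot).trans QuotientGroup.quotientBot

end SL2

section Nine

variable (F : Type*) [Field F] [Fintype F]

theorem charP_two_of_card (k : ℕ) (hF : Fintype.card F = 2 ^ k) : CharP F 2 := by
  obtain ⟨p, hp⟩ := CharP.exists F
  obtain ⟨n, hpp, hn⟩ := FiniteField.card F p
  rw [hF] at hn
  have hdvd : p ∣ 2 ^ k := by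
    rw [hn]; exact dvd_pow_self p n.ne_zero
  have : p = 2 := (Nat.prime_dvd_prime_iff_eq hpp Nat.prime_two).1 (hpp.dvd_of_dvd_pow hdvd)
  rw [← this]; exact hp

end Nine


section Nine2

variable (F : Type*) [Field F] [Fintype F]

theorem card_psl_eight (hF : Fintype.card F = 8) :
    Nat.card (Matrix.ProjectiveSpecialLinearGroup (Fin 2) F) = 504 := by
  have := Cfsg.Agent.Lib.Helper19.DicksonUse.card_psl_mul_d (F := F)
  rw [hF] at this
  norm_num at this
  exact this

/-- `PSL₂(8)` has an element of order nine. -/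
theorem exists_order_nine_psl (hF : Fintype.card F = 8) :
    ∃ x : Matrix.ProjectiveSpecialLinearGroup (Fin 2) F, orderOf x = 9 := by
  have hchar : CharP F 2 := charP_two_of_card F 3 (by rw [hF]; norm_num)
  have : Fact (Nat.Prime 3) := ⟨Nat.prime_three⟩
  by_contra hcon
  push Not at hcon
  have hcard := card_psl_eight F hF
  have : Finite (Matrix.ProjectiveSpecialLinearGroup (Fin 2) F) :=
    Nat.finite_of_card_ne_zero (by rw [hcard]; norm_num)
  have hfac : (Nat.card (Matrix.ProjectiveSpecialLinearGroup (Fin 2) F)).factorization 3 = 2 := by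
    rw [hcard]
    have : (504 : ℕ) = 3 ^ 2 * 56 := by norm_num
    rw [this, Nat.factorization_mul (by norm_num) (by norm_num), Nat.factorization_pow]
    have h2 : (56 : ℕ).factorization 3 = 0 :=
      Nat.factorization_eq_zero_of_not_dvd (by norm_num)
    simp [h2, Nat.Prime.factorization_self Nat.prime_three]
  obtain ⟨Q⟩ : Nonempty (Sylow 3 (Matrix.ProjectiveSpecialLinearGroup (Fin 2) F)) := inferInstance
  have hQc : Nat.card Q = 3 ^ 2 := by rw [Sylow.card_eq_multiplicity, hfac]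
  have hcomm := (IsPGroup.isMulCommutative_of_card_eq_prime_sq hQc).is_comm.comm
  -- orders of nonidentity elements of Q are 3
  have hord : ∀ x : Matrix.ProjectiveSpecialLinearGroup (Fin 2) F,
      x ∈ (Q : Subgroup (Matrix.ProjectiveSpecialLinearGroup (Fin 2) F)) → x ≠ 1 → orderOf x = 3 := by
    intro x hx hx1
    have hdvd : orderOf x ∣ 3 ^ 2 := by
      rw [← hQc]
      have := orderOf_dvd_natCard (⟨x, hx⟩ : (Q : Subgroup (Matrix.ProjectiveSpecialLinearGroup (Fin 2) F)))
      rwa [Subgroup.orderOf_mk] at this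
    obtain ⟨k, hk, hk2⟩ := (Nat.dvd_prime_pow Nat.prime_three).1 hdvd
    interval_cases k
    · rw [pow_zero, orderOf_eq_one_iff] at hk2; exact absurd hk2 hx1
    · rw [hk2]; norm_num
    · exact absurd (by rw [hk2]; norm_num) (hcon x)
  -- a nonidentity element
  have hQnt : Nontrivial (Q : Subgroup (Matrix.ProjectiveSpecialLinearGroup (Fin 2) F)) := by
    rw [← Finite.one_lt_card_iff_nontrivial, hQc]; norm_num
  obtain ⟨x, hx1⟩ := exists_ne (1 : (Q : Subgroup (Matrix.ProjectiveSpecialLinearGroup (Fin 2) F)))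
  have hx1' : (x : Matrix.ProjectiveSpecialLinearGroup (Fin 2) F) ≠ 1 :=
    fun h => hx1 (Subtype.ext h)
  have hxo := hord x x.2 hx1'
  -- an element outside the cyclic subgroup
  have hlt : Subgroup.zpowers (x : Matrix.ProjectiveSpecialLinearGroup (Fin 2) F) <
      (Q : Subgroup (Matrix.ProjectiveSpecialLinearGroup (Fin 2) F)) := by
    refine lt_of_le_of_ne ((Subgroup.zpowers_le).2 x.2) ?_
    intro heq
    have := congrArg (fun H : Subgroup (Matrix.ProjectiveSpecialLinearGroup (Fin 2) F) => Nat.card H) heq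
    simp only [Nat.card_zpowers, hxo] at this
    rw [hQc] at this
    norm_num at this
  obtain ⟨y, hyQ, hyx⟩ := SetLike.exists_of_lt hlt
  have hy1 : y ≠ 1 := fun h => hyx (h ▸ Subgroup.one_mem _)
  have hyo := hord y hyQ hy1
  have hxy : (x : Matrix.ProjectiveSpecialLinearGroup (Fin 2) F) * y = y * x := by
    have := hcomm x ⟨y, hyQ⟩
    exact congrArg Subtype.val this
  -- transport to SL₂
  let e := pslEquivSl (F := F)
  apply no_c3c3 (e x) (e y)
  · rw [← map_pow, orderOf_dvd_iff_pow_eq_one.1 (dvd_of_eq hxo), map_one]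
  · rw [← map_pow, orderOf_dvd_iff_pow_eq_one.1 (dvd_of_eq hyo), map_one]
  · intro h; exact hx1' (e.injective (h.trans (map_one e).symm))
  · intro h; exact hy1 (e.injective (h.trans (map_one e).symm))
  · rw [← map_mul, ← map_mul, hxy]
  · intro h
    exact hyx ((e.injective h) ▸ Subgroup.mem_zpowers _)
  · intro h
    rw [← map_inv] at h
    exact hyx ((e.injective h) ▸ Subgroup.inv_mem _ (Subgroup.mem_zpowers _))

end Nine2


section Main

theorem two_pow_dvd_bound {k : ℕ} (h : 2 ^ k ∣ 9999360) : k ≤ 10 := by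
  by_contra hk
  push Not at hk
  have : 2 ^ 11 ∣ 9999360 := dvd_trans (pow_dvd_pow 2 hk) h
  norm_num at this

theorem two_pow_dvd_bound' {k : ℕ} (h : 2 ^ k ∣ 3 * 9999360) : k ≤ 10 := by
  by_contra hk
  push Not at hk
  have : 2 ^ 11 ∣ 3 * 9999360 := dvd_trans (pow_dvd_pow 2 hk) h
  norm_num at this

variable {H : Subgroup (GL (Fin 5) (ZMod 2))} {K : Subgroup ↥H} [K.Normal]

omit [K.Normal] in
theorem card_section_dvd : Nat.card (↥H ⧸ K) ∣ 9999360 := by
  rw [← card_GL52]
  exact dvd_trans (Subgroup.card_quotient_dvd_card K) (Subgroup.card_subgroup_dvd_card H)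

/-- no section of `GL₅(2)` has an element of order nine -/
theorem section_no_order_nine (x : ↥H ⧸ K) : orderOf x ≠ 9 := by
  intro hx
  obtain ⟨y, rfl⟩ := QuotientGroup.mk_surjective x
  have hdvd : 9 ∣ orderOf y := by
    rw [← hx]
    apply orderOf_dvd_of_pow_eq_one
    rw [← QuotientGroup.mk_pow, pow_orderOf_eq_one, QuotientGroup.mk_one]
  have hpos : 0 < orderOf y := orderOf_pos y
  obtain ⟨k, hk⟩ := hdvd
  have hk0 : k ≠ 0 := by
    rintro rfl
    rw [mul_zero] at hk
    omega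
  have h9 : orderOf (y ^ k) = 9 := by
    rw [orderOf_pow_of_dvd hk0 ⟨9, by rw [hk, mul_comm]⟩, hk]
    exact Nat.mul_div_cancel _ (Nat.pos_of_ne_zero hk0)
  have h9' : orderOf ((y ^ k : ↥H) : GL (Fin 5) (ZMod 2)) = 9 := by
    rw [Subgroup.orderOf_coe]; exact h9
  exact no_order_nine _ h9'

/-- **S3179.** -/
theorem main_result
    (hX : (∃ (n : ℕ) (F : Type) (_ : Field F) (_ : Fintype F), 2 ≤ n ∧ Fintype.card F = 2 ^ n ∧
        Nonempty (↥H ⧸ K ≃* Matrix.ProjectiveSpecialLinearGroup (Fin 2) F)) ∨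
      (∃ (m : ℕ) (F : Type) (_ : Field F) (_ : Fintype F), 1 ≤ m ∧
        Fintype.card F = 2 ^ (2 * m + 1) ∧
        Nonempty (↥H ⧸ K ≃* ↥(Cfsg.Lie.Sz F (2 ^ (m + 1))))) ∨
      (∃ (n : ℕ) (F : Type) (_ : Field F) (_ : Fintype F), 2 ≤ n ∧ Fintype.card F = 4 ^ n ∧
        Nonempty (↥H ⧸ K ≃* Cfsg.PSU 3 F (2 ^ n)))) :
    ∃ (F : Type) (_ : Field F) (_ : Fintype F), Fintype.card F = 4 ∧
      Nonempty (↥H ⧸ K ≃* Matrix.ProjectiveSpecialLinearGroup (Fin 2) F) := by
  have hdiv := card_section_dvd (H := H) (K := K)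
  rcases hX with ⟨n, F, iF, iFt, hn, hF, ⟨e⟩⟩ | ⟨m, F, iF, iFt, hm, hF, ⟨e⟩⟩ |
    ⟨n, F, iF, iFt, hn, hF, ⟨e⟩⟩
  · -- PSL₂(2ⁿ)
    have hc := Cfsg.Agent.Lib.Helper19.DicksonUse.card_psl_mul_d (F := F)
    rw [← Nat.card_congr e.toEquiv, hF] at hc
    have hg : Nat.gcd 2 (2 ^ n - 1) = 1 := by
      have hodd : Odd (2 ^ n - 1) := by
        have h1 : 1 ≤ 2 ^ n := Nat.one_le_two_pow
        have he : Even (2 ^ n) := (Nat.even_pow' (by omega)).2 even_two
        exact Nat.Even.sub_odd h1 he odd_one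
      exact (Nat.coprime_two_left.2 hodd)
    rw [hg, mul_one] at hc
    rw [hc] at hdiv
    have hn10 : n ≤ 10 := two_pow_dvd_bound (dvd_trans (dvd_mul_right _ _) hdiv)
    interval_cases n
    · exact ⟨F, iF, iFt, by rw [hF]; norm_num, ⟨e⟩⟩
    · exfalso
      obtain ⟨x, hx⟩ := exists_order_nine_psl F (by rw [hF]; norm_num)
      apply section_no_order_nine (e.symm x)
      rw [MulEquiv.orderOf_eq]; exact hx
    all_goals (exfalso; norm_num at hdiv)
  · -- Sz
    have hc := Cfsg.Agent.Lib.Helper09.card_sz hm hF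
    rw [Nat.card_congr ((Cfsg.Agent.Lib.Helper09.lieEquiv hm hF).toEquiv.trans e.symm.toEquiv)]
      at hc
    rw [hc] at hdiv
    exfalso
    have h1 : (2 ^ (2 * m + 1)) ^ 2 ∣ 9999360 :=
      dvd_trans (dvd_trans (dvd_mul_right _ _) (dvd_mul_right _ _)) hdiv
    rw [← pow_mul] at h1
    have hm2 : (2 * m + 1) * 2 ≤ 10 := two_pow_dvd_bound h1
    have hm' : m ≤ 2 := by omega
    interval_cases m <;> norm_num at hdiv
  · -- PSU₃
    have hF' : Fintype.card F = (2 ^ n) ^ 2 := by
      rw [hF, ← pow_mul, mul_comm, pow_mul]; norm_num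
    have hc := Cfsg.Agent.Lib.Helper72.U3q.card_PSU_mul
      (Cfsg.Agent.Lib.Helper72.U3q.Inv2.ofCard hF')
    rw [← Nat.card_congr e.toEquiv] at hc
    exfalso
    have hg3 : Nat.gcd 3 (2 ^ n + 1) ∣ 3 := Nat.gcd_dvd_left _ _
    have h1 : (2 ^ n) ^ 3 * (((2 ^ n) ^ 2 - 1) * ((2 ^ n) ^ 3 + 1)) ∣ 3 * 9999360 := by
      rw [← hc]
      exact Nat.mul_dvd_mul hg3 hdiv
    have h2 : (2 ^ n) ^ 3 ∣ 3 * 9999360 := dvd_trans (dvd_mul_right _ _) h1
    rw [← pow_mul] at h2
    have hn3 : n * 3 ≤ 10 := two_pow_dvd_bound' h2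
    have hn' : n ≤ 3 := by omega
    interval_cases n <;> norm_num at h1

end Main

end Cfsg.Agent.Lib.Helper31.GL52
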