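import Mathlib

set_option autoImplicit false
set_option linter.unusedSectionVars false

/-!
# Imprimitivity of a faithful irreducible module for a `p`-group with a normal `E_{p²}`

`ρ : G →* GL(V)` faithful irreducible over `ZMod q`; `z` central of order `p`, `u ∉ ⟨z⟩` of order `p`
with all conjugates of `u` in `u ⟨z⟩`.  Then `V` is the direct sum of the `p` fixed spaces
`C_V(u z^i)`, permuted by `G` via translations, with block stabilizer `C_G(u)` of index `p`.
-/

namespace Cfsg.Agent.Lib.Helper31.Imprimitive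

open Subgroup

section

variable {q : ℕ} [hq : Fact q.Prime] {V : Type*} [AddCommGroup V] [Module (ZMod q) V]
  {G : Type*} [Group G] (ρ : G →* (V ≃ₗ[ZMod q] V))

/-- The fixed space of `x`. -/
def fixedSub (x : G) : Submodule (ZMod q) V :=
  LinearMap.eqLocus ((ρ x : V ≃ₗ[ZMod q] V) : V →ₗ[ZMod q] V) LinearMap.id

theorem mem_fixedSub {x : G} {v : V} : v ∈ fixedSub ρ x ↔ ρ x v = v := by
  simp [fixedSub, LinearMap.mem_eqLocus]

theorem rho_mul (g h : G) (v : V) : ρ (g * h) v = ρ g (ρ h v) := by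
  rw [map_mul]; rfl

theorem rho_one (v : V) : ρ 1 v = v := by
  rw [map_one]; rfl

theorem rho_inv_apply (g : G) (v : V) : ρ g⁻¹ (ρ g v) = v := by
  rw [← rho_mul, inv_mul_cancel, rho_one]

theorem rho_apply_inv (g : G) (v : V) : ρ g (ρ g⁻¹ v) = v := by
  rw [← rho_mul, mul_inv_cancel, rho_one]

/-- The irreducibility hypothesis. -/
def Irr : Prop :=
  ∀ W : Submodule (ZMod q) V, (∀ g : G, ∀ w ∈ W, ρ g w ∈ W) → W = ⊥ ∨ W = ⊤

variable {ρ}

theorem fixed_central_eq_bot (hρ : Function.Injective ρ) (hirr : Irr ρ) {c : G}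
    (hc : c ∈ center G) (hc1 : c ≠ 1) : fixedSub ρ c = ⊥ := by
  have hinv : ∀ g : G, ∀ w ∈ fixedSub ρ c, ρ g w ∈ fixedSub ρ c := by
    intro g w hw
    rw [mem_fixedSub] at hw ⊢
    rw [← rho_mul, ← Subgroup.mem_center_iff.mp hc g, rho_mul, hw]
  rcases hirr _ hinv with h | h
  · exact h
  · exfalso
    apply hc1
    apply hρ
    rw [map_one]
    ext v
    have : v ∈ fixedSub ρ c := by rw [h]; exact Submodule.mem_top
    exact (mem_fixedSub ρ).mp this

theorem norm_zero (hρ : Function.Injective ρ) (hirr : Irr ρ) {c : G}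
    (hc : c ∈ center G) (hc1 : c ≠ 1) (p : ℕ) (hcp : c ^ p = 1) (v : V) :
    ∑ m ∈ Finset.range p, ρ (c ^ m) v = 0 := by
  have hfix : ∑ m ∈ Finset.range p, ρ (c ^ m) v ∈ fixedSub ρ c := by
    rw [mem_fixedSub, map_sum]
    have h1 : ∀ m : ℕ, ρ c (ρ (c ^ m) v) = ρ (c ^ (m + 1)) v := by
      intro m
      rw [← rho_mul, ← pow_succ']
    simp only [h1]
    have h2 := Finset.sum_range_succ' (fun m => ρ (c ^ m) v) p
    have h3 := Finset.sum_range_succ (fun m => ρ (c ^ m) v) p
    simp only [hcp, pow_zero] at h2 h3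
    rw [h3] at h2
    exact (add_right_cancel h2).symm
  rw [fixed_central_eq_bot hρ hirr hc hc1, Submodule.mem_bot] at hfix
  exact hfix


/-- A nontrivial module over `ZMod q` has order divisible by `q`. -/
theorem q_dvd_card [Finite V] [Nontrivial V] : q ∣ Nat.card V := by
  obtain ⟨v, hv⟩ := exists_ne (0 : V)
  have h1 : q • v = 0 := by
    rw [← Nat.cast_smul_eq_nsmul (ZMod q) q v, ZMod.natCast_self, zero_smul]
  have h2 : addOrderOf v = q := addOrderOf_eq_prime h1 hv
  rw [← h2]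
  exact addOrderOf_dvd_natCard v

/-- A nontrivial `q`-group cannot act faithfully and irreducibly in characteristic `q`. -/
theorem not_isPGroup_self [Finite V] [Nontrivial V] (hρ : Function.Injective ρ) (hirr : Irr ρ)
    (hG : IsPGroup q G) {z : G} (hz : z ≠ 1) : False := by
  let _ : MulAction G V := MulAction.compHom V ρ
  have hsmul : ∀ (g : G) (v : V), g • v = ρ g v := fun g v => rfl
  have h0 : (0 : V) ∈ MulAction.fixedPoints G V := by
    intro g
    rw [hsmul, map_zero]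
  obtain ⟨b, hb, hb0⟩ := hG.exists_fixed_point_of_prime_dvd_card_of_fixed_point V q_dvd_card h0
  have hinv : ∀ g : G, ∀ w ∈ (⨅ g : G, fixedSub ρ g), ρ g w ∈ (⨅ g : G, fixedSub ρ g) := by
    intro g w hw
    have : ρ g w = w := (mem_fixedSub ρ).mp ((Submodule.mem_iInf _).mp hw g)
    rw [this]
    exact hw
  have hbm : b ∈ (⨅ g : G, fixedSub ρ g) := by
    rw [Submodule.mem_iInf]
    intro g
    rw [mem_fixedSub, ← hsmul]
    exact hb g
  rcases hirr _ hinv with h | h
  · rw [h, Submodule.mem_bot] at hbm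
    exact hb0 hbm.symm
  · apply hz
    apply hρ
    rw [map_one]
    ext v
    have : v ∈ (⨅ g : G, fixedSub ρ g) := by rw [h]; exact Submodule.mem_top
    exact (mem_fixedSub ρ).mp ((Submodule.mem_iInf _).mp this z)


/-- The data: `z` central of order `p`, `u` of order `p` outside `⟨z⟩` with conjugates in `u ⟨z⟩`. -/
structure Data (ρ : G →* (V ≃ₗ[ZMod q] V)) (p : ℕ) (z u : G) : Prop where
  inj : Function.Injective ρ
  irr : Irr ρ
  hz1 : z ≠ 1
  hzp : z ^ p = 1
  hzc : z ∈ center G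
  hup : u ^ p = 1
  huz : u ∉ zpowers z
  hconj : ∀ s : G, u⁻¹ * (s * u * s⁻¹) ∈ zpowers z

namespace Data

variable {p : ℕ} [hp : Fact p.Prime] {z u : G} (D : Data ρ p z u)

include D

theorem orderOf_z : orderOf z = p := orderOf_eq_prime D.hzp D.hz1

theorem z_comm (g : G) : g * z = z * g := Subgroup.mem_center_iff.mp D.hzc g

theorem zpow_comm (g : G) (n : ℕ) : g * z ^ n = z ^ n * g :=
  ((Commute.pow_right (D.z_comm g) n)).eq

theorem zpow_central (n : ℕ) : z ^ n ∈ center G := Subgroup.pow_mem _ D.hzc n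

theorem zpow_ne_one {n : ℕ} (hn : ¬ p ∣ n) : z ^ n ≠ 1 := by
  intro h
  apply hn
  rw [← D.orderOf_z]
  exact orderOf_dvd_of_pow_eq_one h

theorem zpow_mod (n : ℕ) : z ^ (n % p) = z ^ n := by
  conv_rhs => rw [← Nat.div_add_mod n p, pow_add, pow_mul, D.hzp, one_pow, one_mul]

/-- `(u z^i)^m = u^m z^(i m)`. -/
theorem uz_pow (i m : ℕ) : (u * z ^ i) ^ m = u ^ m * z ^ (i * m) := by
  have hc : Commute u (z ^ i) := D.zpow_comm u i
  rw [hc.mul_pow, ← pow_mul]

theorem uz_pow_p (i : ℕ) : (u * z ^ i) ^ p = 1 := by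
  rw [D.uz_pow, D.hup, one_mul, mul_comm, pow_mul, D.hzp, one_pow]

theorem uz_ne_one (i : ℕ) : u * z ^ i ≠ 1 := by
  intro h
  apply D.huz
  have : u = (z ^ i)⁻¹ := eq_inv_of_mul_eq_one_left h
  rw [this]
  exact Subgroup.inv_mem _ (Subgroup.pow_mem _ (Subgroup.mem_zpowers z) i)

/-- The blocks. -/
def W (_D : Data ρ p z u) (i : ℕ) : Submodule (ZMod q) V := fixedSub ρ (u * z ^ i)

theorem mem_W {i : ℕ} {v : V} : v ∈ D.W i ↔ ρ (u * z ^ i) v = v := mem_fixedSub ρ

theorem W_mod (i : ℕ) : D.W (i % p) = D.W i := by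
  unfold W
  rw [D.zpow_mod]

theorem fix_pow {i : ℕ} {v : V} (hv : v ∈ D.W i) (m : ℕ) : ρ ((u * z ^ i) ^ m) v = v := by
  induction m with
  | zero => rw [pow_zero, rho_one]
  | succ m ih => rw [pow_succ, rho_mul, D.mem_W.mp hv, ih]

/-- conjugation of `u`. -/
theorem exists_conj [Finite G] (s : G) : ∃ c : ℕ, c < p ∧ s * u * s⁻¹ = u * z ^ c := by
  classical
  have h := D.hconj s
  rw [mem_zpowers_iff_mem_range_orderOf, D.orderOf_z] at h
  obtain ⟨c, hc, hcz⟩ := Finset.mem_image.mp h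
  refine ⟨c, Finset.mem_range.mp hc, ?_⟩
  have : z ^ c = u⁻¹ * (s * u * s⁻¹) := hcz
  rw [this, mul_inv_cancel_left]

/-- `ρ s` maps block `i` into block `i + c`. -/
theorem map_W {s : G} {c : ℕ} (hs : s * u * s⁻¹ = u * z ^ c) {i : ℕ} {v : V} (hv : v ∈ D.W i) :
    ρ s v ∈ D.W (i + c) := by
  rw [D.mem_W] at hv ⊢
  have h1 : u * z ^ (i + c) = s * (u * z ^ i) * s⁻¹ := by
    have : s * (u * z ^ i) * s⁻¹ = (s * u * s⁻¹) * z ^ i := by
      have hcomm : z ^ i * s⁻¹ = s⁻¹ * z ^ i := (D.zpow_comm s⁻¹ i).symm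
      rw [mul_assoc s (u * z ^ i), mul_assoc u, hcomm]
      simp only [mul_assoc]
    rw [this, hs, mul_assoc, ← pow_add, add_comm]
  rw [h1, ← rho_mul, inv_mul_cancel_right, rho_mul, hv]

/-- the averaging operator of block `i`. -/
def P (_D : Data ρ p z u) (i : ℕ) : V →ₗ[ZMod q] V :=
  ∑ m ∈ Finset.range p, ((ρ ((u * z ^ i) ^ m) : V ≃ₗ[ZMod q] V) : V →ₗ[ZMod q] V)

theorem P_apply (i : ℕ) (v : V) : D.P i v = ∑ m ∈ Finset.range p, ρ ((u * z ^ i) ^ m) v := by
  unfold P
  rw [LinearMap.sum_apply]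
  rfl

theorem P_mem (i : ℕ) (v : V) : D.P i v ∈ D.W i := by
  rw [D.mem_W, D.P_apply, map_sum]
  have h1 : ∀ m : ℕ, ρ (u * z ^ i) (ρ ((u * z ^ i) ^ m) v) = ρ ((u * z ^ i) ^ (m + 1)) v := by
    intro m
    rw [← rho_mul, ← pow_succ']
  simp only [h1]
  have h2 := Finset.sum_range_succ' (fun m => ρ ((u * z ^ i) ^ m) v) p
  have h3 := Finset.sum_range_succ (fun m => ρ ((u * z ^ i) ^ m) v) p
  simp only [D.uz_pow_p, pow_zero] at h2 h3
  rw [h3] at h2
  exact (add_right_cancel h2).symm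

/-- `∑_i P_i = p`. -/
theorem sum_P (v : V) : ∑ i ∈ Finset.range p, D.P i v = p • v := by
  simp only [D.P_apply]
  rw [Finset.sum_comm]
  have h0 : ∀ m ∈ Finset.range p, m ≠ 0 →
      ∑ i ∈ Finset.range p, ρ ((u * z ^ i) ^ m) v = 0 := by
    intro m hm hm0
    have hmp : ¬ p ∣ m := by
      intro hd
      have := Nat.le_of_dvd (Nat.pos_of_ne_zero hm0) hd
      have := Finset.mem_range.mp hm
      omega
    have h1 : ∀ i : ℕ, ρ ((u * z ^ i) ^ m) v = ρ (u ^ m) (ρ ((z ^ m) ^ i) v) := by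
      intro i
      rw [D.uz_pow, rho_mul, ← pow_mul, mul_comm]
    simp only [h1]
    rw [← map_sum, norm_zero D.inj D.irr (D.zpow_central m) (D.zpow_ne_one hmp) p
      (by rw [← pow_mul, mul_comm, pow_mul, D.hzp, one_pow]), map_zero]
  rw [Finset.sum_eq_single 0 h0]
  · simp only [pow_zero, rho_one]
    rw [Finset.sum_const, Finset.card_range]
  · intro h
    exfalso
    exact h (Finset.mem_range.mpr hp.out.pos)

/-- `P_i` is `p` on block `i`. -/
theorem P_self {i : ℕ} {v : V} (hv : v ∈ D.W i) : D.P i v = p • v := by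
  rw [D.P_apply]
  simp only [D.fix_pow hv]
  rw [Finset.sum_const, Finset.card_range]

/-- `P_i` kills block `j ≠ i`. -/
theorem P_other {i j : ℕ} (hi : i < p) (hj : j < p) (hij : i ≠ j) {v : V} (hv : v ∈ D.W j) :
    D.P i v = 0 := by
  rw [D.P_apply]
  have hc : ¬ p ∣ (i + (p - j)) := by
    rintro ⟨k, hk⟩
    have hk1 : k = 1 := by
      have h1 : 0 < k := by
        rcases Nat.eq_zero_or_pos k with h | h
        · rw [h] at hk; omega
        · exact h
      have h2 : k < 2 := by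
        by_contra h2
        have : p * 2 ≤ p * k := Nat.mul_le_mul_left p (by omega)
        omega
      omega
    rw [hk1, mul_one] at hk
    omega
  have h1 : ∀ m : ℕ, ρ ((u * z ^ i) ^ m) v = ρ ((z ^ (i + (p - j))) ^ m) v := by
    intro m
    have e : (u * z ^ i) ^ m = (z ^ (i + (p - j))) ^ m * (u * z ^ j) ^ m := by
      rw [D.uz_pow, D.uz_pow, ← pow_mul, ← mul_assoc, ← D.zpow_comm (u ^ m), mul_assoc, ← pow_add]
      congr 1
      have e2 : (i + (p - j)) * m + j * m = i * m + p * m := by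
        have : (i + (p - j)) + j = i + p := by omega
        rw [← add_mul, this, add_mul]
      rw [e2, pow_add, pow_mul z p, D.hzp, one_pow, mul_one]
    rw [e, rho_mul, D.fix_pow hv]
  simp only [h1]
  exact norm_zero D.inj D.irr (D.zpow_central _) (D.zpow_ne_one hc) p
    (by rw [← pow_mul, mul_comm, pow_mul, D.hzp, one_pow]) v


theorem conj_eq {s : G} {c : ℕ} (hs : s * u * s⁻¹ = u * z ^ c) (i : ℕ) :
    u * z ^ (i + c) = s * (u * z ^ i) * s⁻¹ := by
  have : s * (u * z ^ i) * s⁻¹ = (s * u * s⁻¹) * z ^ i := by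
    have hcomm : z ^ i * s⁻¹ = s⁻¹ * z ^ i := (D.zpow_comm s⁻¹ i).symm
    rw [mul_assoc s (u * z ^ i), mul_assoc u, hcomm]
    simp only [mul_assoc]
  rw [this, hs, mul_assoc, ← pow_add, add_comm]

theorem map_W_symm {s : G} {c : ℕ} (hs : s * u * s⁻¹ = u * z ^ c) {i : ℕ} {w : V}
    (hw : w ∈ D.W (i + c)) : ρ s⁻¹ w ∈ D.W i := by
  rw [D.mem_W] at hw ⊢
  have h1 := D.conj_eq hs i
  have h2 : u * z ^ i * s⁻¹ = s⁻¹ * (u * z ^ (i + c)) := by
    rw [h1]; group
  rw [← rho_mul, h2, rho_mul, hw]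

theorem map_W_eq {s : G} {c : ℕ} (hs : s * u * s⁻¹ = u * z ^ c) (i : ℕ) :
    (D.W i).map ((ρ s : V ≃ₗ[ZMod q] V) : V →ₗ[ZMod q] V) = D.W (i + c) := by
  apply le_antisymm
  · rintro _ ⟨v, hv, rfl⟩
    exact D.map_W hs hv
  · intro w hw
    refine ⟨ρ s⁻¹ w, D.map_W_symm hs hw, ?_⟩
    exact rho_apply_inv ρ s w

theorem p_ne_q [Finite V] [Nontrivial V] (hG : IsPGroup p G) : p ≠ q := by
  rintro rfl
  exact not_isPGroup_self D.inj D.irr hG D.hz1

theorem eq_zero_of_nsmul [Finite V] [Nontrivial V] (hG : IsPGroup p G) {v : V} (hv : p • v = 0) :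
    v = 0 := by
  rw [← Nat.cast_smul_eq_nsmul (ZMod q) p v] at hv
  rcases smul_eq_zero.mp hv with h | h
  · exfalso
    rw [ZMod.natCast_eq_zero_iff] at h
    exact D.p_ne_q hG ((Nat.prime_dvd_prime_iff_eq hq.out hp.out).mp h).symm
  · exact h

theorem iSup_W [Finite V] [Nontrivial V] (hG : IsPGroup p G) :
    (⨆ i : Fin p, D.W i) = ⊤ := by
  rw [eq_top_iff]
  intro v _
  have hsum : p • v ∈ (⨆ i : Fin p, D.W i) := by
    rw [← D.sum_P v]
    apply Submodule.sum_mem
    intro i hi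
    have hi' : i < p := Finset.mem_range.mp hi
    exact (le_iSup (fun j : Fin p => D.W j) ⟨i, hi'⟩) (D.P_mem i v)
  have hp0 : (p : ZMod q) ≠ 0 := by
    intro h
    rw [ZMod.natCast_eq_zero_iff] at h
    exact D.p_ne_q hG ((Nat.prime_dvd_prime_iff_eq hq.out hp.out).mp h).symm
  have : v = (p : ZMod q)⁻¹ • (p • v) := by
    rw [← Nat.cast_smul_eq_nsmul (ZMod q) p v, smul_smul, inv_mul_cancel₀ hp0, one_smul]
  rw [this]
  exact Submodule.smul_mem _ _ hsum

theorem indep_W [Finite V] [Nontrivial V] (hG : IsPGroup p G) :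
    iSupIndep (fun i : Fin p => D.W i) := by
  intro i
  rw [Submodule.disjoint_def]
  intro x hx hx'
  have hker : (⨆ (j : Fin p) (_ : j ≠ i), D.W j) ≤ LinearMap.ker (D.P i) := by
    apply iSup_le
    intro j
    apply iSup_le
    intro hj v hv
    rw [LinearMap.mem_ker]
    exact D.P_other i.2 j.2 (fun h => hj (Fin.ext h.symm)) hv
  have h1 : D.P i x = 0 := LinearMap.mem_ker.mp (hker hx')
  rw [D.P_self hx] at h1
  exact D.eq_zero_of_nsmul hG h1

theorem u_not_central [Finite V] [Nontrivial V] (hG : IsPGroup p G) : u ∉ center G := by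
  intro huc
  have hbot : ∀ i : Fin p, D.W i = ⊥ := by
    intro i
    exact fixed_central_eq_bot D.inj D.irr
      (Subgroup.mul_mem _ huc (D.zpow_central i)) (D.uz_ne_one i)
  have := D.iSup_W hG
  simp only [hbot, iSup_bot] at this
  exact bot_ne_top this

theorem index_centralizer [Finite G] [Finite V] [Nontrivial V] (hG : IsPGroup p G) :
    (centralizer ({u} : Set G)).index = p := by
  have hne : centralizer ({u} : Set G) ≠ ⊤ := by
    intro h
    apply D.u_not_central hG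
    rw [Subgroup.mem_center_iff]
    intro g
    have : g ∈ centralizer ({u} : Set G) := by rw [h]; exact Subgroup.mem_top g
    rw [mem_centralizer_singleton_iff] at this
    exact this
  obtain ⟨n, hn⟩ := hG.index (centralizer ({u} : Set G))
  have hn0 : n ≠ 0 := by
    rintro rfl
    rw [pow_zero, Subgroup.index_eq_one] at hn
    exact hne hn
  -- the index is at most p
  have hle : (centralizer ({u} : Set G)).index ≤ p := by
    rw [Subgroup.index_eq_card]
    have hwd : ∀ a b : G, (QuotientGroup.leftRel (centralizer ({u} : Set G))) a b →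
        (⟨u⁻¹ * (a * u * a⁻¹), D.hconj a⟩ : zpowers z) = ⟨u⁻¹ * (b * u * b⁻¹), D.hconj b⟩ := by
      intro a b hab
      rw [QuotientGroup.leftRel_apply, mem_centralizer_singleton_iff] at hab
      apply Subtype.ext
      show u⁻¹ * (a * u * a⁻¹) = u⁻¹ * (b * u * b⁻¹)
      congr 1
      have h1 : b * u * b⁻¹ = a * ((a⁻¹ * b) * u) * (b⁻¹) := by group
      rw [h1, hab]
      group
    let F : G ⧸ centralizer ({u} : Set G) → zpowers z :=
      Quotient.lift (s := QuotientGroup.leftRel (centralizer ({u} : Set G)))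
        (fun a => (⟨u⁻¹ * (a * u * a⁻¹), D.hconj a⟩ : zpowers z)) hwd
    have hF : Function.Injective F := by
      intro x y
      induction x using QuotientGroup.induction_on with
      | H a =>
      induction y using QuotientGroup.induction_on with
      | H b =>
      intro hxy
      have h1 : u⁻¹ * (a * u * a⁻¹) = u⁻¹ * (b * u * b⁻¹) := congrArg Subtype.val hxy
      have h2 : a * u * a⁻¹ = b * u * b⁻¹ := mul_left_cancel h1
      apply QuotientGroup.eq.mpr
      rw [mem_centralizer_singleton_iff]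
      have e1 : a⁻¹ * b * u = a⁻¹ * (b * u * b⁻¹) * b := by group
      have e2 : u * (a⁻¹ * b) = a⁻¹ * (a * u * a⁻¹) * b := by group
      rw [e1, e2, h2]
    have := Nat.card_le_card_of_injective F hF
    rw [Nat.card_zpowers, D.orderOf_z] at this
    exact this
  rw [hn] at hle ⊢
  have hn1 : n = 1 := by
    by_contra hn1
    have h2 : 2 ≤ n := by omega
    have : p ^ 2 ≤ p ^ n := Nat.pow_le_pow_right hp.out.pos h2
    have hp2 : p < p ^ 2 := by
      have := hp.out.one_lt
      nlinarith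
    omega
  rw [hn1, pow_one]

end Data

end

end Cfsg.Agent.Lib.Helper31.Imprimitive
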