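import Mathlib

/-!
# Keystone K65-A: an abelian Hall subgroup from local data

Pure Mathlib.  `exists_abelian_hall_of_local` has exactly the signature of
`K65Spec.exists_abelian_hall_of_local` in `notes/S4465Spec.lean.txt`.
-/

set_option autoImplicit false
set_option linter.unusedSectionVars false

namespace Cfsg.Agent.Lib.Helper31.K65A

open Subgroup

universe u

/-- large-prime subgroups are abelian -/
def Hab (n : ℕ) (G : Type u) [Group G] : Prop :=
  ∀ r : ℕ, r.Prime → n + 1 < r → ∀ P : Subgroup G, IsPGroup r P →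
    ∀ x ∈ P, ∀ y ∈ P, x * y = y * x

/-- the local commuting hypothesis -/
def Hpq (n : ℕ) (G : Type u) [Group G] : Prop :=
  ∀ (K : Subgroup G) (p q : ℕ), p.Prime → q.Prime → p ≠ q → n + 1 < p → n + 1 < q →
    (∀ x ∈ K, ∀ y ∈ K, (∃ k, x ^ p ^ k = 1) → (∃ k, y ^ q ^ k = 1) → x * y = y * x →
      (∀ c ∈ K, x * c = c * x) ∨ (∀ c ∈ K, y * c = c * y)) →
    ∀ x ∈ K, ∀ y ∈ K, (∃ k, x ^ p ^ k = 1) → (∃ k, y ^ q ^ k = 1) → x * y = y * x

/-- the conclusion -/
def Good (n : ℕ) {G : Type u} [Group G] (A : Subgroup G) : Prop :=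
  (∀ x ∈ A, ∀ y ∈ A, x * y = y * x) ∧
    (∀ q : ℕ, q.Prime → q ∣ Nat.card A → n + 1 < q) ∧
    ∀ q : ℕ, q.Prime → q ∣ A.index → q ≤ n + 1

variable {n : ℕ} {G : Type u} [Group G]

theorem hab_subgroup (h : Hab n G) (C : Subgroup G) : Hab n ↥C := by
  intro r hr hrl P hP x hx y hy
  have h1 := h r hr hrl (P.map C.subtype) (hP.map _) (x : G) (Subgroup.mem_map_of_mem _ hx)
    (y : G) (Subgroup.mem_map_of_mem _ hy)
  exact Subtype.ext h1

theorem hpq_subgroup (h : Hpq n G) (C : Subgroup G) : Hpq n ↥C := by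
  intro K p q hp hq hpq hpl hql hK x hx y hy hxp hyq
  have h1 := h (K.map C.subtype) p q hp hq hpq hpl hql ?_ (x : G) (Subgroup.mem_map_of_mem _ hx)
    (y : G) (Subgroup.mem_map_of_mem _ hy) ?_ ?_
  · exact Subtype.ext h1
  · rintro _ ⟨x', hx', rfl⟩ _ ⟨y', hy', rfl⟩ hxk hyk hxy
    have hxk' : ∃ k, x' ^ p ^ k = 1 := by
      obtain ⟨k, hk⟩ := hxk
      exact ⟨k, Subtype.ext (by simpa using hk)⟩
    have hyk' : ∃ k, y' ^ q ^ k = 1 := by
      obtain ⟨k, hk⟩ := hyk
      exact ⟨k, Subtype.ext (by simpa using hk)⟩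
    have hxy' : x' * y' = y' * x' := Subtype.ext (by simpa using hxy)
    rcases hK x' hx' y' hy' hxk' hyk' hxy' with h2 | h2
    · left
      rintro _ ⟨c, hc, rfl⟩
      have := congrArg Subtype.val (h2 c hc)
      simpa using this
    · right
      rintro _ ⟨c, hc, rfl⟩
      have := congrArg Subtype.val (h2 c hc)
      simpa using this
  · obtain ⟨k, hk⟩ := hxp
    exact ⟨k, by have := congrArg Subtype.val hk; simpa using this⟩
  · obtain ⟨k, hk⟩ := hyq
    exact ⟨k, by have := congrArg Subtype.val hk; simpa using this⟩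

theorem map_comm (C : Subgroup G) (A' : Subgroup ↥C)
    (h : ∀ x ∈ A', ∀ y ∈ A', x * y = y * x) :
    ∀ x ∈ A'.map C.subtype, ∀ y ∈ A'.map C.subtype, x * y = y * x := by
  rintro _ ⟨x, hx, rfl⟩ _ ⟨y, hy, rfl⟩
  have := congrArg Subtype.val (h x hx y hy)
  simpa using this

theorem good_map (C : Subgroup G) (hC : ∀ q : ℕ, q.Prime → q ∣ C.index → q ≤ n + 1)
    (A' : Subgroup ↥C) (h : Good n A') : Good n (A'.map C.subtype) := by
  obtain ⟨h1, h2, h3⟩ := h
  refine ⟨?_, ?_, ?_⟩
  · rintro _ ⟨x, hx, rfl⟩ _ ⟨y, hy, rfl⟩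
    have := congrArg Subtype.val (h1 x hx y hy)
    simpa using this
  · intro q hq hdvd
    apply h2 q hq
    rwa [Nat.card_congr (A'.equivMapOfInjective C.subtype C.subtype_injective).toEquiv]
  · intro q hq hdvd
    rw [Subgroup.index_map_subtype] at hdvd
    rcases (Nat.Prime.dvd_mul hq).1 hdvd with h4 | h4
    · exact h3 q hq h4
    · exact hC q hq h4

theorem isPGroup_zpowers {p : ℕ} (hp : p.Prime) {x : G} (hx : ∃ k, x ^ p ^ k = 1) :
    IsPGroup p (Subgroup.zpowers x) := by
  obtain ⟨k, hk⟩ := hx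
  obtain ⟨j, -, hj⟩ := (Nat.dvd_prime_pow hp).1 (orderOf_dvd_of_pow_eq_one hk)
  exact IsPGroup.of_card (n := j) (by rw [Nat.card_zpowers, hj])

theorem mem_smul_sylow_iff {p : ℕ} [Fact p.Prime] (x g : G) (R : Sylow p G) :
    g ∈ ((x • R : Sylow p G) : Subgroup G) ↔ x⁻¹ * g * x ∈ (R : Subgroup G) := by
  rw [Sylow.coe_subgroup_smul, Subgroup.mem_pointwise_smul_iff_inv_smul_mem]
  simp [MulAut.smul_def]

variable [Finite G]

/-- a subgroup of index prime to `p` contains a Sylow `p`-subgroup -/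
theorem exists_sylow_le {p : ℕ} [Fact p.Prime] (A : Subgroup G) (hA : ¬ p ∣ A.index) :
    ∃ P : Sylow p G, (P : Subgroup G) ≤ A := by
  obtain ⟨S⟩ : Nonempty (Sylow p ↥A) := inferInstance
  have hT : IsPGroup p ((S : Subgroup ↥A).map A.subtype) := S.isPGroup'.map _
  have hidx : ¬ p ∣ ((S : Subgroup ↥A).map A.subtype).index := by
    rw [Subgroup.index_map_subtype]
    intro hdvd
    rcases (Nat.Prime.dvd_mul (Fact.out : p.Prime)).1 hdvd with h | h
    · exact S.not_dvd_index h
    · exact hA h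
  refine ⟨hT.toSylow hidx, ?_⟩
  rw [IsPGroup.toSylow_coe]
  exact Subgroup.map_subtype_le _

/-- a `q`-element is conjugate into any subgroup of index prime to `q` -/
theorem exists_conj_mem {q : ℕ} [Fact q.Prime] (A : Subgroup G) (hA : ¬ q ∣ A.index) (y : G)
    (hy : ∃ k, y ^ q ^ k = 1) : ∃ c : G, c * y * c⁻¹ ∈ A := by
  obtain ⟨T, hT⟩ := exists_sylow_le A hA
  obtain ⟨Q, hQ⟩ := (isPGroup_zpowers (Fact.out : q.Prime) hy).exists_le_sylow
  obtain ⟨c, hc⟩ := MulAction.exists_smul_eq G Q T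
  refine ⟨c, hT ?_⟩
  rw [← hc, mem_smul_sylow_iff]
  have : c⁻¹ * (c * y * c⁻¹) * c = y := by group
  rw [this]
  exact hQ (Subgroup.mem_zpowers y)

theorem not_dvd_index_of_sylow_le {q : ℕ} [Fact q.Prime] (Q : Sylow q G) (C : Subgroup G)
    (h : (Q : Subgroup G) ≤ C) : ¬ q ∣ C.index :=
  fun hdvd => Q.not_dvd_index (dvd_trans hdvd (Subgroup.index_dvd_of_le h))

theorem card_lt_of_ne_top (C : Subgroup G) (hC : C ≠ ⊤) : Nat.card ↥C < Nat.card G :=
  lt_of_le_of_ne (Subgroup.card_le_card_group C)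
    (fun h => hC ((Subgroup.card_eq_iff_eq_top C).1 h))

theorem centralizer_singleton_ne_top {x : G} (hx : x ∉ Subgroup.center G) :
    Subgroup.centralizer ({x} : Set G) ≠ ⊤ := by
  intro htop
  apply hx
  rw [Subgroup.mem_center_iff]
  intro g
  have : g ∈ Subgroup.centralizer ({x} : Set G) := by rw [htop]; trivial
  rw [Subgroup.mem_centralizer_singleton_iff] at this
  exact this

/-- the central case -/
theorem exists_good_of_central
    (hcent : ∀ r : ℕ, r.Prime → n + 1 < r → ∀ [Fact r.Prime] (S : Sylow r G),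
      (S : Subgroup G) ≤ Subgroup.center G) : ∃ A : Subgroup G, Good n A := by
  let B : Subgroup G :=
    { carrier := {g | g ∈ Subgroup.center G ∧ ∀ q : ℕ, q.Prime → q ∣ orderOf g → n + 1 < q}
      mul_mem' := by
        rintro a b ⟨ha, ha'⟩ ⟨hb, hb'⟩
        refine ⟨mul_mem ha hb, ?_⟩
        intro q hq hdvd
        have hcomm : Commute a b := (Subgroup.mem_center_iff.1 ha b).symm
        have h1 : q ∣ Nat.lcm (orderOf a) (orderOf b) := dvd_trans hdvd hcomm.orderOf_mul_dvd_lcm
        have h2 : q ∣ orderOf a * orderOf b := dvd_trans h1 (Nat.lcm_dvd_mul _ _)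
        rcases (Nat.Prime.dvd_mul hq).1 h2 with h3 | h3
        · exact ha' q hq h3
        · exact hb' q hq h3
      one_mem' := by
        refine ⟨one_mem _, ?_⟩
        intro q hq hdvd
        rw [orderOf_one] at hdvd
        exact absurd (Nat.dvd_one.1 hdvd) hq.ne_one
      inv_mem' := by
        rintro a ⟨ha, ha'⟩
        refine ⟨inv_mem ha, ?_⟩
        intro q hq hdvd
        rw [orderOf_inv] at hdvd
        exact ha' q hq hdvd }
  have hBmem : ∀ g, g ∈ B ↔ g ∈ Subgroup.center G ∧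
      ∀ q : ℕ, q.Prime → q ∣ orderOf g → n + 1 < q := fun g => Iff.rfl
  refine ⟨B, ?_, ?_, ?_⟩
  · intro x hx y _
    exact (Subgroup.mem_center_iff.1 ((hBmem x).1 hx).1 y).symm
  · intro q hq hdvd
    have := Fact.mk hq
    obtain ⟨b, hb⟩ := exists_prime_orderOf_dvd_card' (G := ↥B) q hdvd
    have h1 : orderOf (b : G) = q := by rw [Subgroup.orderOf_coe, hb]
    exact ((hBmem b).1 b.2).2 q hq (by rw [h1])
  · intro q hq hdvd
    by_contra hql
    push Not at hql
    have := Fact.mk hq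
    obtain ⟨S⟩ : Nonempty (Sylow q G) := inferInstance
    have hSB : (S : Subgroup G) ≤ B := by
      intro g hg
      refine (hBmem g).2 ⟨hcent q hq hql S hg, ?_⟩
      intro q' hq' hdvd'
      obtain ⟨k, hk⟩ := S.isPGroup' ⟨g, hg⟩
      have hk' : g ^ q ^ k = 1 := by
        have := congrArg Subtype.val hk
        simpa using this
      have h1 : q' ∣ q ^ k := dvd_trans hdvd' (orderOf_dvd_of_pow_eq_one hk')
      have h2 : q' = q := (Nat.prime_dvd_prime_iff_eq hq' hq).1 (hq'.dvd_of_dvd_pow h1)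
      rw [h2]; exact hql
    exact not_dvd_index_of_sylow_le S B hSB hdvd

/-- the main induction -/
theorem main (n : ℕ) : ∀ (m : ℕ) (G : Type u) [Group G] [Finite G], Nat.card G = m →
    Hab n G → Hpq n G → ∃ A : Subgroup G, Good n A := by
  intro m
  induction m using Nat.strong_induction_on with
  | _ m ih =>
  intro G _ _ hm hab hpq
  by_cases hcent : ∀ r : ℕ, r.Prime → n + 1 < r → ∀ [Fact r.Prime] (S : Sylow r G),
      (S : Subgroup G) ≤ Subgroup.center G
  · exact exists_good_of_central hcent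
  · push Not at hcent
    obtain ⟨p, hp, hpl, hpf, P, hPnc⟩ := hcent
    -- the centralizer of `P`
    have hPab : ∀ x ∈ (P : Subgroup G), ∀ y ∈ (P : Subgroup G), x * y = y * x :=
      hab p hp hpl (P : Subgroup G) P.isPGroup'
    have hPC : (P : Subgroup G) ≤ Subgroup.centralizer ((P : Subgroup G) : Set G) := by
      intro x hx
      rw [Subgroup.mem_centralizer_iff]
      intro y hy
      exact hPab y hy x hx
    have hCtop : Subgroup.centralizer ((P : Subgroup G) : Set G) ≠ ⊤ := by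
      intro htop
      apply hPnc
      intro x hx
      rw [Subgroup.mem_center_iff]
      intro g
      have hg : g ∈ Subgroup.centralizer ((P : Subgroup G) : Set G) := by rw [htop]; trivial
      rw [Subgroup.mem_centralizer_iff] at hg
      exact (hg x hx).symm
    have hClt : Nat.card ↥(Subgroup.centralizer ((P : Subgroup G) : Set G)) < m := by
      rw [← hm]; exact card_lt_of_ne_top _ hCtop
    -- the claim
    have hclaim : ∀ r : ℕ, r.Prime →
        r ∣ (Subgroup.centralizer ((P : Subgroup G) : Set G)).index → r ≤ n + 1 := by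
      intro r hr hrdvd
      by_contra hrl
      push Not at hrl
      have hrf := Fact.mk hr
      suffices hsuff : ∃ R : Sylow r G,
          (R : Subgroup G) ≤ Subgroup.centralizer ((P : Subgroup G) : Set G) by
        obtain ⟨R, hR⟩ := hsuff
        exact not_dvd_index_of_sylow_le R _ hR hrdvd
      by_cases hrp : r = p
      · subst hrp
        exact ⟨P, hPC⟩
      obtain ⟨R⟩ : Nonempty (Sylow r G) := inferInstance
      by_cases hRc : (R : Subgroup G) ≤ Subgroup.center G
      · exact ⟨R, hRc.trans (Subgroup.center_le_centralizer _)⟩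
      -- noncentral elements
      obtain ⟨x₀, hx₀P, hx₀c⟩ := SetLike.not_le_iff_exists.1 hPnc
      obtain ⟨y₀, hy₀R, hy₀c⟩ := SetLike.not_le_iff_exists.1 hRc
      have hx₀p : ∃ k, x₀ ^ p ^ k = 1 := by
        obtain ⟨k, hk⟩ := P.isPGroup' ⟨x₀, hx₀P⟩
        exact ⟨k, by have := congrArg Subtype.val hk; simpa using this⟩
      have hy₀r : ∃ k, y₀ ^ r ^ k = 1 := by
        obtain ⟨k, hk⟩ := R.isPGroup' ⟨y₀, hy₀R⟩
        exact ⟨k, by have := congrArg Subtype.val hk; simpa using this⟩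
      have key : ∃ x y : G, (∃ k, x ^ p ^ k = 1) ∧ (∃ k, y ^ r ^ k = 1) ∧ x * y = y * x ∧
          x ∉ Subgroup.center G ∧ y ∉ Subgroup.center G := by
        by_contra hno
        push Not at hno
        have h1 := hpq ⊤ p r hp hr (Ne.symm hrp) hpl hrl (fun x _ y _ hx hy hxy => ?_)
          x₀ (Subgroup.mem_top _) y₀ (Subgroup.mem_top _) hx₀p hy₀r
        · exact hy₀c (hno x₀ y₀ hx₀p hy₀r h1 hx₀c)
        · by_cases hxc : x ∈ Subgroup.center G
          · left
            intro c _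
            exact (Subgroup.mem_center_iff.1 hxc c).symm
          · right
            intro c _
            exact (Subgroup.mem_center_iff.1 (hno x y hx hy hxy hxc) c).symm
      obtain ⟨x, y, hx, hy, hxy, hxc, hyc⟩ := key
      -- the centralizer of `x`
      have hC₁top := centralizer_singleton_ne_top hxc
      have hC₁lt : Nat.card ↥(Subgroup.centralizer ({x} : Set G)) < m := by
        rw [← hm]; exact card_lt_of_ne_top _ hC₁top
      obtain ⟨P₁, hP₁⟩ := (isPGroup_zpowers hp hx).exists_le_sylow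
      have hxP₁ : x ∈ (P₁ : Subgroup G) := hP₁ (Subgroup.mem_zpowers x)
      have hP₁C : (P₁ : Subgroup G) ≤ Subgroup.centralizer ({x} : Set G) := by
        intro g hg
        rw [Subgroup.mem_centralizer_singleton_iff]
        exact hab p hp hpl (P₁ : Subgroup G) P₁.isPGroup' g hg x hxP₁
      have hpC₁ := not_dvd_index_of_sylow_le P₁ _ hP₁C
      obtain ⟨A₁', hA₁ab, -, hA₁idx⟩ := ih _ hC₁lt ↥(Subgroup.centralizer ({x} : Set G)) rfl
        (hab_subgroup hab _) (hpq_subgroup hpq _)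
      -- a Sylow `p`-subgroup of `G` inside `A₁`
      have hpA₁ : ¬ p ∣ (A₁'.map (Subgroup.centralizer ({x} : Set G)).subtype).index := by
        rw [Subgroup.index_map_subtype]
        intro hdvd
        rcases (Nat.Prime.dvd_mul hp).1 hdvd with h | h
        · have := hA₁idx p hp h
          omega
        · exact hpC₁ h
      obtain ⟨P₂, hP₂⟩ := exists_sylow_le _ hpA₁
      -- a conjugate of `y` inside `A₁`
      have hyC₁ : y ∈ Subgroup.centralizer ({x} : Set G) := by
        rw [Subgroup.mem_centralizer_singleton_iff]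
        exact hxy.symm
      have hrA₁ : ¬ r ∣ A₁'.index := by
        intro hdvd
        have := hA₁idx r hr hdvd
        omega
      obtain ⟨c, hc⟩ := exists_conj_mem A₁' hrA₁ ⟨y, hyC₁⟩ (by
        obtain ⟨k, hk⟩ := hy
        exact ⟨k, Subtype.ext (by simpa using hk)⟩)
      have hy₁A : (c : G) * y * (c : G)⁻¹ ∈
          A₁'.map (Subgroup.centralizer ({x} : Set G)).subtype :=
        ⟨_, hc, by simp⟩
      have hy₁c : (c : G) * y * (c : G)⁻¹ ∉ Subgroup.center G := by
        intro hcen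
        apply hyc
        have hz := Subgroup.mem_center_iff.1 hcen (c : G)
        have h1 : (c : G) * ((c : G) * y * (c : G)⁻¹) = (c : G) * y := by
          rw [hz]; group
        rw [← mul_left_cancel h1]
        exact hcen
      have hy₁r : ∃ k, ((c : G) * y * (c : G)⁻¹) ^ r ^ k = 1 := by
        obtain ⟨k, hk⟩ := hy
        exact ⟨k, by rw [conj_pow, hk]; group⟩
      generalize hy₁def : (c : G) * y * (c : G)⁻¹ = y₁ at hy₁A hy₁c hy₁r
      have hA₁comm := map_comm _ A₁' hA₁ab
      -- the centralizer of `y₁`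
      have hC₂top := centralizer_singleton_ne_top hy₁c
      have hC₂lt : Nat.card ↥(Subgroup.centralizer ({y₁} : Set G)) < m := by
        rw [← hm]; exact card_lt_of_ne_top _ hC₂top
      have hP₂C : (P₂ : Subgroup G) ≤ Subgroup.centralizer ({y₁} : Set G) := by
        intro g hg
        rw [Subgroup.mem_centralizer_singleton_iff]
        exact hA₁comm g (hP₂ hg) y₁ hy₁A
      obtain ⟨Q₁, hQ₁⟩ := (isPGroup_zpowers hr hy₁r).exists_le_sylow
      have hyQ₁ : y₁ ∈ (Q₁ : Subgroup G) := hQ₁ (Subgroup.mem_zpowers y₁)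
      have hQ₁C : (Q₁ : Subgroup G) ≤ Subgroup.centralizer ({y₁} : Set G) := by
        intro g hg
        rw [Subgroup.mem_centralizer_singleton_iff]
        exact hab r hr hrl (Q₁ : Subgroup G) Q₁.isPGroup' g hg y₁ hyQ₁
      have hpC₂ := not_dvd_index_of_sylow_le P₂ _ hP₂C
      have hrC₂ := not_dvd_index_of_sylow_le Q₁ _ hQ₁C
      obtain ⟨A₂', hA₂ab, -, hA₂idx⟩ := ih _ hC₂lt ↥(Subgroup.centralizer ({y₁} : Set G)) rfl
        (hab_subgroup hab _) (hpq_subgroup hpq _)
      have hA₂comm := map_comm _ A₂' hA₂ab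
      have hpA₂ : ¬ p ∣ (A₂'.map (Subgroup.centralizer ({y₁} : Set G)).subtype).index := by
        rw [Subgroup.index_map_subtype]
        intro hdvd
        rcases (Nat.Prime.dvd_mul hp).1 hdvd with h | h
        · have := hA₂idx p hp h
          omega
        · exact hpC₂ h
      have hrA₂ : ¬ r ∣ (A₂'.map (Subgroup.centralizer ({y₁} : Set G)).subtype).index := by
        rw [Subgroup.index_map_subtype]
        intro hdvd
        rcases (Nat.Prime.dvd_mul hr).1 hdvd with h | h
        · have := hA₂idx r hr h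
          omega
        · exact hrC₂ h
      obtain ⟨P₃, hP₃⟩ := exists_sylow_le _ hpA₂
      obtain ⟨Q₃, hQ₃⟩ := exists_sylow_le _ hrA₂
      obtain ⟨g, hg⟩ := MulAction.exists_smul_eq G P P₃
      refine ⟨g⁻¹ • Q₃, ?_⟩
      intro z hz
      rw [mem_smul_sylow_iff, inv_inv] at hz
      rw [Subgroup.mem_centralizer_iff]
      intro a ha
      have ha' : g * a * g⁻¹ ∈ (P₃ : Subgroup G) := by
        rw [← hg, mem_smul_sylow_iff]
        have : g⁻¹ * (g * a * g⁻¹) * g = a := by group
        rw [this]; exact ha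
      have h1 := hA₂comm _ (hP₃ ha') _ (hQ₃ hz)
      have h2 : g * (a * z) * g⁻¹ = g * (z * a) * g⁻¹ := by
        calc g * (a * z) * g⁻¹ = (g * a * g⁻¹) * (g * z * g⁻¹) := by group
          _ = (g * z * g⁻¹) * (g * a * g⁻¹) := h1
          _ = g * (z * a) * g⁻¹ := by group
      exact mul_left_cancel (mul_right_cancel h2)
    obtain ⟨A', hA'⟩ := ih _ hClt ↥(Subgroup.centralizer ((P : Subgroup G) : Set G)) rfl
      (hab_subgroup hab _) (hpq_subgroup hpq _)
    exact ⟨_, good_map _ hclaim A' hA'⟩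

/-- **K65-A**: an abelian Hall subgroup for the primes `> n + 1` from local data. -/
theorem exists_abelian_hall_of_local {G : Type*} [Group G] [Finite G] (n : ℕ)
    (hab : ∀ r : ℕ, r.Prime → n + 1 < r → ∀ P : Subgroup G, IsPGroup r P →
      ∀ x ∈ P, ∀ y ∈ P, x * y = y * x)
    (hpq : ∀ (K : Subgroup G) (p q : ℕ), p.Prime → q.Prime → p ≠ q → n + 1 < p → n + 1 < q →
      (∀ x ∈ K, ∀ y ∈ K, (∃ k, x ^ p ^ k = 1) → (∃ k, y ^ q ^ k = 1) → x * y = y * x →
        (∀ c ∈ K, x * c = c * x) ∨ (∀ c ∈ K, y * c = c * y)) →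
      ∀ x ∈ K, ∀ y ∈ K, (∃ k, x ^ p ^ k = 1) → (∃ k, y ^ q ^ k = 1) → x * y = y * x) :
    ∃ A : Subgroup G, (∀ x ∈ A, ∀ y ∈ A, x * y = y * x) ∧
      (∀ q : ℕ, q.Prime → q ∣ Nat.card A → n + 1 < q) ∧
      ∀ q : ℕ, q.Prime → q ∣ A.index → q ≤ n + 1 :=
  main n (Nat.card G) G rfl hab hpq

end Cfsg.Agent.Lib.Helper31.K65A
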