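import Mathlib

set_option autoImplicit false

/-! Abstract "mixed kill" for S3996: two odd primes in different classes together with an order
`u > 2` coprime to both in the class of the first prime are contradictory. -/

namespace Cfsg.Agent.Lib.Helper31.Nse3

lemma zmod_two_ne_zero {p : ℕ} (hp : p.Prime) (hp2 : p ≠ 2) : (2 : ZMod p) ≠ 0 := by
  intro h
  have h' : ((2 : ℕ) : ZMod p) = 0 := by exact_mod_cast h
  rw [ZMod.natCast_eq_zero_iff] at h'
  exact hp2 ((Nat.prime_dvd_prime_iff_eq hp Nat.prime_two).1 h')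

/-- Abstract mixed kill. `S k` plays the role of the number of elements of order `k`. -/
theorem mixed_kill_abs (N : ℕ) (S : ℕ → ℕ) (μ ν : ℕ)
    (one : S 1 = 1)
    (pair : ∀ p : ℕ, p.Prime → ∀ k : ℕ, ¬ p ∣ k → p * k ∣ N → p ∣ S k + S (p * k))
    (vals : ∀ k : ℕ, 2 < k → S k = 0 ∨ S k = μ ∨ S k = ν)
    (p t u : ℕ) (hp : p.Prime) (ht : t.Prime) (hp2 : p ≠ 2) (ht2 : t ≠ 2) (hpt : p ≠ t)
    (hu : 1 ≤ u) (hup : ¬ p ∣ u) (hut : ¬ t ∣ u)
    (hSp : S p = μ) (hSt : S t = ν) (hSu : S u = μ)
    (hN : u * p * t ∣ N) : False := by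
  haveI := Fact.mk hp
  haveI := Fact.mk ht
  have hp3 : 2 < p := lt_of_le_of_ne hp.two_le (Ne.symm hp2)
  have ht3 : 2 < t := lt_of_le_of_ne ht.two_le (Ne.symm ht2)
  have hpt' : ¬ p ∣ t := fun h => hpt ((Nat.prime_dvd_prime_iff_eq hp ht).1 h)
  have htp' : ¬ t ∣ p := fun h => hpt ((Nat.prime_dvd_prime_iff_eq ht hp).1 h).symm
  have h2p : (2 : ZMod p) ≠ 0 := zmod_two_ne_zero hp hp2
  have h2t : (2 : ZMod t) ≠ 0 := zmod_two_ne_zero ht ht2
  have h1p : (1 : ZMod p) ≠ 0 := one_ne_zero
  have h1t : (1 : ZMod t) ≠ 0 := one_ne_zero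
  -- helper to turn divisibility into a ZMod equation
  have cast := fun (q a : ℕ) (h : q ∣ a) => (ZMod.natCast_eq_zero_iff a q).2 h
  -- PAIR(p) at 1 : μ = -1 mod p
  have e1 : (μ : ZMod p) = -1 := by
    have h := pair p hp 1 (by simpa using hp.one_lt.ne') (by
      rw [mul_one]; exact dvd_trans (Dvd.intro_left u rfl |>.mul_right t) hN)
    rw [mul_one, one, hSp] at h
    have := cast p _ h
    push_cast at this
    linear_combination this
  -- PAIR(t) at 1 : ν = -1 mod t
  have e2 : (ν : ZMod t) = -1 := by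
    have h := pair t ht 1 (by simpa using ht.one_lt.ne') (by
      rw [mul_one]; exact dvd_trans (dvd_mul_left t (u * p)) hN)
    rw [mul_one, one, hSt] at h
    have := cast t _ h
    push_cast at this
    linear_combination this
  -- PAIR(p) at u : S (p*u) = ν and ν = 1 mod p
  have hpu : p * u ∣ N := by
    refine dvd_trans ?_ hN
    rw [mul_comm p u]; exact dvd_mul_right _ _
  have h3 := pair p hp u hup hpu
  rw [hSu] at h3
  have h3' := cast p _ h3
  push_cast at h3'
  have hSpu : S (p * u) = ν ∧ (ν : ZMod p) = 1 := by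
    rcases vals (p * u) (by nlinarith) with h | h | h
    · rw [h] at h3'; exfalso; apply h1p; push_cast at h3'; linear_combination -h3' + e1
    · rw [h] at h3'; exfalso; apply h2p; linear_combination -h3' + 2 * e1
    · refine ⟨h, ?_⟩; rw [h] at h3'; linear_combination h3' - e1
  obtain ⟨hSpu, e3⟩ := hSpu
  -- PAIR(p) at t : S (p*t) = μ
  have hpt_dvd : p * t ∣ N := by
    refine dvd_trans ?_ hN
    rw [mul_assoc]; exact dvd_mul_left _ _
  have h4 := pair p hp t hpt' hpt_dvd
  rw [hSt] at h4
  have h4' := cast p _ h4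
  push_cast at h4'
  have hSpt : S (p * t) = μ := by
    rcases vals (p * t) (by nlinarith) with h | h | h
    · rw [h] at h4'; exfalso; apply h1p; push_cast at h4'; linear_combination h4' - e3
    · exact h
    · rw [h] at h4'; exfalso; apply h2p; linear_combination h4' - 2 * e3
  -- PAIR(t) at p : t ∣ μ
  have htp_dvd : t * p ∣ N := by rw [mul_comm]; exact hpt_dvd
  have h5 := pair t ht p htp' htp_dvd
  rw [hSp, mul_comm t p, hSpt] at h5
  have h5' := cast t _ h5
  push_cast at h5'
  have e4 : (μ : ZMod t) = 0 := by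
    have : (2 : ZMod t) * μ = 0 := by linear_combination h5'
    rcases mul_eq_zero.1 this with h | h
    · exact absurd h h2t
    · exact h
  -- PAIR(t) at p*u : contradiction
  have hput : ¬ t ∣ p * u := by
    intro h
    rcases (Nat.Prime.dvd_mul ht).1 h with h | h
    · exact htp' h
    · exact hut h
  have h6 := pair t ht (p * u) hput (by
    refine dvd_trans ?_ hN
    have : t * (p * u) = u * p * t := by ring
    rw [this])
  rw [hSpu] at h6
  have h6' := cast t _ h6
  push_cast at h6'
  have hbig : 2 < t * (p * u) := by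
    have hp3' : 3 ≤ p := hp3
    have ht3' : 3 ≤ t := ht3
    have h9 : 3 * 1 ≤ p * u := Nat.mul_le_mul hp3' hu
    have h27 : 3 * (3 * 1) ≤ t * (p * u) := Nat.mul_le_mul ht3' h9
    omega
  rcases vals (t * (p * u)) hbig with h | h | h
  · rw [h] at h6'; apply h1t; push_cast at h6'; linear_combination e2 - h6'
  · rw [h] at h6'; apply h1t; linear_combination e2 - h6' + e4
  · rw [h] at h6'; apply h2t; linear_combination -h6' + 2 * e2

end Cfsg.Agent.Lib.Helper31.Nse3
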