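import Mathlib
import Cfsg.Agent.Lib.Helper56.NSE3Defs
import Cfsg.Agent.Lib.Helper31.MixedAbs

set_option autoImplicit false

namespace Cfsg.Agent.Lib.Helper31.NSE3

open Cfsg.Agent.S3995 (s)
open Cfsg.Agent.Lib.Helper56.NSE3 (Hyp)

variable {G : Type*} [Group G] [Finite G]

/-- L02 MIXED KILL. Uses only `pair`, `s_one`, `two_le_s`. -/
theorem mixed_kill
    (hpair : ∀ {p k : ℕ}, p.Prime → ¬ p ∣ k → p * k ∣ Nat.card G → p ∣ s G k + s G (p * k))
    {μ ν : ℕ} (H : Hyp G μ ν) {p t u : ℕ} (hp : p.Prime) (ht : t.Prime)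
    (hp2 : p ≠ 2) (ht2 : t ≠ 2) (hpt : p ≠ t) (hu : 2 ≤ u) (hup : ¬ p ∣ u) (hut : ¬ t ∣ u)
    (hsu0 : s G u ≠ 0) (hsu1 : s G u ≠ 1)
    (hpG : p ∣ Nat.card G) (htG : t ∣ Nat.card G) (hdiff : s G p ≠ s G t) : False := by
  have hp3 : 2 < p := lt_of_le_of_ne hp.two_le (Ne.symm hp2)
  have ht3 : 2 < t := lt_of_le_of_ne ht.two_le (Ne.symm ht2)
  -- s k ≠ 1 for k > 2
  have hne1 : ∀ k : ℕ, 2 < k → s G k ≠ 1 := by
    intro k hk h1
    have h0 : s G k ≠ 0 := by rw [h1]; exact one_ne_zero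
    obtain ⟨g, hg⟩ := (Cfsg.Agent.S3995.s_ne_zero_iff k).1 h0
    have := Cfsg.Agent.S3995.two_le_s hk g hg
    omega
  -- Cauchy
  have hsp0 : s G p ≠ 0 := by
    haveI := Fact.mk hp
    obtain ⟨g, hg⟩ := exists_prime_orderOf_dvd_card' (G := G) p hpG
    exact (Cfsg.Agent.S3995.s_ne_zero_iff p).2 ⟨g, hg⟩
  have hst0 : s G t ≠ 0 := by
    haveI := Fact.mk ht
    obtain ⟨g, hg⟩ := exists_prime_orderOf_dvd_card' (G := G) t htG
    exact (Cfsg.Agent.S3995.s_ne_zero_iff t).2 ⟨g, hg⟩
  have hspv : s G p = μ ∨ s G p = ν := by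
    rcases H p with h | h | h | h
    · exact absurd h hsp0
    · exact absurd h (hne1 p hp3)
    · exact Or.inl h
    · exact Or.inr h
  have hstv : s G t = μ ∨ s G t = ν := by
    rcases H t with h | h | h | h
    · exact absurd h hst0
    · exact absurd h (hne1 t ht3)
    · exact Or.inl h
    · exact Or.inr h
  have hsuv : s G u = μ ∨ s G u = ν := by
    rcases H u with h | h | h | h
    · exact absurd h hsu0
    · exact absurd h hsu1
    · exact Or.inl h
    · exact Or.inr h
  -- values for k > 2 in terms of s p, s t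
  have vals : ∀ k : ℕ, 2 < k → s G k = 0 ∨ s G k = s G p ∨ s G k = s G t := by
    intro k hk
    rcases H k with h | h | h | h
    · exact Or.inl h
    · exact absurd h (hne1 k hk)
    · rcases hspv with h' | h'
      · exact Or.inr (Or.inl (h.trans h'.symm))
      · rcases hstv with h'' | h''
        · exact Or.inr (Or.inr (h.trans h''.symm))
        · exact absurd (h'.trans h''.symm) hdiff
    · rcases hspv with h' | h'
      · rcases hstv with h'' | h''
        · exact absurd (h'.trans h''.symm) hdiff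
        · exact Or.inr (Or.inr (h.trans h''.symm))
      · exact Or.inr (Or.inl (h.trans h'.symm))
  have vals' : ∀ k : ℕ, 2 < k → s G k = 0 ∨ s G k = s G t ∨ s G k = s G p := by
    intro k hk
    rcases vals k hk with h | h | h
    · exact Or.inl h
    · exact Or.inr (Or.inr h)
    · exact Or.inr (Or.inl h)
  have hsu : s G u = s G p ∨ s G u = s G t := by
    rcases hsuv with h | h
    · rcases hspv with h' | h'
      · exact Or.inl (h.trans h'.symm)
      · rcases hstv with h'' | h''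
        · exact Or.inr (h.trans h''.symm)
        · exact absurd (h'.trans h''.symm) hdiff
    · rcases hspv with h' | h'
      · rcases hstv with h'' | h''
        · exact absurd (h'.trans h''.symm) hdiff
        · exact Or.inr (h.trans h''.symm)
      · exact Or.inl (h.trans h'.symm)
  -- divisibility
  have huG : u ∣ Nat.card G := by
    obtain ⟨g, hg⟩ := (Cfsg.Agent.S3995.s_ne_zero_iff u).1 hsu0
    rw [← hg]; exact orderOf_dvd_natCard g
  have hcop_up : Nat.Coprime u p := ((Nat.Prime.coprime_iff_not_dvd hp).2 hup).symm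
  have hcop_ut : Nat.Coprime u t := ((Nat.Prime.coprime_iff_not_dvd ht).2 hut).symm
  have hcop_pt : Nat.Coprime p t := (Nat.coprime_primes hp ht).2 hpt
  have hupG : u * p ∣ Nat.card G := Nat.Coprime.mul_dvd_of_dvd_of_dvd hcop_up huG hpG
  have hutG : u * t ∣ Nat.card G := Nat.Coprime.mul_dvd_of_dvd_of_dvd hcop_ut huG htG
  have hN1 : u * p * t ∣ Nat.card G :=
    Nat.Coprime.mul_dvd_of_dvd_of_dvd (Nat.Coprime.mul_left hcop_ut hcop_pt) hupG htG
  have hN2 : u * t * p ∣ Nat.card G :=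
    Nat.Coprime.mul_dvd_of_dvd_of_dvd (Nat.Coprime.mul_left hcop_up hcop_pt.symm) hutG hpG
  have hpair' : ∀ p : ℕ, p.Prime → ∀ k : ℕ, ¬ p ∣ k → p * k ∣ Nat.card G →
      p ∣ s G k + s G (p * k) := fun p hp k hk hd => hpair hp hk hd
  rcases hsu with h | h
  · exact Cfsg.Agent.Lib.Helper31.Nse3.mixed_kill_abs (Nat.card G) (s G) (s G p) (s G t)
      Cfsg.Agent.S3995.s_one hpair' vals p t u hp ht hp2 ht2 hpt (by omega) hup hut rfl rfl h hN1
  · exact Cfsg.Agent.Lib.Helper31.Nse3.mixed_kill_abs (Nat.card G) (s G) (s G t) (s G p)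
      Cfsg.Agent.S3995.s_one hpair' vals' t p u ht hp ht2 hp2 (Ne.symm hpt) (by omega) hut hup
      rfl rfl h hN2

end Cfsg.Agent.Lib.Helper31.NSE3
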