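import Cfsg.Agent.Lib.Helper31.FusionCtl
import Cfsg.Agent.Lib.Helper14.NilpHall
import Cfsg.Agent.Lib.Helper01.Fitting
import Cfsg.Agent.Lib.Helper55.Uniq3

set_option autoImplicit false
set_option linter.unusedSectionVars false

/-! Sylow subgroups of a nilpotent Hall subgroup `H` of a finite group `G`, inside `G`. -/

namespace Cfsg.Agent.Lib.Helper31.NilHall

open Cfsg Cfsg.Agent.Lib.Helper55

variable {G : Type*} [Group G] [Finite G]

/-- a Sylow `p`-subgroup of the subgroup `H`, as a subgroup of `G` -/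
noncomputable def sylOf (p : ℕ) (H : Subgroup G) : Subgroup G :=
  ((Classical.arbitrary (Sylow p H) : Sylow p H) : Subgroup H).map H.subtype

theorem isSylowIn_sylOf (p : ℕ) (H : Subgroup G) : IsSylowIn p H (sylOf p H) :=
  isSylowIn_of_sylow _

theorem sylOf_le (p : ℕ) (H : Subgroup G) : sylOf p H ≤ H := (isSylowIn_sylOf p H).1

theorem isPGroup_sylOf (p : ℕ) (H : Subgroup G) : IsPGroup p (sylOf p H) :=
  (isSylowIn_sylOf p H).2.1

/-- in a nilpotent subgroup, `p`-elements lie in the chosen Sylow `p`-subgroup -/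
theorem mem_sylOf_of_pow {p : ℕ} [Fact p.Prime] {H : Subgroup G} (hHn : Group.IsNilpotent H)
    {u : G} (hu : u ∈ H) {j : ℕ} (huj : u ^ (p ^ j) = 1) : u ∈ sylOf p H := by
  have := hHn
  let P₀ : Sylow p H := Classical.arbitrary (Sylow p H)
  have hn : (P₀ : Subgroup H).Normal := inferInstance
  have hZ : IsPGroup p (Subgroup.zpowers (⟨u, hu⟩ : H)) := by
    rw [IsPGroup.iff_orderOf]
    rintro ⟨z, hz⟩
    obtain ⟨k, rfl⟩ := Subgroup.mem_zpowers_iff.mp hz
    have h1 : (⟨(⟨u, hu⟩ : H) ^ k, hz⟩ : Subgroup.zpowers (⟨u, hu⟩ : H)) ^ (p ^ j) = 1 := by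
      apply Subtype.ext
      apply Subtype.ext
      simp only [SubgroupClass.coe_pow, SubgroupClass.coe_zpow, OneMemClass.coe_one]
      rw [← zpow_natCast, ← zpow_mul, mul_comm, zpow_mul, zpow_natCast, huj, one_zpow]
    obtain ⟨i, -, hi⟩ := (Nat.dvd_prime_pow (Fact.out : p.Prime)).mp (orderOf_dvd_of_pow_eq_one h1)
    exact ⟨i, hi⟩
  obtain ⟨Q, hQ⟩ := hZ.exists_le_sylow
  have huniq := Sylow.unique_of_normal P₀ hn
  have hQP : Q = P₀ := Subsingleton.elim Q P₀
  have hmem : (⟨u, hu⟩ : H) ∈ (P₀ : Subgroup H) := hQP ▸ hQ (Subgroup.mem_zpowers _)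
  exact ⟨⟨u, hu⟩, hmem, rfl⟩

/-- elements of `sylOf p H` have `p`-power order -/
theorem orderOf_of_mem_sylOf {p : ℕ} [Fact p.Prime] {H : Subgroup G} {t : G} (ht : t ∈ sylOf p H) :
    ∃ j : ℕ, orderOf t = p ^ j := by
  obtain ⟨j, hj⟩ := (IsPGroup.iff_orderOf.mp (isPGroup_sylOf p H)) ⟨t, ht⟩
  exact ⟨j, by rw [← hj, Subgroup.orderOf_mk]⟩

/-- a `p'`-element of the nilpotent subgroup `H` commutes with the Sylow `p`-subgroup -/
theorem commute_sylOf {p : ℕ} [Fact p.Prime] {H : Subgroup G} (hHn : Group.IsNilpotent H)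
    {v : G} (hv : v ∈ H) (hvp : (orderOf v).Coprime p) {t : G} (ht : t ∈ sylOf p H) :
    t * v = v * t := by
  obtain ⟨j, hj⟩ := orderOf_of_mem_sylOf ht
  apply Cfsg.Agent.Lib.Helper14.commute_of_mem_nilpotent hHn (sylOf_le p H ht) hv
  rw [hj]
  exact (Nat.Coprime.pow_right j hvp).symm

/-- `H` is generated by its Sylow subgroups -/
theorem eq_iSup_sylOf (H : Subgroup G) : H = ⨆ q : Nat.Primes, sylOf (q : ℕ) H := by
  have h1 := Cfsg.Agent.Lib.Helper01.iSup_sylow_eq_top
    (fun q : Nat.Primes => (Classical.arbitrary (Sylow (q : ℕ) H) : Sylow (q : ℕ) H))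
  have h2 : ((⊤ : Subgroup H)).map H.subtype = H := by
    rw [← MonoidHom.range_eq_map, Subgroup.range_subtype]
  rw [← h1, Subgroup.map_iSup] at h2
  exact h2.symm

/-- an element normalizing all the chosen Sylow subgroups of `H` normalizes `H` -/
theorem mem_normalizer_of_forall {H : Subgroup G} {g : G}
    (h : ∀ q : Nat.Primes, g ∈ Subgroup.normalizer ((sylOf (q : ℕ) H : Subgroup G) : Set G)) :
    g ∈ Subgroup.normalizer (H : Set G) := by
  rw [← cj_eq_self_iff]
  conv_lhs => rw [eq_iSup_sylOf H]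
  conv_rhs => rw [eq_iSup_sylOf H]
  rw [cj, Subgroup.map_iSup]
  congr 1
  funext q
  exact cj_eq_self_iff.mpr (h q)

/-- for `p ∤ #H` the Sylow `p`-subgroup of `H` is trivial -/
theorem sylOf_eq_bot {p : ℕ} [Fact p.Prime] {H : Subgroup G} (hp : ¬ p ∣ Nat.card H) :
    sylOf p H = ⊥ := by
  obtain ⟨n, hn⟩ := (isPGroup_sylOf p H).exists_card_eq
  have h1 : Nat.card (sylOf p H) ∣ Nat.card H := Subgroup.card_dvd_of_le (sylOf_le p H)
  rcases Nat.eq_zero_or_pos n with h0 | h0
  · rw [h0, pow_zero] at hn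
    exact Subgroup.card_eq_one.mp hn
  · exfalso
    apply hp
    exact (dvd_pow_self p h0.ne').trans (hn ▸ h1)

/-- for `p ∣ #H`, `H` a Hall subgroup, the Sylow `p`-subgroup of `H` is a Sylow subgroup of `G` -/
theorem isSylowIn_top_sylOf {p : ℕ} [Fact p.Prime] {H : Subgroup G}
    (hHall : (Nat.card H).Coprime H.index) (hp : p ∣ Nat.card H) :
    IsSylowIn p ⊤ (sylOf p H) := by
  have hpp : p.Prime := Fact.out
  refine ⟨le_top, isPGroup_sylOf p H, ?_⟩
  intro T' _ hT' hle
  symm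
  apply Subgroup.eq_of_le_of_card_ge hle
  obtain ⟨j, hj⟩ := hT'.exists_card_eq
  have h1 : Nat.card T' ∣ Nat.card H * H.index := by
    rw [Subgroup.card_mul_index]
    exact Subgroup.card_subgroup_dvd_card T'
  have hcop : (Nat.card T').Coprime H.index := by
    rw [hj]
    apply Nat.Coprime.pow_left
    rw [Nat.Prime.coprime_iff_not_dvd hpp]
    intro hdvd
    have := Nat.Coprime.eq_one_of_dvd hHall.symm
    have h2 : p ∣ Nat.gcd (Nat.card H) H.index := Nat.dvd_gcd hp hdvd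
    rw [hHall] at h2
    exact hpp.one_lt.ne' (Nat.dvd_one.mp h2)
  have h2 : Nat.card T' ∣ Nat.card H := hcop.dvd_of_dvd_mul_right h1
  have h3 : Nat.card (sylOf p H) = p ^ (Nat.card H).factorization p := by
    have := Sylow.card_eq_multiplicity (Classical.arbitrary (Sylow p H) : Sylow p H)
    rw [← this]
    unfold sylOf
    exact Nat.card_congr
      (Subgroup.equivMapOfInjective _ H.subtype H.subtype_injective).symm.toEquiv
  rw [h3, hj]
  rw [hj] at h2
  exact Nat.pow_le_pow_right hpp.pos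
    ((hpp.pow_dvd_iff_le_factorization Nat.card_pos.ne').mp h2)

end Cfsg.Agent.Lib.Helper31.NilHall
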