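import Cfsg.Agent.Lib.Helper31.NilHallA

set_option autoImplicit false
set_option linter.unusedSectionVars false

/-! The normalizer of a nilpotent Hall subgroup controls fusion of its elements, in a minimal
simple group of odd order all of whose proper subgroups have `p`-length one for every `p`. -/

namespace Cfsg.Agent.Lib.Helper31.NilHall

open Cfsg Cfsg.Agent.Lib.Helper55 Cfsg.Agent.Lib.Helper31.FusionCtl

variable {G : Type*} [Group G] [Finite G]

/-- conjugation commutes with powers -/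
theorem conj_pow' (g x : G) (n : ℕ) : (g * x * g⁻¹) ^ n = g * x ^ n * g⁻¹ := by
  have h1 : g * x * g⁻¹ = MulAut.conj g x := by simp
  have h2 : g * x ^ n * g⁻¹ = MulAut.conj g (x ^ n) := by simp
  rw [h1, h2, map_pow]

theorem orderOf_conj' (g x : G) : orderOf (g * x * g⁻¹) = orderOf x := by
  have h1 : g * x * g⁻¹ = MulAut.conj g x := by simp
  rw [h1, MulEquiv.orderOf_eq]

/-- the step of the induction: adjust `g` by an element of `C_L(x)` so that it normalizes the
Sylow `p`-subgroup of `H` -/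
theorem step (hG : IsMinSimpleOddOrder G)
    (h1410 : ∀ (q : ℕ) [Fact q.Prime] (K : Subgroup G), K ≠ ⊤ → PLengthLE q 1 K)
    {H : Subgroup G} (hHn : Group.IsNilpotent H) (hHall : (Nat.card H).Coprime H.index)
    (p : ℕ) [Fact p.Prime] (hpH : p ∣ Nat.card H) (L : Subgroup G) (hPL : sylOf p H ≤ L)
    {x g : G} (hx : x ∈ H) (hy : g * x * g⁻¹ ∈ H) (hg : g ∈ L) :
    ∃ e ∈ L, e * x = x * e ∧ g * e ∈ Subgroup.normalizer ((sylOf p H : Subgroup G) : Set G) := by
  have hpp : p.Prime := Fact.out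
  set P := sylOf p H with hP
  have hPtop : IsSylowIn p ⊤ P := isSylowIn_top_sylOf hHall hpH
  -- the `p`-part `u` and the `p'`-part `v` of `x`
  set n := orderOf x with hn
  have hn0 : n ≠ 0 := (orderOf_pos x).ne'
  set pk := ordProj[p] n with hpk
  set m := ordCompl[p] n with hm
  have hpkm : pk * m = n := Nat.ordProj_mul_ordCompl_eq_self n p
  have hcop : Nat.Coprime m p := (Nat.coprime_ordCompl hpp hn0).symm
  set u := x ^ m with hu
  set v := x ^ pk with hv
  have huH : u ∈ H := H.pow_mem hx m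
  have hvH : v ∈ H := H.pow_mem hx pk
  have hupk : u ^ pk = 1 := by
    rw [hu, ← pow_mul, mul_comm, hpkm, hn, pow_orderOf_eq_one]
  have hvm : v ^ m = 1 := by
    rw [hv, ← pow_mul, hpkm, hn, pow_orderOf_eq_one]
  have huP : u ∈ P := mem_sylOf_of_pow hHn huH (j := n.factorization p) hupk
  have hvcop : (orderOf v).Coprime p :=
    Nat.Coprime.coprime_dvd_left (orderOf_dvd_of_pow_eq_one hvm) hcop
  -- the same for `y = g x g⁻¹`
  have huy : g * u * g⁻¹ ∈ P := by
    have h1 : g * u * g⁻¹ = (g * x * g⁻¹) ^ m := (conj_pow' g x m).symm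
    have h2 : g * u * g⁻¹ ∈ H := by rw [h1]; exact H.pow_mem hy m
    have h3 : (g * u * g⁻¹) ^ pk = 1 := by rw [conj_pow', hupk]; group
    exact mem_sylOf_of_pow hHn h2 (j := n.factorization p) h3
  have hvy : (orderOf (g * v * g⁻¹)).Coprime p := by rw [orderOf_conj']; exact hvcop
  have hvyH : g * v * g⁻¹ ∈ H := by
    have h1 : g * v * g⁻¹ = (g * x * g⁻¹) ^ pk := (conj_pow' g x pk).symm
    rw [h1]
    exact H.pow_mem hy pk
  -- `x` commutes with whatever commutes with `u` and `v`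
  have hcomm : ∀ c : G, c * u = u * c → c * v = v * c → c * x = x * c := by
    intro c hcu hcv
    have hb := Int.gcd_eq_gcd_ab (m : ℤ) (pk : ℤ)
    have hgcd : Int.gcd (m : ℤ) (pk : ℤ) = 1 := by
      rw [Int.gcd_natCast_natCast]
      exact Nat.Coprime.pow_right _ hcop
    rw [hgcd] at hb
    have hx1 : x = u ^ (Int.gcdA m pk) * v ^ (Int.gcdB m pk) := by
      rw [hu, hv, ← zpow_natCast x m, ← zpow_natCast x pk, ← zpow_mul, ← zpow_mul, ← zpow_add,
        ← hb]
      simp
    have h1 : Commute c (u ^ (Int.gcdA m pk)) := (show Commute c u from hcu).zpow_right _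
    have h2 : Commute c (v ^ (Int.gcdB m pk)) := (show Commute c v from hcv).zpow_right _
    have h3 : Commute c x := by
      rw [hx1]
      exact h1.mul_right h2
    exact h3
  -- the subgroup `L₁ = C_L(v)`
  set L₁ := L ⊓ Subgroup.centralizer ({v} : Set G) with hL₁
  have hPL₁ : P ≤ L₁ := by
    intro t ht
    refine Subgroup.mem_inf.mpr ⟨hPL ht, ?_⟩
    rw [Subgroup.mem_centralizer_iff]
    intro w hw
    rw [Set.mem_singleton_iff] at hw
    rw [hw]
    exact (commute_sylOf hHn hvH hvcop ht).symm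
  set P' := cj g⁻¹ P with hP'
  have hP'top : IsSylowIn p ⊤ P' := by
    have := isSylowIn_cj hPtop g⁻¹
    rwa [cj_top] at this
  have hP'L₁ : P' ≤ L₁ := by
    intro t ht
    rw [hP', mem_cj, inv_inv] at ht
    refine Subgroup.mem_inf.mpr ⟨?_, ?_⟩
    · have h1 : g * t * g⁻¹ ∈ L := hPL ht
      have h2 : t = g⁻¹ * (g * t * g⁻¹) * g := by group
      rw [h2]
      exact L.mul_mem (L.mul_mem (L.inv_mem hg) h1) hg
    · rw [Subgroup.mem_centralizer_iff]
      intro w hw
      rw [Set.mem_singleton_iff] at hw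
      rw [hw]
      have h1 := commute_sylOf hHn hvyH hvy ht
      -- `(g t g⁻¹) (g v g⁻¹) = (g v g⁻¹) (g t g⁻¹)`
      have h2 : g * (t * v) * g⁻¹ = g * (v * t) * g⁻¹ := by
        have e1 : g * (t * v) * g⁻¹ = g * t * g⁻¹ * (g * v * g⁻¹) := by group
        have e2 : g * (v * t) * g⁻¹ = g * v * g⁻¹ * (g * t * g⁻¹) := by group
        rw [e1, e2, h1]
      have h3 := mul_left_cancel (mul_right_cancel h2)
      exact h3.symm
  have hS : IsSylowIn p L₁ P :=
    ⟨hPL₁, hPtop.2.1, fun T' _ hT' hle => hPtop.2.2 T' le_top hT' hle⟩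
  have hS' : IsSylowIn p L₁ P' :=
    ⟨hP'L₁, hP'top.2.1, fun T' _ hT' hle => hP'top.2.2 T' le_top hT' hle⟩
  obtain ⟨w, hwL₁, hwP⟩ := hS.exists_conj hS'
  have huP' : u ∈ P' := by
    rw [hP', mem_cj, inv_inv]
    exact huy
  have hwu : w⁻¹ * u * w⁻¹⁻¹ ∈ P := by
    rw [inv_inv]
    rw [← hwP, mem_cj] at huP'
    exact huP'
  obtain ⟨n₁, hn₁, c, hc, hwnc⟩ := fusion_control hG (h1410 p) hS ({u} : Set G)
    (by intro z hz; rw [Set.mem_singleton_iff] at hz; rw [hz]; exact huP)
    (L₁.inv_mem hwL₁)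
    (by intro z hz; rw [Set.mem_singleton_iff] at hz; rw [hz]; exact hwu)
  have hn₁N : n₁ ∈ Subgroup.normalizer (P : Set G) := (Subgroup.mem_inf.mp hn₁).2
  have hcL₁ : c ∈ L₁ := (Subgroup.mem_inf.mp hc).1
  have hcu : c * u = u * c := by
    have := (Subgroup.mem_inf.mp hc).2
    rw [Subgroup.mem_centralizer_iff] at this
    exact (this u rfl).symm
  have hcv : c * v = v * c := by
    have := (Subgroup.mem_inf.mp hcL₁).2
    rw [Subgroup.mem_centralizer_iff] at this
    exact (this v rfl).symm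
  have hcx : c * x = x * c := hcomm c hcu hcv
  refine ⟨c⁻¹, L.inv_mem (Subgroup.mem_inf.mp hcL₁).1, ?_, ?_⟩
  · have h1 : c⁻¹ * x = c⁻¹ * (x * c) * c⁻¹ := by group
    rw [h1, ← hcx]
    group
  · -- `cj (g c⁻¹) P = P`
    rw [← cj_eq_self_iff, cj_mul]
    have hw : w = c⁻¹ * n₁⁻¹ := by
      have : w = (w⁻¹)⁻¹ := (inv_inv w).symm
      rw [this, hwnc]
      group
    have h1 : cj c⁻¹ P = P' := by
      rw [← hwP, hw, cj_mul, cj_eq_self_iff.mpr (Subgroup.inv_mem _ hn₁N)]
    rw [h1, hP', cj_cj_inv]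

/-- the intersection of the normalizers of the Sylow `q`-subgroups of `H`, `q ∈ T` -/
def normT (H : Subgroup G) (T : Finset ℕ) : Subgroup G :=
  ⨅ q ∈ T, Subgroup.normalizer ((sylOf q H : Subgroup G) : Set G)

theorem mem_normT {H : Subgroup G} {T : Finset ℕ} {g : G} :
    g ∈ normT H T ↔ ∀ q ∈ T, g ∈ Subgroup.normalizer ((sylOf q H : Subgroup G) : Set G) := by
  simp only [normT, Subgroup.mem_iInf]

theorem exists_conj_normT (hG : IsMinSimpleOddOrder G)
    (h1410 : ∀ (q : ℕ) [Fact q.Prime] (K : Subgroup G), K ≠ ⊤ → PLengthLE q 1 K)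
    {H : Subgroup G} (hHn : Group.IsNilpotent H) (hHall : (Nat.card H).Coprime H.index)
    {x y : G} (hx : x ∈ H) (hy : y ∈ H) :
    ∀ T : Finset ℕ, (∀ q ∈ T, q.Prime ∧ q ∣ Nat.card H) →
      ∀ g : G, g * x * g⁻¹ = y → ∃ g' : G, g' * x * g'⁻¹ = y ∧ g' ∈ normT H T := by
  intro T
  induction T using Finset.induction_on with
  | empty =>
    intro _ g hg
    refine ⟨g, hg, ?_⟩
    rw [mem_normT]
    intro q hq
    simp at hq
  | insert p T hpT ih =>
    intro hT g hg
    obtain ⟨g', hg', hg'T⟩ := ih (fun q hq => hT q (Finset.mem_insert_of_mem hq)) g hg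
    obtain ⟨hpp, hpH⟩ := hT p (Finset.mem_insert_self p T)
    have : Fact p.Prime := ⟨hpp⟩
    have hPL : sylOf p H ≤ normT H T := by
      intro t ht
      rw [mem_normT]
      intro q hq
      have hqp : q ≠ p := fun h => hpT (h ▸ hq)
      obtain ⟨hqq, -⟩ := hT q (Finset.mem_insert_of_mem hq)
      have : Fact q.Prime := ⟨hqq⟩
      apply Subgroup.centralizer_le_normalizer
      rw [Subgroup.mem_centralizer_iff]
      intro s hs
      obtain ⟨j, hj⟩ := orderOf_of_mem_sylOf ht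
      refine commute_sylOf hHn (sylOf_le p H ht) ?_ hs
      rw [hj]
      exact Nat.Coprime.pow_left j ((Nat.coprime_primes hpp hqq).mpr hqp.symm)
    obtain ⟨e, heL, hex, hge⟩ :=
      step hG h1410 hHn hHall p hpH (normT H T) hPL hx (hg'.symm ▸ hy) hg'T
    refine ⟨g' * e, ?_, ?_⟩
    · have h1 : e * x * e⁻¹ = x := by rw [hex]; group
      calc g' * e * x * (g' * e)⁻¹ = g' * (e * x * e⁻¹) * g'⁻¹ := by group
        _ = y := by rw [h1, hg']
    · rw [mem_normT]
      intro q hq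
      rcases Finset.mem_insert.mp hq with rfl | hq
      · exact hge
      · exact Subgroup.mul_mem _ (mem_normT.mp hg'T q hq) (mem_normT.mp heL q hq)

/-- **Bender–Glauberman, Theorem E (3)** modulo `p`-length one of proper subgroups: the
normalizer of a nilpotent Hall subgroup controls fusion of its elements -/
theorem nilHall_fusion (hG : IsMinSimpleOddOrder G)
    (h1410 : ∀ (q : ℕ) [Fact q.Prime] (K : Subgroup G), K ≠ ⊤ → PLengthLE q 1 K)
    {H : Subgroup G} (hHn : Group.IsNilpotent H) (hHall : (Nat.card H).Coprime H.index)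
    {x g : G} (hx : x ∈ H) (hy : g * x * g⁻¹ ∈ H) :
    ∃ n ∈ Subgroup.normalizer (H : Set G), n * x * n⁻¹ = g * x * g⁻¹ := by
  obtain ⟨g', hg', hg'T⟩ := exists_conj_normT hG h1410 hHn hHall hx hy
    (Nat.card H).primeFactors (fun q hq => ⟨Nat.prime_of_mem_primeFactors hq,
      Nat.dvd_of_mem_primeFactors hq⟩) g rfl
  refine ⟨g', ?_, hg'⟩
  apply mem_normalizer_of_forall
  intro q
  have : Fact (q : ℕ).Prime := ⟨q.2⟩
  by_cases hq : (q : ℕ) ∣ Nat.card H
  · exact mem_normT.mp hg'T q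
      (Nat.mem_primeFactors.mpr ⟨q.2, hq, Nat.card_pos.ne'⟩)
  · rw [sylOf_eq_bot hq, ← cj_eq_self_iff, cj_bot]

end Cfsg.Agent.Lib.Helper31.NilHall
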