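import Mathlib
import Cfsg.Prelude.Def_CaseTheorems
import Cfsg.Agent.Lib.Helper97.NACSetup
import Cfsg.Agent.Lib.Helper97.UniqueOrderP
import Cfsg.Agent.Lib.Helper06.NormalRankTwo
import Cfsg.Agent.Lib.Helper26.NormalPP

set_option autoImplicit false
set_option linter.unusedSectionVars false

/-!
# Normal `E_{p²}` in `p`-groups that are not cyclic or of maximal class

A finite `p`-group that is not cyclic, generalized quaternion, dihedral or quasi-dihedral contains a
central element `z` of order `p` and an element `u ∉ ⟨z⟩` of order `p` all of whose conjugates lie in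
`u ⟨z⟩`.
-/

namespace Cfsg.Agent.Lib.Helper31.NormalEpp

open Cfsg Subgroup

variable {G : Type*} [Group G] [Finite G]

theorem zpowers_eq_of_mem {p : ℕ} {z x : G} (hz : orderOf z = p)
    (hx : orderOf x = p) (hxz : x ∈ zpowers z) : zpowers x = zpowers z := by
  have hle : zpowers x ≤ zpowers z := by rw [zpowers_le]; exact hxz
  apply Subgroup.eq_of_le_of_card_ge hle
  rw [Nat.card_zpowers, Nat.card_zpowers, hz, hx]

theorem orderOf_eq_prime_of {p : ℕ} [hp : Fact p.Prime] {x : G} (h1 : x ≠ 1) (hxp : x ^ p = 1) :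
    orderOf x = p := orderOf_eq_prime hxp h1

/-- A normal abelian noncyclic subgroup gives the pair `(z, u)`. -/
theorem pair_of_normal_abelian {p : ℕ} [hp : Fact p.Prime] (hG : IsPGroup p G) (U : Subgroup G)
    [hUn : U.Normal] (hUc : ∀ a ∈ U, ∀ b ∈ U, a * b = b * a) (hUnc : ¬ IsCyclic U) :
    ∃ z u : G, z ≠ 1 ∧ z ^ p = 1 ∧ z ∈ center G ∧ u ^ p = 1 ∧ u ∉ zpowers z ∧
      ∀ s : G, u⁻¹ * (s * u * s⁻¹) ∈ zpowers z := by
  have hU0 : U ≠ ⊥ := by
    rintro rfl
    exact hUnc inferInstance
  obtain ⟨z, hzU, hz1, hzp, hzc⟩ :=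
    Cfsg.Agent.Lib.Helper06.exists_central_order_p_mem_normal hG U hU0
  have hzo : orderOf z = p := orderOf_eq_prime_of hz1 hzp
  -- the subgroup Ω of elements of order dividing p
  have hmul : ∀ x ∈ U, ∀ y ∈ U, x ^ p = 1 → y ^ p = 1 → (x * y) ^ p = 1 := by
    intro x hx y hy hxp hyp
    have hc : Commute x y := hUc x hx y hy
    rw [hc.mul_pow, hxp, hyp, one_mul]
  have hΩn := Cfsg.Agent.Lib.Helper26.omegaSub_normal U p hmul
  -- an element of Ω outside ⟨z⟩
  have hw : ∃ w ∈ U, w ^ p = 1 ∧ w ∉ zpowers z := by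
    by_contra hcon
    push Not at hcon
    apply hUnc
    apply Cfsg.Agent.Lib.Helper97.isCyclic_of_comm_of_uniqueOrderP (p := p) (hG.to_subgroup U)
    · intro a b
      exact Subtype.ext (hUc a a.2 b b.2)
    · intro x y hx hy
      have hx' : orderOf (x : G) = p := by rw [Subgroup.orderOf_coe]; exact hx
      have hy' : orderOf (y : G) = p := by rw [Subgroup.orderOf_coe]; exact hy
      have hxz : (x : G) ∈ zpowers z :=
        hcon x x.2 (by rw [← hx', pow_orderOf_eq_one])
      have hyz : (y : G) ∈ zpowers z :=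
        hcon y y.2 (by rw [← hy', pow_orderOf_eq_one])
      have heq := zpowers_eq_of_mem hzo hx' hxz
      rw [← heq] at hyz
      obtain ⟨k, hk⟩ := Subgroup.mem_zpowers_iff.mp hyz
      exact Subgroup.mem_zpowers_iff.mpr ⟨k, Subtype.ext (by simpa using hk)⟩
  obtain ⟨w, hwU, hwp, hwz⟩ := hw
  have hwΩ : w ∈ Cfsg.Agent.Lib.Helper26.omegaSub U p hmul :=
    Cfsg.Agent.Lib.Helper26.mem_omegaSub.mpr ⟨hwU, hwp⟩
  obtain ⟨u, huΩ, huz, hu⟩ :=
    Cfsg.Agent.Lib.Helper06.normal_rank_two_of_elemAb hG
      (Cfsg.Agent.Lib.Helper26.omegaSub U p hmul) z w hzc hwΩ hwz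
  exact ⟨z, u, hz1, hzp, hzc, (Cfsg.Agent.Lib.Helper26.mem_omegaSub.mp huΩ).2, huz, hu⟩


/-- A finite `p`-group that is not cyclic, generalized quaternion, dihedral or quasi-dihedral has a
normal abelian noncyclic subgroup. -/
theorem exists_normal_abelian_noncyclic {p : ℕ} [hp : Fact p.Prime] (hG : IsPGroup p G)
    (hnc : ¬ IsCyclic G) (hnq : ∀ n : ℕ, ¬ Nonempty (G ≃* QuaternionGroup n))
    (hnd : ∀ n : ℕ, ¬ Nonempty (G ≃* DihedralGroup n)) (hnsd : ¬ Cfsg.IsQuasiDihedral G) :
    ∃ U : Subgroup G, U.Normal ∧ IsMulCommutative U ∧ ¬ IsCyclic U := by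
  by_contra hcon
  push Not at hcon
  by_cases hm : ∃ B : Subgroup G, IsMulCommutative B ∧ ¬ IsCyclic B
  · obtain ⟨_, h | h | h⟩ :=
      Cfsg.Agent.Lib.Helper97.normal_abelian_cyclic_classify p hG hcon hm
    · obtain ⟨n, hn⟩ := h
      exact hnq n hn
    · obtain ⟨n, _, hn⟩ := h
      exact hnd n hn
    · exact hnsd h
  · push Not at hm
    -- every abelian subgroup is cyclic: unique subgroup of order p
    have hnt : Nontrivial G := by
      by_contra hnt
      rw [not_nontrivial_iff_subsingleton] at hnt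
      exact hnc inferInstance
    have htop : (⊤ : Subgroup G) ≠ ⊥ := by
      intro h
      have := (Subgroup.nontrivial_iff_ne_bot (⊤ : Subgroup G)).mp inferInstance
      exact this h
    obtain ⟨z, _, hz1, hzp, hzc⟩ :=
      Cfsg.Agent.Lib.Helper06.exists_central_order_p_mem_normal hG (⊤ : Subgroup G) htop
    have hzo : orderOf z = p := orderOf_eq_prime_of hz1 hzp
    have key : ∀ H : Subgroup G, Nat.card H = p → H = zpowers z := by
      intro H hH
      have hle : H ≤ zpowers z := by
        intro x hx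
        -- ⟨x, z⟩ is abelian, hence cyclic
        have hcomm : IsMulCommutative ↥(zpowers x ⊔ zpowers z) := by
          apply Subgroup.le_centralizer_iff_isMulCommutative.mp
          have hzall : zpowers z ≤ centralizer ((zpowers x ⊔ zpowers z : Subgroup G) : Set G) := by
            rw [zpowers_le, mem_centralizer_iff]
            intro g _
            exact (Subgroup.mem_center_iff.mp hzc g)
          have hxall : zpowers x ≤ centralizer ((zpowers x ⊔ zpowers z : Subgroup G) : Set G) := by
            rw [zpowers_le, mem_centralizer_iff]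
            intro g hg
            have hle2 : zpowers x ⊔ zpowers z ≤ centralizer ({x} : Set G) := by
              apply sup_le
              · rw [zpowers_le, mem_centralizer_singleton_iff]
              · rw [zpowers_le, mem_centralizer_singleton_iff]
                exact (Subgroup.mem_center_iff.mp hzc x).symm
            have := hle2 hg
            rw [mem_centralizer_singleton_iff] at this
            exact this
          exact sup_le hxall hzall
        have hcyc : IsCyclic ↥(zpowers x ⊔ zpowers z) := hm _ hcomm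
        by_cases hx1 : x = 1
        · rw [hx1]; exact one_mem _
        have hxp : x ^ p = 1 := by
          have := pow_card_eq_one' (G := H) (x := ⟨x, hx⟩)
          rw [hH] at this
          exact congrArg Subtype.val this
        have hxmem : x ∈ zpowers x ⊔ zpowers z := le_sup_left (a := zpowers x) (mem_zpowers x)
        have hzmem : z ∈ zpowers x ⊔ zpowers z := le_sup_right (a := zpowers x) (mem_zpowers z)
        have hzo' : orderOf (⟨z, hzmem⟩ : ↥(zpowers x ⊔ zpowers z)) = p := by
          rw [← hzo, ← Subgroup.orderOf_coe]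
        have := Cfsg.Agent.Lib.Helper97.mem_zpowers_of_pow_eq_one_of_isCyclic' hp.out.pos
          (⟨z, hzmem⟩ : ↥(zpowers x ⊔ zpowers z)) ⟨x, hxmem⟩ hzo' (Subtype.ext (by simpa using hxp))
        obtain ⟨k, hk⟩ := Subgroup.mem_zpowers_iff.mp this
        exact Subgroup.mem_zpowers_iff.mpr ⟨k, by simpa using congrArg Subtype.val hk⟩
      apply Subgroup.eq_of_le_of_card_ge hle
      rw [Nat.card_zpowers, hzo, hH]
    have huniq : ∀ H K : Subgroup G, Nat.card H = p → Nat.card K = p → H = K := by
      intro H K hH hK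
      rw [key H hH, key K hK]
    rcases Cfsg.Agent.Lib.Helper97.cyclic_or_quaternion_of_unique p hG huniq with h | ⟨_, n, hn⟩
    · exact hnc h
    · exact hnq _ hn

/-- A finite `p`-group that is not cyclic, generalized quaternion, dihedral or quasi-dihedral contains
a central `z` of order `p` and `u ∉ ⟨z⟩` of order `p` whose conjugates all lie in `u ⟨z⟩`. -/
theorem exists_pair {p : ℕ} [hp : Fact p.Prime] (hG : IsPGroup p G)
    (hnc : ¬ IsCyclic G) (hnq : ∀ n : ℕ, ¬ Nonempty (G ≃* QuaternionGroup n))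
    (hnd : ∀ n : ℕ, ¬ Nonempty (G ≃* DihedralGroup n)) (hnsd : ¬ Cfsg.IsQuasiDihedral G) :
    ∃ z u : G, z ≠ 1 ∧ z ^ p = 1 ∧ z ∈ center G ∧ u ^ p = 1 ∧ u ∉ zpowers z ∧
      ∀ s : G, u⁻¹ * (s * u * s⁻¹) ∈ zpowers z := by
  obtain ⟨U, hUn, hUc, hUnc⟩ := exists_normal_abelian_noncyclic hG hnc hnq hnd hnsd
  have hUc' : ∀ a ∈ U, ∀ b ∈ U, a * b = b * a := by
    intro a ha b hb
    have := Subgroup.le_centralizer_iff_isMulCommutative.mpr hUc
    exact (Subgroup.mem_centralizer_iff.mp (this hb) a ha)
  exact pair_of_normal_abelian hG U hUc' hUnc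

end Cfsg.Agent.Lib.Helper31.NormalEpp
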