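import Mathlib
import Cfsg.Prelude.Def_ClassificationStages
import Cfsg.Prelude.Def_OddOrder

/-!
# helper31: bridge from the `{p,q}`-parabolic configuration (S2016) to the field configuration (S1472)

A Frobenius group `P ⋊ A` with `P` elementary abelian of order `p ^ q` and `A` cyclic of order
`(p ^ q - 1) / (p - 1)` carries a field structure: the ring generated by the conjugation maps of `A`
inside `End(P)` is a field `F` of order `p ^ q`, and `P` is a one-dimensional `F`-space.
-/

set_option autoImplicit false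
set_option linter.style.haveILetI false

namespace Cfsg.Agent.Lib.Helper31.ParaBridge

open Cfsg
open scoped Pointwise

universe u

section FieldOfIrreducible

variable {V : Type u} [AddCommGroup V] [Finite V]

/-- abstract field structure from an irreducible commuting family of endomorphisms -/
theorem pb_exists_field (S : Set (AddMonoid.End V))
    (hcomm : ∀ x ∈ S, ∀ y ∈ S, x * y = y * x)
    (hirr : ∀ W : AddSubgroup V, (∀ φ ∈ S, ∀ w ∈ W, φ w ∈ W) → W = ⊥ ∨ W = ⊤)
    (v₀ : V) (hv₀ : v₀ ≠ 0) :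
    ∃ (F : Type u) (_ : Field F) (_ : Fintype F) (ev : F → V) (ι : ∀ φ ∈ S, F),
      Function.Bijective ev ∧ (∀ r r' : F, ev (r + r') = ev r + ev r') ∧
      (∀ φ (hφ : φ ∈ S) (r : F), ev (ι φ hφ * r) = φ (ev r)) ∧ ev 1 = v₀ ∧
      (∀ φ (hφ : φ ∈ S) ψ (hψ : ψ ∈ S), φ * ψ ∈ S → ∀ h : φ * ψ ∈ S, ι (φ * ψ) h = ι φ hφ * ι ψ hψ) := by
  classical
  have hmc := Subring.isMulCommutative_closure hcomm
  letI : CommRing (Subring.closure S) :=
    { (inferInstance : Ring (Subring.closure S)) with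
      mul_comm := fun a b => hmc.is_comm.comm a b }
  -- kernels are trivial or everything
  have hker : ∀ r : Subring.closure S, (∀ w, (r : AddMonoid.End V) w = 0) ∨
      (∀ w, (r : AddMonoid.End V) w = 0 → w = 0) := by
    intro r
    let K : AddSubgroup V :=
      { carrier := {w | (r : AddMonoid.End V) w = 0}
        zero_mem' := by simp
        add_mem' := by
          intro a b ha hb
          simp only [Set.mem_ofPred_eq] at ha hb ⊢
          rw [map_add, ha, hb, add_zero]
        neg_mem' := by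
          intro a ha
          simp only [Set.mem_ofPred_eq] at ha ⊢
          rw [map_neg, ha, neg_zero] }
    have hK : ∀ w, w ∈ K ↔ (r : AddMonoid.End V) w = 0 := fun w => Iff.rfl
    have hinv : ∀ φ ∈ S, ∀ w ∈ K, φ w ∈ K := by
      intro φ hφ w hw
      rw [hK] at hw ⊢
      have hc : (⟨φ, Subring.subset_closure hφ⟩ : Subring.closure S) * r =
          r * ⟨φ, Subring.subset_closure hφ⟩ := mul_comm _ _
      have hc' : φ * (r : AddMonoid.End V) = (r : AddMonoid.End V) * φ := by
        have := congrArg (fun z : Subring.closure S => (z : AddMonoid.End V)) hc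
        simpa using this
      have h1 : (r : AddMonoid.End V) (φ w) = ((r : AddMonoid.End V) * φ) w := rfl
      rw [h1, ← hc']
      show φ ((r : AddMonoid.End V) w) = 0
      rw [hw, map_zero]
    rcases hirr _ hinv with h | h
    · right
      intro w hw
      have : w ∈ K := (hK w).mpr hw
      rw [h] at this
      simpa using this
    · left
      intro w
      have : w ∈ K := by rw [h]; trivial
      exact (hK w).mp this
  have hzero : ∀ r : Subring.closure S, (∀ w, (r : AddMonoid.End V) w = 0) → r = 0 := by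
    intro r h
    apply Subtype.ext
    apply AddMonoidHom.ext
    intro w
    exact h w
  have hinj : ∀ r : Subring.closure S, r ≠ 0 → ∀ w, (r : AddMonoid.End V) w = 0 → w = 0 := by
    intro r hr
    rcases hker r with h | h
    · exact absurd (hzero r h) hr
    · exact h
  haveI : Nontrivial (Subring.closure S) := by
    refine ⟨⟨1, 0, ?_⟩⟩
    intro h
    have := congrArg (fun z : Subring.closure S => (z : AddMonoid.End V) v₀) h
    simp at this
    exact hv₀ this
  haveI : NoZeroDivisors (Subring.closure S) := by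
    refine ⟨?_⟩
    intro a b hab
    by_contra hne
    push Not at hne
    have h1 := hinj a hne.1
    have h2 := hinj b hne.2
    have h3 : (a : AddMonoid.End V) ((b : AddMonoid.End V) v₀) = 0 := by
      have := congrArg (fun z : Subring.closure S => (z : AddMonoid.End V) v₀) hab
      simpa using this
    exact hv₀ (h2 _ (h1 _ h3))
  haveI : IsDomain (Subring.closure S) := NoZeroDivisors.to_isDomain _
  haveI : Finite (AddMonoid.End V) := by
    have : Function.Injective (fun f : AddMonoid.End V => (f : V → V)) := DFunLike.coe_injective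
    exact Finite.of_injective _ this
  haveI : Finite (Subring.closure S) := Subtype.finite
  letI : Fintype (Subring.closure S) := Fintype.ofFinite _
  letI : Field (Subring.closure S) := Fintype.fieldOfDomain _
  refine ⟨Subring.closure S, inferInstance, inferInstance,
    fun r => (r : AddMonoid.End V) v₀, fun φ hφ => ⟨φ, Subring.subset_closure hφ⟩, ?_, ?_, ?_, ?_, ?_⟩
  · constructor
    · intro r r' h
      have h0 : ((r - r' : Subring.closure S) : AddMonoid.End V) v₀ = 0 := by
        have : ((r - r' : Subring.closure S) : AddMonoid.End V) v₀ =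
            (r : AddMonoid.End V) v₀ - (r' : AddMonoid.End V) v₀ := rfl
        rw [this]; exact sub_eq_zero.mpr h
      by_contra hne
      exact hv₀ (hinj (r - r') (sub_ne_zero.mpr hne) v₀ h0)
    · -- surjective: the range is an invariant subgroup containing v₀
      let W : AddSubgroup V :=
        { carrier := Set.range (fun r : Subring.closure S => (r : AddMonoid.End V) v₀)
          zero_mem' := ⟨0, by simp⟩
          add_mem' := by
            rintro _ _ ⟨r, rfl⟩ ⟨r', rfl⟩
            exact ⟨r + r', rfl⟩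
          neg_mem' := by
            rintro _ ⟨r, rfl⟩
            exact ⟨-r, rfl⟩ }
      have hWinv : ∀ φ ∈ S, ∀ w ∈ W, φ w ∈ W := by
        rintro φ hφ _ ⟨r, rfl⟩
        exact ⟨⟨φ, Subring.subset_closure hφ⟩ * r, rfl⟩
      have hv₀W : v₀ ∈ W := ⟨1, by simp⟩
      rcases hirr W hWinv with h | h
      · rw [h] at hv₀W
        exact absurd (by simpa using hv₀W) hv₀
      · intro v
        have : v ∈ W := by rw [h]; trivial
        exact this
  · intro r r'
    rfl
  · intro φ hφ r
    rfl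
  · rfl
  · intro φ hφ ψ hψ _ h
    rfl

end FieldOfIrreducible

section Counting

theorem pb_free_card_dvd (K Y : Type*) [Group K] [MulAction K Y]
    (h : ∀ b : Y, MulAction.stabilizer K b = ⊥) : Nat.card K ∣ Nat.card Y := by
  rw [Nat.card_congr (MulAction.selfEquivOrbitsQuotientProd h), Nat.card_prod]
  exact dvd_mul_left _ _

/-- arithmetic: `n (p-1) = p^q - 1`, `0 < d < q` forbid `n ∣ p^d - 1` -/
theorem pb_arith {p q n d : ℕ} (hp : 2 ≤ p) (hn : n * (p - 1) = p ^ q - 1) (hd0 : 0 < d) (hdq : d < q)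
    (hdvd : n ∣ p ^ d - 1) : False := by
  have hpd : 2 ≤ p ^ d := by
    calc 2 ≤ p := hp
      _ = p ^ 1 := (pow_one p).symm
      _ ≤ p ^ d := Nat.pow_le_pow_right (by omega) hd0
  have hle : n ≤ p ^ d - 1 := Nat.le_of_dvd (by omega) hdvd
  have h1 : p ^ (d + 1) ≤ p ^ q := Nat.pow_le_pow_right (by omega) (by omega)
  have h2 : p ^ (d + 1) = p ^ d * p := pow_succ p d
  obtain ⟨b, rfl⟩ : ∃ b, p = b + 2 := ⟨p - 2, by omega⟩
  obtain ⟨a, ha⟩ : ∃ a, (b + 2) ^ d = a + 2 := ⟨(b + 2) ^ d - 2, by omega⟩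
  rw [ha] at hle h2
  have h3 : n * (b + 2 - 1) ≤ (a + 1) * (b + 1) := by
    have : b + 2 - 1 = b + 1 := by omega
    rw [this]
    exact Nat.mul_le_mul_right _ (by omega)
  have h4 : (a + 2) * (b + 2) ≤ (b + 2) ^ q := by rw [← h2]; exact h1
  have h5 : (a + 1) * (b + 1) + 1 < (a + 2) * (b + 2) := by nlinarith
  omega

end Counting

section Config

variable {G : Type u} [Group G]

omit [Group G] in
theorem pb_mem_conj_smul {H : Type*} [Group H] (E : Subgroup H) (g x : H) :
    x ∈ MulAut.conj g • E ↔ g⁻¹ * x * g ∈ E := by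
  rw [Subgroup.mem_pointwise_smul_iff_inv_smul_mem]
  simp [MulAut.smul_def]

/-- basic consequences of the Frobenius hypotheses, inside `G` -/
theorem pb_frob_basic (H A P : Subgroup G) (hAH : A ≤ H) (hPH : P ≤ H)
    (hFC : IsFrobeniusComplement (A.subgroupOf H))
    (hK : frobeniusKernel (A.subgroupOf H) = (P.subgroupOf H : Set ↥H)) :
    (∀ a ∈ A, ∀ x ∈ P, a * x * a⁻¹ ∈ P) ∧
    (∀ a ∈ A, a ≠ 1 → ∀ x ∈ P, a * x = x * a → x = 1) := by
  have hmemK : ∀ x (hx : x ∈ H), x ∈ P ↔ (⟨x, hx⟩ : H) ∈ frobeniusKernel (A.subgroupOf H) := by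
    intro x hx
    rw [hK]
    simp [Subgroup.mem_subgroupOf]
  constructor
  · intro a ha x hx
    have hxH := hPH hx
    have haH := hAH ha
    have hk := (hmemK x hxH).mp hx
    rw [hmemK (a * x * a⁻¹) (H.mul_mem (H.mul_mem haH hxH) (H.inv_mem haH))]
    rcases hk with h1 | h2
    · left
      have : x = 1 := by simpa using congrArg Subtype.val h1
      subst this
      ext; simp
    · right
      intro g hg
      apply h2 ((⟨a, haH⟩ : H)⁻¹ * g)
      rw [pb_mem_conj_smul] at hg ⊢
      have : ((⟨a, haH⟩ : H)⁻¹ * g)⁻¹ * ⟨x, hxH⟩ * ((⟨a, haH⟩ : H)⁻¹ * g) =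
          g⁻¹ * (⟨a * x * a⁻¹, H.mul_mem (H.mul_mem haH hxH) (H.inv_mem haH)⟩ : H) * g := by
        ext; simp [mul_assoc]
      rw [this]; exact hg
  · intro a ha ha1 x hx hcomm
    by_contra hx1
    have hxH := hPH hx
    have haH := hAH ha
    have hk := (hmemK x hxH).mp hx
    rcases hk with h1 | h2
    · exact hx1 (by simpa using congrArg Subtype.val h1)
    · have hxE : (⟨x, hxH⟩ : H) ∉ A.subgroupOf H := by
        intro h
        apply h2 1
        rw [pb_mem_conj_smul]; simpa using h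
      have hbot := hFC.2.2 ⟨x, hxH⟩ hxE
      have h1 : (⟨a, haH⟩ : H) ∈ A.subgroupOf H := by simpa [Subgroup.mem_subgroupOf] using ha
      have h3 : (⟨a, haH⟩ : H) ∈ MulAut.conj (⟨x, hxH⟩ : H) • A.subgroupOf H := by
        rw [pb_mem_conj_smul]
        have : (⟨x, hxH⟩ : H)⁻¹ * ⟨a, haH⟩ * ⟨x, hxH⟩ = ⟨a, haH⟩ := by
          ext
          simp only [Subgroup.coe_mul, Subgroup.coe_inv]
          rw [mul_assoc, hcomm, ← mul_assoc, inv_mul_cancel, one_mul]
        rw [this]; exact h1
      have h4 : (⟨a, haH⟩ : H) ∈ A.subgroupOf H ⊓ MulAut.conj (⟨x, hxH⟩ : H) • A.subgroupOf H :=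
        ⟨h1, h3⟩
      rw [hbot, Subgroup.mem_bot] at h4
      exact ha1 (by simpa using congrArg Subtype.val h4)

/-- irreducibility of the action of `A` on `P` by counting -/
theorem pb_irred [Finite G] (p q : ℕ) (hp : p.Prime) (A P : Subgroup G)
    (hAP : ∀ a ∈ A, ∀ x ∈ P, a * x * a⁻¹ ∈ P)
    (hfpf : ∀ a ∈ A, a ≠ 1 → ∀ x ∈ P, a * x = x * a → x = 1)
    (hPcard : Nat.card P = p ^ q) (hn : Nat.card A * (p - 1) = p ^ q - 1)
    (W : Subgroup P)
    (hW : ∀ a (ha : a ∈ A), ∀ w (hw : w ∈ W), (⟨a * w * a⁻¹, hAP a ha w w.2⟩ : P) ∈ W) :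
    W = ⊥ ∨ W = ⊤ := by
  classical
  let Xs : Set P := (W : Set P) \ {1}
  letI : MulAction ↥A ↥Xs :=
    { smul := fun a x => ⟨⟨(a : G) * (x : P) * (a : G)⁻¹, hAP a a.2 _ (x : P).2⟩,
        ⟨hW a a.2 _ x.2.1, by
          intro h
          apply x.2.2
          have h' : (a : G) * ((x : P) : G) * (a : G)⁻¹ = 1 := by
            simpa using congrArg Subtype.val h
          have : ((x : P) : G) = 1 := by
            have := congrArg (fun z => (a : G)⁻¹ * z * (a : G)) h'
            simpa [mul_assoc] using this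
          show (x : P) = 1
          ext; simpa using this⟩⟩
      one_smul := by
        intro x
        apply Subtype.ext; apply Subtype.ext
        show ((1 : A) : G) * ((x : P) : G) * ((1 : A) : G)⁻¹ = ((x : P) : G)
        simp
      mul_smul := by
        intro a b x
        apply Subtype.ext; apply Subtype.ext
        show ((a * b : A) : G) * ((x : P) : G) * ((a * b : A) : G)⁻¹ =
          (a : G) * ((b : G) * ((x : P) : G) * (b : G)⁻¹) * (a : G)⁻¹
        simp [mul_assoc] }
  have hsmul : ∀ (a : A) (x : Xs), (((a • x : Xs) : P) : G) = (a : G) * ((x : P) : G) * (a : G)⁻¹ :=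
    fun a x => rfl
  have hfree : ∀ x : Xs, MulAction.stabilizer ↥A x = ⊥ := by
    intro x
    rw [eq_bot_iff]
    intro a ha
    rw [MulAction.mem_stabilizer_iff] at ha
    rw [Subgroup.mem_bot]
    by_contra ha1
    have h1 := hsmul a x
    rw [ha] at h1
    have hc : (a : G) * ((x : P) : G) = ((x : P) : G) * (a : G) := by
      have := congrArg (fun z => z * (a : G)) h1
      simpa [mul_assoc] using this.symm
    have hx1 := hfpf a a.2 (fun h => ha1 (Subtype.ext h)) _ (x : P).2 hc
    exact x.2.2 (Subtype.ext hx1)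
  have hdvd := pb_free_card_dvd ↥A ↥Xs hfree
  have hXcard : Nat.card ↥Xs = Nat.card W - 1 := by
    rw [Nat.card_coe_set_eq, Set.ncard_sdiff_singleton_of_mem (W.one_mem),
      ← Nat.card_coe_set_eq]
    rfl
  rw [hXcard] at hdvd
  have hWdvd : Nat.card W ∣ p ^ q := by
    rw [← hPcard]; exact Subgroup.card_subgroup_dvd_card W
  obtain ⟨d, hdq, hWd⟩ := (Nat.dvd_prime_pow hp).1 hWdvd
  rcases Nat.eq_zero_or_pos d with hd0 | hd0
  · left
    rw [hd0, pow_zero] at hWd
    exact Subgroup.card_eq_one.mp hWd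
  · rcases Nat.lt_or_ge d q with hlt | hge
    · exfalso
      rw [hWd] at hdvd
      exact pb_arith hp.two_le hn hd0 hlt hdvd
    · right
      have : d = q := le_antisymm hdq hge
      rw [this, ← hPcard] at hWd
      exact Subgroup.eq_top_of_card_eq W hWd

/-- the number of solutions of `r ^ p = r` in a field is at most `p` -/
theorem pb_card_fixed_le {F : Type*} [Field F] [Fintype F] [DecidableEq F] (p : ℕ) (hp : 1 < p) :
    (Finset.univ.filter (fun r : F => r ^ p = r)).card ≤ p := by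
  classical
  have hne : (Polynomial.X ^ p - Polynomial.X : Polynomial F) ≠ 0 :=
    FiniteField.X_pow_card_sub_X_ne_zero F hp
  have hdeg : (Polynomial.X ^ p - Polynomial.X : Polynomial F).natDegree = p :=
    FiniteField.X_pow_card_sub_X_natDegree_eq F hp
  have hsub : Finset.univ.filter (fun r : F => r ^ p = r) ⊆
      (Polynomial.X ^ p - Polynomial.X : Polynomial F).roots.toFinset := by
    intro r hr
    rw [Finset.mem_filter] at hr
    rw [Multiset.mem_toFinset, Polynomial.mem_roots hne]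
    simp [Polynomial.IsRoot, hr.2]
  calc (Finset.univ.filter (fun r : F => r ^ p = r)).card
      ≤ (Polynomial.X ^ p - Polynomial.X : Polynomial F).roots.toFinset.card :=
        Finset.card_le_card hsub
    _ ≤ Multiset.card (Polynomial.X ^ p - Polynomial.X : Polynomial F).roots :=
        Multiset.toFinset_card_le _
    _ ≤ (Polynomial.X ^ p - Polynomial.X : Polynomial F).natDegree := Polynomial.card_roots' _
    _ = p := hdeg

/-- the field structure carried by the Frobenius kernel -/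
theorem pb_field_of_frobenius [Finite G] (p q : ℕ) [hp : Fact p.Prime] (A P : Subgroup G)
    (hPc : ∀ x ∈ P, ∀ z ∈ P, x * z = z * x) (hAc : ∀ a ∈ A, ∀ b ∈ A, a * b = b * a)
    (hAP : ∀ a ∈ A, ∀ x ∈ P, a * x * a⁻¹ ∈ P)
    (hfpf : ∀ a ∈ A, a ≠ 1 → ∀ x ∈ P, a * x = x * a → x = 1)
    (hPcard : Nat.card P = p ^ q) (hn : Nat.card A * (p - 1) = p ^ q - 1)
    (x₀ : G) (hx₀ : x₀ ∈ P) (hx₀1 : x₀ ≠ 1) :
    ∃ (F : Type u) (_ : Field F) (_ : Fintype F) (f ψ : G → F),
      Fintype.card F = p ^ q ∧ Set.BijOn f (P : Set G) Set.univ ∧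
      (∀ x ∈ P, ∀ z ∈ P, f (x * z) = f x + f z) ∧
      (∀ u ∈ A, ψ u ≠ 0 ∧ ∀ x ∈ P, f (u * x * u⁻¹) = ψ u * f x) ∧
      (∀ u ∈ A, ∀ v ∈ A, ψ (u * v) = ψ u * ψ v) ∧ Set.InjOn ψ (A : Set G) ∧ f x₀ = 1 := by
  classical
  letI : CommGroup P :=
    { (inferInstance : Group P) with mul_comm := fun x z => Subtype.ext (hPc x x.2 z z.2) }
  let cj : ∀ a, a ∈ A → AddMonoid.End (Additive P) := fun a ha =>
    MonoidHom.toAdditive
      { toFun := fun x => ⟨a * x * a⁻¹, hAP a ha x x.2⟩
        map_one' := by ext; simp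
        map_mul' := by intro x z; ext; simp [mul_assoc] }
  have hcj_apply : ∀ a ha (v : Additive P),
      (((cj a ha v).toMul : P) : G) = a * ((v.toMul : P) : G) * a⁻¹ := fun _ _ _ => rfl
  have hext : ∀ v w : Additive P, (((v.toMul : P) : G) = ((w.toMul : P) : G)) → v = w := by
    intro v w h
    exact Additive.toMul.injective (Subtype.ext h)
  let S : Set (AddMonoid.End (Additive P)) := {φ | ∃ a, ∃ ha : a ∈ A, φ = cj a ha}
  have hcjcongr : ∀ a b (ha : a ∈ A) (hb : b ∈ A), a = b → cj a ha = cj b hb := by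
    intro a b ha hb h; subst h; rfl
  have hcjmul : ∀ a (ha : a ∈ A) b (hb : b ∈ A), cj a ha * cj b hb = cj (a * b) (A.mul_mem ha hb) := by
    intro a ha b hb
    apply AddMonoidHom.ext
    intro v
    apply hext
    show a * (b * ((v.toMul : P) : G) * b⁻¹) * a⁻¹ = (a * b) * ((v.toMul : P) : G) * (a * b)⁻¹
    simp [mul_assoc]
  have hcomm : ∀ x ∈ S, ∀ y ∈ S, x * y = y * x := by
    rintro _ ⟨a, ha, rfl⟩ _ ⟨b, hb, rfl⟩
    rw [hcjmul a ha b hb, hcjmul b hb a ha]
    exact hcjcongr _ _ (A.mul_mem ha hb) (A.mul_mem hb ha) (hAc a ha b hb)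
  have hirr : ∀ W : AddSubgroup (Additive P), (∀ φ ∈ S, ∀ w ∈ W, φ w ∈ W) → W = ⊥ ∨ W = ⊤ := by
    intro W hinv
    have hmem : ∀ w : P, w ∈ AddSubgroup.toSubgroup' W ↔ Additive.ofMul w ∈ W := fun _ => Iff.rfl
    have := pb_irred p q hp.out A P hAP hfpf hPcard hn (AddSubgroup.toSubgroup' W) (by
      intro a ha w hw
      rw [hmem] at hw ⊢
      exact hinv (cj a ha) ⟨a, ha, rfl⟩ (Additive.ofMul w) hw)
    rcases this with h | h
    · left
      rw [AddSubgroup.eq_bot_iff_forall]
      intro w hw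
      have : w.toMul ∈ AddSubgroup.toSubgroup' W := (hmem _).mpr hw
      rw [h, Subgroup.mem_bot] at this
      exact Additive.toMul.injective this
    · right
      rw [AddSubgroup.eq_top_iff']
      intro w
      have : w.toMul ∈ AddSubgroup.toSubgroup' W := by rw [h]; trivial
      exact (hmem _).mp this
  let v₀ : Additive P := Additive.ofMul ⟨x₀, hx₀⟩
  have hv₀ : v₀ ≠ 0 := by
    intro h
    apply hx₀1
    have : ((v₀.toMul : P) : G) = (((0 : Additive P).toMul : P) : G) := by rw [h]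
    simpa [v₀] using this
  haveI : Finite (Additive P) := Finite.of_equiv P Additive.ofMul
  obtain ⟨F, instF, instFin, ev, ι, hbij, hadd, hmul, hone, hιmul⟩ :=
    pb_exists_field S hcomm hirr v₀ hv₀
  have hev0 : ev 0 = 0 := by
    have := hadd 0 0
    rw [add_zero] at this
    exact left_eq_add.mp this
  have hιcongr : ∀ φ φ' (h : φ = φ') (hφ : φ ∈ S) (hφ' : φ' ∈ S), ι φ hφ = ι φ' hφ' := by
    intro φ φ' h hφ hφ'; subst h; rfl
  let e : F ≃ Additive P := Equiv.ofBijective ev hbij
  let f : G → F := fun g => if h : g ∈ P then e.symm (Additive.ofMul ⟨g, h⟩) else 0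
  let ψ : G → F := fun g => if h : g ∈ A then ι (cj g h) ⟨g, h, rfl⟩ else 0
  have hfP : ∀ x (hx : x ∈ P), ev (f x) = Additive.ofMul ⟨x, hx⟩ := by
    intro x hx
    show ev (if h : x ∈ P then e.symm (Additive.ofMul ⟨x, h⟩) else 0) = _
    rw [dif_pos hx]
    exact e.apply_symm_apply _
  have hψA : ∀ u (hu : u ∈ A), ψ u = ι (cj u hu) ⟨u, hu, rfl⟩ := by
    intro u hu
    show (if h : u ∈ A then ι (cj u h) ⟨u, h, rfl⟩ else 0) = _
    rw [dif_pos hu]
  have hψv₀ : ∀ u (hu : u ∈ A), ev (ψ u) = cj u hu v₀ := by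
    intro u hu
    have := hmul (cj u hu) ⟨u, hu, rfl⟩ 1
    rw [mul_one, hone] at this
    rw [hψA u hu]; exact this
  refine ⟨F, instF, instFin, f, ψ, ?_, ⟨?_, ?_, ?_⟩, ?_, ?_, ?_, ?_, ?_⟩
  · rw [← Nat.card_eq_fintype_card, Nat.card_congr e, ← hPcard]
    exact Nat.card_congr Additive.toMul
  · intro x _; trivial
  · intro x hx z hz h
    have h1 := hfP x hx
    rw [h, hfP z hz] at h1
    have := congrArg (fun v : Additive P => ((v.toMul : P) : G)) h1
    simpa using this.symm
  · intro r _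
    refine ⟨(((ev r).toMul : P) : G), ((ev r).toMul : P).2, ?_⟩
    apply hbij.1
    rw [hfP _ ((ev r).toMul : P).2]
    rfl
  · intro x hx z hz
    apply hbij.1
    rw [hadd, hfP _ (P.mul_mem hx hz), hfP x hx, hfP z hz]
    rfl
  · intro u hu
    constructor
    · intro h0
      have h1 := hψv₀ u hu
      rw [h0, hev0] at h1
      apply hx₀1
      have h2 := hcj_apply u hu v₀
      rw [← h1] at h2
      have h3 : (1 : G) = u * x₀ * u⁻¹ := by simpa [v₀] using h2
      have := congrArg (fun z => u⁻¹ * z * u) h3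
      simpa [mul_assoc] using this.symm
    · intro x hx
      apply hbij.1
      rw [hfP _ (hAP u hu x hx), hψA u hu, hmul, hfP x hx]
      rfl
  · intro u hu v hv
    rw [hψA u hu, hψA v hv, hψA (u * v) (A.mul_mem hu hv)]
    have h1 : cj u hu * cj v hv ∈ S := ⟨u * v, A.mul_mem hu hv, hcjmul u hu v hv⟩
    rw [← hιmul (cj u hu) ⟨u, hu, rfl⟩ (cj v hv) ⟨v, hv, rfl⟩ h1 h1]
    exact hιcongr _ _ (hcjmul u hu v hv).symm _ _
  · intro u hu v hv h
    have h1 := hψv₀ u hu
    have h2 := hψv₀ v hv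
    rw [h, h2] at h1
    have h3 : v * x₀ * v⁻¹ = u * x₀ * u⁻¹ := by
      have := congrArg (fun w : Additive P => ((w.toMul : P) : G)) h1
      simpa [hcj_apply, v₀] using this
    by_contra hne
    have hvu : v⁻¹ * u ∈ A := A.mul_mem (A.inv_mem hv) hu
    have hvu1 : v⁻¹ * u ≠ 1 := by
      intro h4
      apply hne
      have := congrArg (fun z => v * z) h4
      simpa using this
    have hc : (v⁻¹ * u) * x₀ = x₀ * (v⁻¹ * u) := by
      have := congrArg (fun z => v⁻¹ * z * u) h3
      simp only [mul_assoc] at this ⊢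
      simpa [mul_assoc] using this.symm
    exact hx₀1 (hfpf _ hvu hvu1 x₀ hx₀ hc)
  · apply hbij.1
    rw [hfP x₀ hx₀, hone]

/-- From the `{p,q}`-parabolic configuration to the hypotheses of the field configuration theorem. -/
theorem pb_field_config [Finite G] (p q : ℕ) [hp : Fact p.Prime] [hq : Fact q.Prime]
    (hpar : IsParabolicType p q G) :
    ∃ (F : Type u) (_ : Field F) (_ : Fintype F) (P U Q : Subgroup G) (f ψ : G → F) (y : G),
      Nat.Coprime ((p ^ q - 1) / (p - 1)) (p - 1) ∧ q < p ∧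
      Fintype.card F = p ^ q ∧ Set.BijOn f (P : Set G) Set.univ ∧
      (∀ x ∈ P, ∀ z ∈ P, f (x * z) = f x + f z) ∧
      U ≤ Subgroup.normalizer (P : Set G) ∧
      (∀ u ∈ U, ψ u ≠ 0 ∧ ∀ x ∈ P, f (u * x * u⁻¹) = ψ u * f x) ∧
      (∀ u ∈ U, ∀ v ∈ U, ψ (u * v) = ψ u * ψ v) ∧ Set.InjOn ψ (U : Set G) ∧
      Nat.card U * (p - 1) = p ^ q - 1 ∧
      IsMulCommutative Q ∧ (Nat.card Q).Coprime p ∧
      (∀ x ∈ P, f x ^ p = f x → x ∈ Subgroup.normalizer (Q : Set G)) ∧
      y ∈ Q ∧ (∀ x ∈ P, f x ^ p = f x → y * x * y⁻¹ ∈ Subgroup.normalizer (U : Set G)) := by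
  classical
  obtain ⟨-, -, -, -, hqp, hcop, H, A, P, hAH, hPH, -, hFC, hK, hEA, hPcard, hAcyc, hAcard,
    P₀, hP₀P, hP₀card, Q, hQc, hQq, hP₀Q, y, hyQ, hyN⟩ := hpar
  obtain ⟨hAP, hfpf⟩ := pb_frob_basic H A P hAH hPH hFC hK
  have hPc : ∀ x ∈ P, ∀ z ∈ P, x * z = z * x := by
    intro x hx z hz
    have := hEA.1.is_comm.comm (⟨x, hx⟩ : P) ⟨z, hz⟩
    simpa using congrArg Subtype.val this
  have hAc : ∀ a ∈ A, ∀ b ∈ A, a * b = b * a := by
    intro a ha b hb
    letI := IsCyclic.commGroup (α := ↥A)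
    have := mul_comm (⟨a, ha⟩ : A) ⟨b, hb⟩
    simpa using congrArg Subtype.val this
  have hdvd : p - 1 ∣ p ^ q - 1 := Nat.sub_one_dvd_pow_sub_one p q
  have hn : Nat.card A * (p - 1) = p ^ q - 1 := by
    rw [hAcard]; exact Nat.div_mul_cancel hdvd
  -- a nonidentity element of P₀
  have hP₀ne : ∃ x₀ ∈ P₀, x₀ ≠ 1 := by
    by_contra h
    push Not at h
    have : P₀ = ⊥ := by
      rw [eq_bot_iff]; intro x hx; rw [Subgroup.mem_bot]; exact h x hx
    rw [this] at hP₀card
    simp at hP₀card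
    exact hp.out.one_lt.ne hP₀card
  obtain ⟨x₀, hx₀P₀, hx₀1⟩ := hP₀ne
  obtain ⟨F, instF, instFin, f, ψ, hF, hf, hfadd, hψ, hψmul, hψinj, hfx₀⟩ :=
    pb_field_of_frobenius p q A P hPc hAc hAP hfpf hPcard hn x₀ (hP₀P hx₀P₀) hx₀1
  -- characteristic p
  haveI : CharP F p := charP_of_card_eq_prime_pow hF
  -- every element of P₀ is a power of x₀
  have hzp : ∀ x ∈ P₀, ∃ k : ℕ, x = x₀ ^ k := by
    intro x hx
    have hprime : Nat.card (Subgroup.zpowers (⟨x₀, hx₀P₀⟩ : P₀)) = p := by
      have h1 : Nat.card (Subgroup.zpowers (⟨x₀, hx₀P₀⟩ : P₀)) ∣ p := by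
        rw [← hP₀card]; exact Subgroup.card_subgroup_dvd_card _
      rcases (Nat.dvd_prime hp.out).1 h1 with h | h
      · exfalso
        rw [Subgroup.card_eq_one, Subgroup.zpowers_eq_bot] at h
        exact hx₀1 (by simpa using congrArg Subtype.val h)
      · exact h
    have htop : Subgroup.zpowers (⟨x₀, hx₀P₀⟩ : P₀) = ⊤ :=
      Subgroup.eq_top_of_card_eq _ (by rw [hprime, hP₀card])
    have hmem : (⟨x, hx⟩ : P₀) ∈ Subgroup.zpowers (⟨x₀, hx₀P₀⟩ : P₀) := by rw [htop]; trivial
    haveI : Finite P₀ := Nat.finite_of_card_ne_zero (by rw [hP₀card]; exact hp.out.ne_zero)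
    obtain ⟨k, hk⟩ := (mem_powers_iff_mem_zpowers.mpr hmem)
    refine ⟨k, ?_⟩
    have := congrArg Subtype.val hk
    simpa using this.symm
  have hfpow : ∀ k : ℕ, f (x₀ ^ k) = (k : F) := by
    intro k
    induction k with
    | zero =>
      have h1 := hfadd 1 P.one_mem 1 P.one_mem
      rw [mul_one] at h1
      have : f 1 = 0 := left_eq_add.mp h1
      simpa using this
    | succ k ih =>
      rw [pow_succ, hfadd _ (P.pow_mem (hP₀P hx₀P₀) k) _ (hP₀P hx₀P₀), ih, hfx₀]
      push_cast; ring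
  have hfix : ∀ x ∈ P₀, f x ^ p = f x := by
    intro x hx
    obtain ⟨k, rfl⟩ := hzp x hx
    rw [hfpow]
    have := map_natCast (frobenius F p) k
    rwa [frobenius_def] at this
  -- the fixed points of Frobenius in `F` are exactly `f P₀`
  have hP₀fin : Finite P₀ := Nat.finite_of_card_ne_zero (by rw [hP₀card]; exact hp.out.ne_zero)
  have hkey : ∀ x ∈ P, f x ^ p = f x → x ∈ P₀ := by
    intro x hx hfx
    let T : Finset F := Finset.univ.filter (fun r : F => r ^ p = r)
    letI : Fintype P₀ := Fintype.ofFinite _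
    let I : Finset F := Finset.univ.image (fun z : P₀ => f (z : G))
    have hIT : I ⊆ T := by
      intro r hr
      obtain ⟨z, -, rfl⟩ := Finset.mem_image.mp hr
      exact Finset.mem_filter.mpr ⟨Finset.mem_univ _, hfix _ z.2⟩
    have hIcard : I.card = p := by
      rw [Finset.card_image_of_injective, Finset.card_univ, ← Nat.card_eq_fintype_card, hP₀card]
      intro z z' h
      exact Subtype.ext (hf.injOn (hP₀P z.2) (hP₀P z'.2) h)
    have hTcard : T.card ≤ p := pb_card_fixed_le p hp.out.one_lt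
    have hIeq : I = T := Finset.eq_of_subset_of_card_le hIT (by rw [hIcard]; exact hTcard)
    have hxT : f x ∈ T := Finset.mem_filter.mpr ⟨Finset.mem_univ _, hfx⟩
    rw [← hIeq] at hxT
    obtain ⟨z, -, hz⟩ := Finset.mem_image.mp hxT
    have := hf.injOn (hP₀P z.2) hx hz
    rw [← this]; exact z.2
  have hP₀N : ∀ x ∈ P₀, x ∈ Subgroup.normalizer (Q : Set G) := by
    intro x hx
    rw [Subgroup.mem_normalizer_iff]
    intro z
    constructor
    · intro hz; exact hP₀Q x hx z hz
    · intro hz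
      have := hP₀Q x⁻¹ (P₀.inv_mem hx) _ hz
      simpa [mul_assoc] using this
  refine ⟨F, instF, instFin, P, A, Q, f, ψ, y, hcop, hqp, hF, hf, hfadd, ?_, hψ, hψmul, hψinj, hn,
    hQc, ?_, ?_, hyQ, ?_⟩
  · intro a ha
    rw [Subgroup.mem_normalizer_iff]
    intro z
    constructor
    · intro hz; exact hAP a ha z hz
    · intro hz
      have := hAP a⁻¹ (A.inv_mem ha) _ hz
      simpa [mul_assoc] using this
  · obtain ⟨k, hk⟩ := IsPGroup.exists_card_eq hQq
    rw [hk]
    apply Nat.Coprime.pow_left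
    rw [Nat.coprime_primes hq.out hp.out]
    omega
  · intro x hx hfx
    exact hP₀N x (hkey x hx hfx)
  · intro x hx hfx
    apply hyN
    refine ⟨x, hkey x hx hfx, ?_⟩
    simp [MulAut.conj_apply]

end Config

end Cfsg.Agent.Lib.Helper31.ParaBridge
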