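import Mathlib
import Cfsg.Prelude.Def_Solvable
import Cfsg.Agent.Lib.Helper02.PStab2

set_option autoImplicit false

/-!
# `p`-stability modulo the Frattini subgroup, and conjugation on cyclic `p`-subgroups

* `conj_mul_inv_eq_pow_p`: a `p`-element normalizing a cyclic subgroup `C` moves each `p`-element
  `c ∈ C` by a `p`-th power of a power of `c`.
* `exists_normal_pGroup_of_quad_mod_frattini`: abstract `p`-stability (after helper02's
  `exists_normal_pGroup_of_quadG`), with the action only required to have a `p`-group as kernel and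
  to be quadratic on the Frattini quotient.
-/

namespace Cfsg.Agent.Lib.Helper31

open Cfsg

/-- A `p`-element `a` normalizing a cyclic subgroup `C`: for a `p`-element `c ∈ C` the commutator
`a c a⁻¹ c⁻¹` is the `p`-th power of a power of `c`. -/
theorem conj_mul_inv_eq_pow_p {G : Type*} [Group G] {p : ℕ} [Fact p.Prime] (C : Subgroup G)
    [IsCyclic C] (a : G) (ha : a ∈ Subgroup.normalizer (C : Set G)) (e : ℕ)
    (hae : a ^ (p ^ e) = 1) (c : G) (hc : c ∈ C) (j : ℕ) (hcj : c ^ (p ^ j) = 1) :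
    ∃ m : ℤ, a * c * a⁻¹ * c⁻¹ = (c ^ m) ^ p := by
  have hp : p.Prime := Fact.out
  obtain ⟨⟨g, hgC⟩, hg⟩ := IsCyclic.exists_generator (α := C)
  have hgen : ∀ y ∈ C, ∃ i : ℤ, g ^ i = y := by
    intro y hy
    obtain ⟨i, hi⟩ := Subgroup.mem_zpowers_iff.mp (hg ⟨y, hy⟩)
    refine ⟨i, ?_⟩
    have := congrArg Subtype.val hi
    simpa using this
  have hagC : a * g * a⁻¹ ∈ C := (Subgroup.mem_normalizer_iff.mp ha g).mp hgC
  obtain ⟨k, hk⟩ := hgen _ hagC
  obtain ⟨i, hi⟩ := hgen c hc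
  have hck : a * c * a⁻¹ = c ^ k := by
    rw [← hi, ← conj_zpow, ← hk, ← zpow_mul, ← zpow_mul, mul_comm]
  have hpow : ∀ n : ℕ, a ^ n * c * (a ^ n)⁻¹ = c ^ (k ^ n) := by
    intro n
    induction n with
    | zero => simp
    | succ n ih =>
      have h1 : a ^ (n + 1) * c * (a ^ (n + 1))⁻¹ = a * (a ^ n * c * (a ^ n)⁻¹) * a⁻¹ := by
        rw [pow_succ']; group
      rw [h1, ih, ← conj_zpow, hck, ← zpow_mul, pow_succ']
  have h2 := hpow (p ^ e)
  rw [hae, one_mul, inv_one, mul_one] at h2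
  have h3 : c ^ (k ^ (p ^ e) - 1) = 1 := by
    rw [zpow_sub, zpow_one, ← h2, mul_inv_cancel]
  have h4 : (orderOf c : ℤ) ∣ k ^ (p ^ e) - 1 := orderOf_dvd_iff_zpow_eq_one.mpr h3
  obtain ⟨l, -, hl⟩ := (Nat.dvd_prime_pow hp).mp (orderOf_dvd_of_pow_eq_one hcj)
  rcases Nat.eq_zero_or_pos l with h0 | h0
  · rw [h0, pow_zero, orderOf_eq_one_iff] at hl
    refine ⟨0, ?_⟩
    rw [hl]; simp
  · have h5 : (p : ℤ) ∣ k ^ (p ^ e) - 1 := by
      refine dvd_trans ?_ h4
      rw [hl]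
      exact_mod_cast dvd_pow_self p h0.ne'
    have h6 : ((1 : ℤ) : ZMod p) = ((k ^ (p ^ e) : ℤ) : ZMod p) :=
      (ZMod.intCast_eq_intCast_iff_dvd_sub 1 (k ^ (p ^ e)) p).mpr h5
    rw [Int.cast_pow, ZMod.pow_card_pow] at h6
    have h7 : (p : ℤ) ∣ k - 1 := (ZMod.intCast_eq_intCast_iff_dvd_sub 1 k p).mp h6
    obtain ⟨m, hm⟩ := h7
    refine ⟨m, ?_⟩
    rw [hck, ← zpow_natCast, ← zpow_mul, mul_comm, ← hm, zpow_sub, zpow_one]

open Cfsg.Agent.Lib.Helper02.PStab in
/-- **Abstract `p`-stability modulo Frattini.** `X` finite with abelian Sylow 2-subgroups acting on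
a finite `p`-group `P` (`p` odd) with a `p`-group as kernel; every element acting quadratically on
`P / Φ(P)` lies in a normal `p`-subgroup of `X`. -/
theorem exists_normal_pGroup_of_quad_mod_frattini {X P : Type*} [Group X] [Group P] [Finite X]
    [Finite P] {p : ℕ} [Fact p.Prime] (hp2 : p ≠ 2) (hP : IsPGroup p P) (φ : X →* MulAut P)
    (hker : IsPGroup p φ.ker) (a : X)
    (hq : ∀ x : P, φ a (φ a x * x⁻¹) * (φ a x * x⁻¹)⁻¹ ∈ frattini P)
    (hT : ∀ T : Sylow 2 X, IsMulCommutative T) :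
    ∃ N : Subgroup X, N.Normal ∧ IsPGroup p N ∧ a ∈ N := by
  letI : CommGroup (P ⧸ frattini P) :=
    { (inferInstance : Group (P ⧸ frattini P)) with
      mul_comm := Cfsg.Agent.Lib.Helper75.frattini_quotient_comm hP }
  have hVexp : ∀ v : P ⧸ frattini P, v ^ p = 1 := Cfsg.Agent.Lib.Helper75.frattini_quotient_pow hP
  set φb : X →* MulAut (P ⧸ frattini P) := (Cfsg.Agent.S4208.rho P).comp φ with hφb
  set Y : Subgroup X := φb.ker with hY
  -- Y is a p-group
  have hYp : ∀ y ∈ Y, ∃ k : ℕ, y ^ (p ^ k) = 1 := by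
    intro y hy
    have h1 : φ y ∈ (Cfsg.Agent.S4208.rho P).ker := by
      rw [MonoidHom.mem_ker]
      exact hy
    obtain ⟨k, hk⟩ := Cfsg.Agent.Lib.Helper75.isPGroup_ker_rho hP ⟨φ y, h1⟩
    have h2 : y ^ (p ^ k) ∈ φ.ker := by
      rw [MonoidHom.mem_ker, map_pow]
      exact congrArg Subtype.val hk
    obtain ⟨l, hl⟩ := hker ⟨_, h2⟩
    refine ⟨k + l, ?_⟩
    rw [pow_add, pow_mul]
    exact congrArg Subtype.val hl
  -- the faithful action of X/Y on the Frattini quotient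
  set φ' : X ⧸ Y →* MulAut (P ⧸ frattini P) := QuotientGroup.kerLift φb with hφ'
  have hφ'inj : Function.Injective φ' := QuotientGroup.kerLift_injective φb
  have hquad : Quad φ' (QuotientGroup.mk a) := by
    intro v
    obtain ⟨x, rfl⟩ := QuotientGroup.mk_surjective v
    have e : ∀ z : P, φ' (QuotientGroup.mk a) (QuotientGroup.mk z) =
        (QuotientGroup.mk (φ a z) : P ⧸ frattini P) := by
      intro z
      rw [hφ', QuotientGroup.kerLift_mk]
      rfl
    rw [e, div_eq_mul_inv, ← QuotientGroup.mk_inv, ← QuotientGroup.mk_mul, e,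
      QuotientGroup.eq_iff_div_mem, div_eq_mul_inv]
    exact hq x
  by_contra hcon
  push Not at hcon
  have ha' : ∀ N : Subgroup (X ⧸ Y), N.Normal → IsPGroup p N → (QuotientGroup.mk a : X ⧸ Y) ∉ N := by
    intro N hN hNp haN
    haveI := hN
    apply hcon (N.comap (QuotientGroup.mk' Y)) inferInstance
    · intro n
      obtain ⟨k, hk⟩ := hNp ⟨QuotientGroup.mk (n : X), n.2⟩
      have h1 : (n : X) ^ (p ^ k) ∈ Y := by
        rw [← QuotientGroup.eq_one_iff, QuotientGroup.mk_pow]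
        exact congrArg Subtype.val hk
      obtain ⟨l, hl⟩ := hYp _ h1
      refine ⟨k + l, Subtype.ext ?_⟩
      rw [Subgroup.coe_pow, pow_add, pow_mul, hl]
      rfl
    · exact haN
  obtain ⟨T₀⟩ : Nonempty (Sylow 2 X) := inferInstance
  have hT₀ : ∀ x ∈ T₀, ∀ y ∈ T₀, x * y = y * x := fun x hx y hy =>
    congrArg Subtype.val ((hT T₀).is_comm.comm ⟨x, hx⟩ ⟨y, hy⟩)
  obtain ⟨T₁⟩ : Nonempty (Sylow 2 (X ⧸ Y)) := inferInstance
  have hT₁ := sylow_comm_of_surjective (QuotientGroup.mk' Y) (QuotientGroup.mk'_surjective Y) T₀ hT₀ T₁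
  exact sylow_two_not_comm_of_quad hp2 hVexp φ' hφ'inj (QuotientGroup.mk a) hquad ha' T₁
    ⟨⟨fun x y => Subtype.ext (hT₁ x x.2 y y.2)⟩⟩

end Cfsg.Agent.Lib.Helper31
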