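import Cfsg.Agent.S1393
import Cfsg.Agent.S1395
import Cfsg.Agent.S1396
import Cfsg.Agent.Lib.Helper55.FitUniq2

/-!
# The `SCN_3` setting of Bender–Glauberman, Lemma 9.5: basic facts

`A` is a self-centralizing normal subgroup of rank at least three of the Sylow `p`-subgroup `P` of the
minimal simple group `G` of odd order.  We record: `A` is an abelian `p`-group satisfying the transitivity
hypothesis, `K = O_{p'}(C_G(A))` is transitive on the maximal `A`-invariant `q`-subgroups, and a maximal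
subgroup containing `C_G(A)` and the normalizer of a maximal `A`-invariant `q`-subgroup contains the
normalizer of every `p`-subgroup in which `A` is normal.
-/

set_option autoImplicit false
set_option linter.unusedSectionVars false

namespace Cfsg.Agent.Lib.Helper31.Scn3

open Cfsg Cfsg.Agent.Lib.Helper31 Cfsg.Agent.Lib.Helper55

variable {G : Type*} [Group G] [Finite G] {p : ℕ} [Fact p.Prime]

/-- the standing hypotheses of Lemma 9.5 -/
structure Hyp (p : ℕ) [Fact p.Prime] (P : Sylow p G) (A : Subgroup G) : Prop where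
  hG : IsMinSimpleOddOrder G
  scn : IsSCN (P : Subgroup G) A
  r3 : ¬ PRankLE p 2 ↥A

variable {P : Sylow p G} {A : Subgroup G}

theorem Hyp.le_centralizer (h : Hyp p P A) : A ≤ Subgroup.centralizer (A : Set G) := by
  intro a ha
  have h1 : a ∈ (P : Subgroup G) ⊓ Subgroup.centralizer (A : Set G) := by rw [h.scn.2.2]; exact ha
  exact h1.2

theorem Hyp.comm (h : Hyp p P A) : ∀ a ∈ A, ∀ b ∈ A, a * b = b * a := by
  intro a ha b hb
  have := h.le_centralizer ha
  rw [Subgroup.mem_centralizer_iff] at this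
  exact (this b hb).symm

theorem Hyp.isComm (h : Hyp p P A) : IsMulCommutative A :=
  ⟨⟨fun a b => Subtype.ext (h.comm a a.2 b b.2)⟩⟩

theorem Hyp.isPGroup (h : Hyp p P A) : IsPGroup p A := P.isPGroup'.to_le h.scn.1

theorem Hyp.ne_bot (h : Hyp p P A) : A ≠ ⊥ := by
  rintro rfl
  apply h.r3
  intro E _ _
  have h1 : Nat.card E = 1 := by
    have : Subsingleton (⊥ : Subgroup G) := inferInstance
    have : Subsingleton E := inferInstance
    exact Nat.card_unique
  rw [h1]
  exact Nat.one_le_pow _ _ (Fact.out : p.Prime).pos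

theorem Hyp.p_dvd_card (h : Hyp p P A) : p ∣ Nat.card A :=
  ms_prime_dvd_card h.hG h.isPGroup h.ne_bot

theorem Hyp.ne_top (h : Hyp p P A) : A ≠ ⊤ := ms_pgroup_ne_top h.hG h.isPGroup

theorem Hyp.p_ne_two (h : Hyp p P A) : p ≠ 2 := ms_prime_ne_two h.hG h.isPGroup h.ne_bot

/-- a prime does not divide `|A|` iff it is different from `p` -/
theorem Hyp.not_dvd_iff (h : Hyp p P A) {q : ℕ} (hq : q.Prime) : ¬ q ∣ Nat.card A ↔ q ≠ p := by
  have hp : p.Prime := Fact.out
  obtain ⟨k, hk⟩ := IsPGroup.iff_card.mp h.isPGroup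
  constructor
  · rintro h1 rfl
    exact h1 h.p_dvd_card
  · intro hne hdvd
    rw [hk] at hdvd
    exact hne ((Nat.prime_dvd_prime_iff_eq hq hp).mp (hq.dvd_of_dvd_pow hdvd))

theorem Hyp.not_pRankLE_one (h : Hyp p P A) : ¬ PRankLE p 1 ↥A := by
  intro h1
  apply h.r3
  intro E hEc hEp
  refine (h1 E hEc hEp).trans ?_
  exact Nat.pow_le_pow_right (Fact.out : p.Prime).pos (by norm_num)

theorem Hyp.transHyp (h : Hyp p P A) : TransitivityHypothesis A := by
  have hpG : p ∣ Nat.card G := h.p_dvd_card.trans (Subgroup.card_subgroup_dvd_card A)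
  exact Cfsg.Agent.S1396.result h.hG p hpG A h.isPGroup h.isComm
    (Or.inr ⟨P, h.scn, h.not_pRankLE_one⟩)

theorem Hyp.inf_centralizer (h : Hyp p P A) : A ⊓ Subgroup.centralizer (A : Set G) = A :=
  inf_eq_left.mpr h.le_centralizer

/-- transitivity of `K = O_{p'}(C_G(A))` on the maximal `A`-invariant `q`-subgroups -/
theorem Hyp.trans (h : Hyp p P A) {q : ℕ} (hq : q.Prime) (hqp : q ≠ p) :
    ∀ Q₁ ∈ maxInvSubgroups ⊤ A {q}, ∀ Q₂ ∈ maxInvSubgroups ⊤ A {q},
      ∃ k ∈ KK A, Q₂ = Q₁.map (MulAut.conj k).toMonoidHom := by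
  have hZ : ¬ RankLE 2 ↥(A ⊓ Subgroup.centralizer (A : Set G)) := by
    rw [h.inf_centralizer]
    intro h1
    exact h.r3 (h1 p Fact.out)
  exact Cfsg.Agent.S1393.result h.hG A h.transHyp hZ q hq ((h.not_dvd_iff hq).mpr hqp)

/-- the normalizer of a conjugate -/
theorem normalizer_map_conj_le {M Q : Subgroup G} {k : G} (hk : k ∈ M)
    (hQ : Subgroup.normalizer (Q : Set G) ≤ M) :
    Subgroup.normalizer ((Q.map (MulAut.conj k).toMonoidHom : Subgroup G) : Set G) ≤ M := by
  rw [← Subgroup.map_equiv_normalizer_eq]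
  rintro _ ⟨n, hn, rfl⟩
  show k * n * k⁻¹ ∈ M
  exact M.mul_mem (M.mul_mem hk (hQ hn)) (M.inv_mem hk)

/-- **Step 1, consequence**: if the maximal subgroup `M` contains `C_G(A)` and the normalizer of some
maximal `A`-invariant `q`-subgroup, then it contains the normalizer of every `p`-subgroup `S` in which
`A` is normal. -/
theorem Hyp.normalizer_le (h : Hyp p P A) {M : Subgroup G}
    (hCM : Subgroup.centralizer (A : Set G) ≤ M) {q : ℕ} (hq : q.Prime) (hqp : q ≠ p)
    {Q : Subgroup G} (hQ : Q ∈ maxInvSubgroups ⊤ A {q})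
    (hNQ : Subgroup.normalizer (Q : Set G) ≤ M)
    {S : Subgroup G} (hSp : IsPGroup p S) (hAS : A ≤ S)
    (hSA : S ≤ Subgroup.normalizer (A : Set G)) :
    Subgroup.normalizer (S : Set G) ≤ M := by
  have hp : p.Prime := Fact.out
  have hqA : ¬ q ∣ Nat.card A := (h.not_dvd_iff hq).mpr hqp
  have hStop : S ≠ ⊤ := ms_pgroup_ne_top h.hG hSp
  have hSπ : ∀ r : ℕ, r.Prime → r ∣ Nat.card S → r ∣ Nat.card A := by
    intro r hr hrS
    obtain ⟨k, hk⟩ := IsPGroup.iff_card.mp hSp
    rw [hk] at hrS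
    have : r = p := (Nat.prime_dvd_prime_iff_eq hr hp).mp (hr.dvd_of_dvd_pow hrS)
    rw [this]; exact h.p_dvd_card
  have hn : (A.subgroupOf S).Normal := by
    have h1 : Subgroup.normalizer ((A.subgroupOf S : Subgroup S) : Set S) = ⊤ := by
      rw [← Subgroup.subgroupOf_normalizer_eq hAS]
      exact Subgroup.subgroupOf_eq_top.mpr hSA
    exact Subgroup.normalizer_eq_top_iff.mp h1
  obtain ⟨_, _, hc, hd⟩ := Cfsg.Agent.S1395.result h.hG A h.transHyp q hq hqA S hStop hSπ hAS
    hn.isSubnormal (h.trans hq hqp)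
  obtain ⟨Q', hQ', -⟩ := exists_maxInv_ge S {q} ⊥ (bot_mem_invSubgroups S {q})
  have hQ'A : Q' ∈ maxInvSubgroups ⊤ A {q} := hc hQ'
  obtain ⟨k, hk, rfl⟩ := h.trans hq hqp Q hQ Q' hQ'A
  have hkM : k ∈ M := hCM (KK_le_centralizer A hk)
  rw [(hd _ hQ').2]
  apply sup_le
  · intro x hx
    have h1 : x ∈ Subgroup.centralizer (S : Set G) := piCoreOf_le _ _ hx
    exact hCM (Subgroup.centralizer_le hAS h1)
  · exact inf_le_right.trans (normalizer_map_conj_le hkM hNQ)

end Cfsg.Agent.Lib.Helper31.Scn3
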