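import Cfsg.Agent.Lib.Helper31.Scn3Types
import Cfsg.Agent.Lib.Helper26.Rank2Amb
import Cfsg.Agent.S1324
import Cfsg.Agent.S1398
import Cfsg.Agent.S1399

/-!
# Bender–Glauberman, Lemma 9.5: `A ∈ SCN_3(P)` lies in a unique maximal subgroup

Let `P₀ = P ∩ N_G(P)'` (nontrivial by Burnside's transfer theorem).  Assume `A` lies in two maximal
subgroups; then so does `C_G(A)`.  For a maximal subgroup `M ⊇ C_G(A)` we show that `N_G(P₀)` contains a
subgroup lying in no other maximal subgroup: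
* if `r(F(M)) ≤ 2` then `P₀ ≤ M' ≤ F(M)`, so `P₀ ≤ O_p(M)` centralizes `O_{p'}(M)`, and `A O_{p'}(M)` lies
  in `M` only;
* if `r_s(F(M)) ≥ 3` then `P₀` centralizes `O_s(M)`: otherwise coprime generation gives a noncyclic
  `B ≤ A` with `C_{O_s(M)}(B)` not centralized by `P₀`; every other maximal subgroup `H ⊇ C_G(b)`, `b ∈ B`,
  meets `O_s(M)` in an `(M ∩ H)`-invariant subgroup of rank at most two, which `P₀ ≤ (M ∩ H)'` must
  centralize; hence `C_G(b) ≤ M` for all `b ∈ B^#` and `B`, hence `A`, is a uniqueness subgroup.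
As `N_G(P₀)` is proper, `C_G(A)` lies in a unique maximal subgroup, a contradiction.
-/

set_option autoImplicit false
set_option linter.unusedSectionVars false

namespace Cfsg.Agent.Lib.Helper31.Scn3

open Cfsg Cfsg.Agent.Lib.Helper31 Cfsg.Agent.Lib.Helper55 Cfsg.Agent.Lib.Helper54
open scoped commutatorElement

variable {G : Type*} [Group G] [Finite G] {p : ℕ} [Fact p.Prime]

/-- `P₀ = P ∩ N_G(P)'` -/
def P0 (P : Sylow p G) : Subgroup G :=
  (P : Subgroup G) ⊓ ⁅Subgroup.normalizer ((P : Subgroup G) : Set G),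
    Subgroup.normalizer ((P : Subgroup G) : Set G)⁆

theorem P0_le (P : Sylow p G) : P0 P ≤ (P : Subgroup G) := inf_le_left

theorem P0_isPGroup (P : Sylow p G) : IsPGroup p (P0 P) := P.isPGroup'.to_le (P0_le P)

theorem normalizer_le_normalizer_P0 (P : Sylow p G) :
    Subgroup.normalizer ((P : Subgroup G) : Set G) ≤ Subgroup.normalizer ((P0 P : Subgroup G) : Set G) := by
  intro n hn
  have key : ∀ m ∈ Subgroup.normalizer ((P : Subgroup G) : Set G), ∀ x ∈ P0 P, m * x * m⁻¹ ∈ P0 P := by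
    intro m hm x hx
    refine ⟨(Subgroup.mem_normalizer_iff.mp hm x).mp hx.1, ?_⟩
    have h1 : ⁅m, x⁆ ∈ ⁅Subgroup.normalizer ((P : Subgroup G) : Set G),
        Subgroup.normalizer ((P : Subgroup G) : Set G)⁆ :=
      Subgroup.commutator_mem_commutator hm (Subgroup.le_normalizer hx.1)
    have h2 : m * x * m⁻¹ = ⁅m, x⁆ * x := by rw [commutatorElement_def]; group
    rw [h2]
    exact Subgroup.mul_mem _ h1 hx.2
  rw [Subgroup.mem_normalizer_iff]
  intro x
  constructor
  · exact key n hn x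
  · intro hx
    have := key n⁻¹ (Subgroup.inv_mem _ hn) _ hx
    simpa [mul_assoc] using this

/-- Burnside: `P₀ ≠ 1` -/
theorem P0_ne_bot (hG : IsMinSimpleOddOrder G) (P : Sylow p G) (hP1 : (P : Subgroup G) ≠ ⊥) :
    P0 P ≠ ⊥ := by
  have : IsSimpleGroup G := hG.2.1
  intro h0
  have hNC : Subgroup.normalizer ((P : Subgroup G) : Set G) ≤
      Subgroup.centralizer ((P : Subgroup G) : Set G) := by
    intro n hn
    rw [Subgroup.mem_centralizer_iff]
    intro x hx
    have h1 : ⁅n, x⁆ ∈ P0 P := by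
      refine ⟨?_, Subgroup.commutator_mem_commutator hn (Subgroup.le_normalizer hx)⟩
      rw [commutatorElement_def]
      exact Subgroup.mul_mem _ ((Subgroup.mem_normalizer_iff.mp hn x).mp hx) (Subgroup.inv_mem _ hx)
    rw [h0, Subgroup.mem_bot, commutatorElement_def] at h1
    calc x * n = (n * x * n⁻¹ * x⁻¹)⁻¹ * (n * x) := by group
      _ = n * x := by rw [h1, inv_one, one_mul]
  have hcompl := MonoidHom.ker_transferSylow_isComplement' P hNC
  rcases (MonoidHom.normal_ker (MonoidHom.transferSylow P hNC)).eq_bot_or_eq_top with h | h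
  · rw [h, Subgroup.isComplement'_bot_left] at hcompl
    exact ms_pgroup_ne_top hG P.isPGroup' hcompl
  · rw [h, Subgroup.isComplement'_top_left] at hcompl
    exact hP1 hcompl

/-- `M ∩ H` normalizes `S ∩ H` when `M` normalizes `S` -/
theorem inf_le_normalizer_inf {M H S : Subgroup G} (hMS : M ≤ Subgroup.normalizer (S : Set G)) :
    M ⊓ H ≤ Subgroup.normalizer ((S ⊓ H : Subgroup G) : Set G) := by
  intro g hg
  rw [Subgroup.mem_normalizer_iff]
  intro x
  have h1 := Subgroup.mem_normalizer_iff.mp (hMS hg.1) x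
  constructor
  · rintro ⟨hxS, hxH⟩
    exact ⟨h1.mp hxS, H.mul_mem (H.mul_mem hg.2 hxH) (H.inv_mem hg.2)⟩
  · rintro ⟨hxS, hxH⟩
    refine ⟨h1.mpr hxS, ?_⟩
    have : x = g⁻¹ * (g * x * g⁻¹) * g := by group
    rw [this]
    exact H.mul_mem (H.mul_mem (H.inv_mem hg.2) hxH) hg.2

variable {P : Sylow p G} {A : Subgroup G}

theorem Hyp.not_rankLE_one (h : Hyp p P A) : ¬ RankLE 1 ↥A := fun h1 =>
  h.not_pRankLE_one (h1 p Fact.out)

theorem Hyp.sylow_ne_bot (h : Hyp p P A) : (P : Subgroup G) ≠ ⊥ := fun h1 =>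
  h.ne_bot (eq_bot_iff.mpr (h1 ▸ h.scn.1))

/-- `P₀ ≤ (M ∩ H)'` for two maximal subgroups containing `C_G(A)` -/
theorem Hyp.P0_le_commutator (h : Hyp p P A) (hnu : ¬ InUniqueMaximal A) {M H : Subgroup G}
    (hM : IsCoatom M) (hCM : Subgroup.centralizer (A : Set G) ≤ M)
    (hH : IsCoatom H) (hCH : Subgroup.centralizer (A : Set G) ≤ H) :
    P0 P ≤ ⁅M ⊓ H, M ⊓ H⁆ := by
  have h1 : Subgroup.normalizer ((P : Subgroup G) : Set G) ≤ M ⊓ H :=
    le_inf (h.normalizer_sylow_le hnu hM hCM) (h.normalizer_sylow_le hnu hH hCH)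
  exact inf_le_right.trans (Subgroup.commutator_mono h1 h1)

/-- **the rank-two step**: if `M ≠ H` are maximal subgroups containing `C_G(A)` and `r_s(F(M)) ≥ 3`,
then `P₀` centralizes `O_s(M) ∩ H`. -/
theorem Hyp.inf_le_centralizer_P0 (h : Hyp p P A) (hnu : ¬ InUniqueMaximal A) {M H : Subgroup G}
    (hM : IsCoatom M) (hCM : Subgroup.centralizer (A : Set G) ≤ M)
    (hH : IsCoatom H) (hCH : Subgroup.centralizer (A : Set G) ≤ H) (hne : H ≠ M)
    {s : ℕ} [Fact s.Prime] (hF : ¬ PRankLE s 2 ↥(fittingOf M)) :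
    pCoreOf s M ⊓ H ≤ Subgroup.centralizer ((P0 P : Subgroup G) : Set G) := by
  have hp : p.Prime := Fact.out
  have hs : s.Prime := Fact.out
  have hsp : s ≠ p := by
    rintro rfl
    exact hF (h.fitting_pRankLE hnu hM)
  have hS3 := not_pRankLE_pCoreOf hF
  have hSs : IsPGroup s (pCoreOf s M) := isPGroup_pCoreOf s M
  have hS1 : pCoreOf s M ≠ ⊥ := by
    intro h1
    apply hS3
    rw [h1]
    intro E _ _
    have h2 : Nat.card E = 1 := by
      have : Subsingleton (⊥ : Subgroup G) := inferInstance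
      have : Subsingleton E := inferInstance
      exact Nat.card_unique
    rw [h2]
    exact Nat.one_le_pow _ _ hs.pos
  have hs2 : s ≠ 2 := ms_prime_ne_two h.hG hSs hS1
  set X : Subgroup G := pCoreOf s M ⊓ H with hXdef
  have hXs : IsPGroup s X := hSs.to_le inf_le_left
  have hX2 : PRankLE s 2 ↥X := by
    by_contra hX3
    exact hne (eq_of_rank3 h.hG hM hF hX3 hH hM inf_le_right (inf_le_left.trans (pCoreOf_le s M)))
  have hIX : M ⊓ H ≤ Subgroup.normalizer (X : Set G) :=
    inf_le_normalizer_inf (le_normalizer_pCoreOf s M)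
  have hItop : M ⊓ H ≠ ⊤ := fun h1 => hM.1 (top_le_iff.mp (h1 ▸ inf_le_left))
  have hamb := (Cfsg.Agent.Lib.Helper26.Rank2Amb.ambient hs2 X (M ⊓ H) hXs hX2 hIX
    (ms_solvable h.hG hItop) (ms_odd h.hG _)).1
  have hP0 := h.P0_le_commutator hnu hM hCM hH hCH
  -- every element of `P₀` centralizes `X`
  have key : P0 P ≤ Subgroup.centralizer (X : Set G) := by
    intro c hc
    obtain ⟨k, hk⟩ := hamb c (hP0 hc)
    obtain ⟨j, hj⟩ := (P0_isPGroup P) ⟨c, hc⟩
    have hcj : c ^ (p ^ j) = 1 := by simpa using congrArg Subtype.val hj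
    have hord : orderOf c ∣ p ^ j := orderOf_dvd_of_pow_eq_one hcj
    have hcop : (s ^ k).Coprime (orderOf c) := by
      apply Nat.Coprime.coprime_dvd_right hord
      exact Nat.Coprime.pow _ _ ((Nat.coprime_primes hs hp).mpr hsp)
    obtain ⟨m, hm⟩ := exists_pow_eq_self_of_coprime hcop
    rw [← hm]
    exact Subgroup.pow_mem _ hk m
  exact le_centralizer_symm key

/-- **type (a)**: `P₀` centralizes `O_s(M)` when `r_s(F(M)) ≥ 3`. -/
theorem Hyp.P0_le_centralizer_pCoreOf (h : Hyp p P A) (hnu : ¬ InUniqueMaximal A) {M : Subgroup G}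
    (hM : IsCoatom M) (hCM : Subgroup.centralizer (A : Set G) ≤ M)
    {s : ℕ} [Fact s.Prime] (hF : ¬ PRankLE s 2 ↥(fittingOf M)) :
    P0 P ≤ Subgroup.centralizer ((pCoreOf s M : Subgroup G) : Set G) := by
  have hp : p.Prime := Fact.out
  have hs : s.Prime := Fact.out
  have hsp : s ≠ p := by
    rintro rfl
    exact hF (h.fitting_pRankLE hnu hM)
  apply le_centralizer_symm
  by_contra hcon
  -- an elementary abelian subgroup of `A` of rank three
  obtain ⟨E, hEA, hEc, hEe, hE3⟩ := not_pRankLE_sub_iff.mp h.r3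
  have hEea : IsElementaryAbelian p E := ⟨⟨⟨fun a b => Subtype.ext (hEc a a.2 b b.2)⟩⟩, hEe⟩
  have hSs : IsPGroup s (pCoreOf s M) := isPGroup_pCoreOf s M
  have hpS : ¬ p ∣ Nat.card (pCoreOf s M) := by
    intro hdvd
    obtain ⟨k, hk⟩ := IsPGroup.iff_card.mp hSs
    rw [hk] at hdvd
    exact hsp ((Nat.prime_dvd_prime_iff_eq hp hs).mp (hp.dvd_of_dvd_pow hdvd)).symm
  have hAM : A ≤ M := h.le_centralizer.trans hCM
  have hgen := Cfsg.Agent.S1324.result p E (pCoreOf s M) hEea hE3.le hpS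
    (hEA.trans (hAM.trans (le_normalizer_pCoreOf s M)))
  -- some `B` of index at most `p` in `E` has `C_{O_s(M)}(B)` not centralized by `P₀`
  have hex : ∃ B : Subgroup G, B ≤ E ∧ B.relIndex E ≤ p ∧
      ¬ pCoreOf s M ⊓ Subgroup.centralizer (B : Set G) ≤
        Subgroup.centralizer ((P0 P : Subgroup G) : Set G) := by
    by_contra hall
    push Not at hall
    apply hcon
    rw [hgen]
    apply iSup_le
    rintro ⟨B, hBE, hBidx⟩
    exact hall B hBE hBidx
  obtain ⟨B, hBE, hBidx, hBn⟩ := hex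
  have hBA : B ≤ A := hBE.trans hEA
  -- `B` is noncyclic elementary abelian
  have hBcard : p < Nat.card B := by
    have h1 : B.relIndex E * Nat.card B = Nat.card E := by
      have h0 := Subgroup.card_mul_index (B.subgroupOf E)
      rw [Nat.card_congr (Subgroup.subgroupOfEquivOfLe hBE).toEquiv] at h0
      rw [← h0, mul_comm]
      rfl
    have h2 : p * p < B.relIndex E * Nat.card B := by rw [h1]; rw [sq] at hE3; exact hE3
    by_contra hle
    push Not at hle
    have : B.relIndex E * Nat.card B ≤ p * p := Nat.mul_le_mul hBidx hle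
    omega
  have hBe : IsElementaryAbelian p B :=
    ⟨⟨⟨fun a b => Subtype.ext (hEc a (hBE a.2) b (hBE b.2))⟩⟩, fun a ha => hEe a (hBE ha)⟩
  have hBnc : ¬ IsCyclic B := not_isCyclic_of_exp p hp B hBe.2 hBcard
  -- `C_G(b) ≤ M` for all `b ∈ B^#`
  have hcent : ∀ b ∈ B, b ≠ 1 → Subgroup.centralizer ({b} : Set G) ≤ M := by
    intro b hb hb1
    obtain ⟨H, hH, hbH⟩ := ms_exists_coatom_ge (centralizer_singleton_ne_top h.hG hb1)
    have hCH : Subgroup.centralizer (A : Set G) ≤ H :=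
      (Subgroup.centralizer_le (Set.singleton_subset_iff.mpr (hBA hb))).trans hbH
    by_cases hHM : H = M
    · rw [← hHM]; exact hbH
    · exfalso
      apply hBn
      have h1 := h.inf_le_centralizer_P0 hnu hM hCM hH hCH hHM hF
      refine le_trans (inf_le_inf_left _ ?_) h1
      exact (Subgroup.centralizer_le (Set.singleton_subset_iff.mpr hb)).trans hbH
  have hBU : InUniqueMaximal B :=
    Cfsg.Agent.S1398.result h.hG M hM p B (hBA.trans hAM) hBe hBnc (Or.inl hcent)
  have hAB : A ≤ Subgroup.centralizer (B : Set G) :=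
    h.le_centralizer.trans (Subgroup.centralizer_le hBA)
  exact hnu (Cfsg.Agent.S1399.result h.hG B A hBU hAB h.not_rankLE_one)

end Cfsg.Agent.Lib.Helper31.Scn3
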