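import Mathlib

/-!
# Suzuki 2-groups: the centre is elementary abelian (Higman), by an eigenvalue-free argument

Setting: a finite 2-group `P`, a finite commutative group `Γ` of odd order acting on `P` by
automorphisms (`a : Γ →* MulAut P`) and transitively on the involutions of `P`.
-/

set_option autoImplicit false

namespace Cfsg.Agent.Lib.Helper31.SuzukiTwo

universe u v

section Basic

variable {P : Type u} [Group P]

/-- A non-identity element of a 2-group has a power which is an involution. -/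
theorem exists_pow_involution (hP : IsPGroup 2 P) {x : P} (hx : x ≠ 1) :
    ∃ k : ℕ, x ^ k ≠ 1 ∧ x ^ k * x ^ k = 1 := by
  obtain ⟨k, hk⟩ := (IsPGroup.iff_orderOf.1 hP) x
  have hk0 : k ≠ 0 := by
    rintro rfl
    rw [pow_zero, orderOf_eq_one_iff] at hk
    exact hx hk
  obtain ⟨j, rfl⟩ := Nat.exists_eq_add_one_of_ne_zero hk0
  refine ⟨2 ^ j, ?_, ?_⟩
  · apply pow_ne_one_of_lt_orderOf (by positivity)
    rw [hk, pow_succ]
    have : 0 < 2 ^ j := by positivity
    omega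
  · rw [← pow_add, ← two_mul, mul_comm, ← pow_succ, ← hk, pow_orderOf_eq_one]

/-- The hypotheses: `P` a 2-group, `Γ` commutative of odd order, transitive on involutions. -/
structure Hyp {Γ : Type v} [Group Γ] (a : Γ →* MulAut P) : Prop where
  two : IsPGroup 2 P
  comm : ∀ γ δ : Γ, γ * δ = δ * γ
  odd : Odd (Nat.card Γ)
  trans : ∀ x y : P, x ≠ 1 → x * x = 1 → y ≠ 1 → y * y = 1 → ∃ γ : Γ, a γ x = y

variable {Γ : Type v} [Group Γ] {a : Γ →* MulAut P}

/-- Involutions are central as soon as a group of automorphisms is transitive on them. -/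
theorem inv_central_of_trans [Finite P] (h2 : IsPGroup 2 P)
    (ht : ∀ x y : P, x ≠ 1 → x * x = 1 → y ≠ 1 → y * y = 1 → ∃ γ : Γ, a γ x = y)
    {z : P} (hz : z * z = 1) :
    z ∈ Subgroup.center P := by
  by_cases hz1 : z = 1
  · rw [hz1]; exact Subgroup.one_mem _
  have : Nontrivial P := ⟨⟨z, 1, hz1⟩⟩
  have : Fact (Nat.Prime 2) := ⟨Nat.prime_two⟩
  have hnt : Nontrivial ↥(Subgroup.center P) := h2.center_nontrivial
  obtain ⟨c, hc⟩ := exists_ne (1 : ↥(Subgroup.center P))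
  have hc1 : (c : P) ≠ 1 := fun h1 => hc (Subtype.ext h1)
  obtain ⟨k, hk1, hk2⟩ := exists_pow_involution h2 hc1
  have hkc : (c : P) ^ k ∈ Subgroup.center P := Subgroup.pow_mem _ c.2 k
  obtain ⟨γ, hγ⟩ := ht _ z hk1 hk2 hz1 hz
  rw [← hγ, Subgroup.mem_center_iff]
  intro g
  have h1 := Subgroup.mem_center_iff.1 hkc ((a γ)⁻¹ g)
  have h2 := congrArg (a γ) h1
  rw [map_mul, map_mul, MulAut.apply_inv_self] at h2
  exact h2

theorem Hyp.inv_central [Finite P] (h : Hyp a) {z : P} (hz : z * z = 1) :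
    z ∈ Subgroup.center P :=
  inv_central_of_trans h.two h.trans hz

theorem Hyp.inv_comm [Finite P] (h : Hyp a) {z : P} (hz : z * z = 1) (g : P) :
    g * z = z * g :=
  Subgroup.mem_center_iff.1 (h.inv_central hz) g

theorem Hyp.inv_mul [Finite P] (h : Hyp a) {z w : P} (hz : z * z = 1) (hw : w * w = 1) :
    (z * w) * (z * w) = 1 := by
  have h1 : z * w * (z * w) = (z * z) * (w * w) := by
    rw [mul_assoc, ← mul_assoc w z w, h.inv_comm hz w]
    group
  rw [h1, hz, hw, one_mul]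

/-- An invariant nontrivial subgroup contains all involutions. -/
theorem Hyp.inv_mem (h : Hyp a) (H : Subgroup P) (hH : ∀ γ x, x ∈ H → a γ x ∈ H) (hne : H ≠ ⊥)
    {z : P} (hz : z * z = 1) : z ∈ H := by
  by_cases hz1 : z = 1
  · rw [hz1]; exact H.one_mem
  obtain ⟨x, hxH, hx1⟩ := (Subgroup.ne_bot_iff_exists_ne_one (H := H)).1 hne |> fun ⟨x, hx⟩ =>
    (⟨(x : P), x.2, fun h1 => hx (Subtype.ext h1)⟩ : ∃ x : P, x ∈ H ∧ x ≠ 1)
  obtain ⟨k, hk1, hk2⟩ := exists_pow_involution h.two hx1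
  obtain ⟨γ, hγ⟩ := h.trans _ z hk1 hk2 hz1 hz
  rw [← hγ]
  exact hH γ _ (H.pow_mem hxH k)

theorem inv_eq_self_of_sq {z : P} (hz : z * z = 1) : z⁻¹ = z :=
  inv_eq_of_mul_eq_one_left hz

theorem map_inv_sq (f : MulAut P) {z : P} (hz : z * z = 1) : f z * f z = 1 := by
  rw [← map_mul, hz, map_one]

theorem Hyp.acomm (h : Hyp a) (γ δ : Γ) (x : P) : a γ (a δ x) = a δ (a γ x) := by
  rw [← MulAut.mul_apply, ← MulAut.mul_apply, ← map_mul, ← map_mul, h.comm]

theorem amul (γ δ : Γ) (x : P) : a (γ * δ) x = a γ (a δ x) := by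
  rw [map_mul, MulAut.mul_apply]

/-- Every element of a group of odd order is a square. -/
theorem exists_sq_of_odd (hodd : Odd (Nat.card Γ)) (t : Γ) : ∃ c : Γ, t = c * c := by
  obtain ⟨k, hk⟩ := hodd
  have hfin : Finite Γ := Nat.finite_of_card_ne_zero (by omega)
  refine ⟨t ^ (k + 1), ?_⟩
  have h1 : t ^ (2 * k + 1) = 1 := by rw [← hk]; exact pow_card_eq_one'
  rw [← pow_add]
  have : k + 1 + (k + 1) = (2 * k + 1) + 1 := by ring
  rw [this, pow_succ, h1, one_mul]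

end Basic


section Pairing

variable {P : Type u} [Group P] {Γ : Type v} [Group Γ] {a : Γ →* MulAut P}

/-- Claim A: if `c` moves the involution `e`, then `w ↦ w * c w` agrees on involutions with
the action of some `m`. -/
theorem Hyp.exists_sum_elt [Finite P] (h : Hyp a) {e : P} (he1 : e ≠ 1) (he2 : e * e = 1)
    (c : Γ) (hc : a c e ≠ e) : ∃ m : Γ, ∀ w : P, w * w = 1 → w * a c w = a m w := by
  have hce2 : a c e * a c e = 1 := map_inv_sq _ he2
  have hne : e * a c e ≠ 1 := by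
    intro h1
    apply hc
    have := eq_inv_of_mul_eq_one_right h1
    rw [this, inv_eq_self_of_sq he2]
  obtain ⟨m, hm⟩ := h.trans e (e * a c e) he1 he2 hne (h.inv_mul he2 hce2)
  refine ⟨m, fun w hw => ?_⟩
  by_cases hw1 : w = 1
  · rw [hw1, map_one, map_one, one_mul]
  obtain ⟨γ, hγ⟩ := h.trans e w he1 he2 hw1 hw
  rw [← hγ, h.acomm c γ e, ← map_mul, ← hm, h.acomm γ m e]

/-- The key lemma: an equivariant alternating pairing with values in involutions which
factors through an equivariant homomorphism to the involutions is trivial. -/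
theorem Hyp.pairing_trivial [Finite P] (h : Hyp a)
    (σ : P →* P) (hσsq : ∀ x, σ x * σ x = 1)
    (hσeq : ∀ γ x, σ (a γ x) = a γ (σ x))
    (β : P → P → P) (hβl : ∀ x x' y, β (x * x') y = β x y * β x' y)
    (hβr : ∀ x y y', β x (y * y') = β x y * β x y')
    (hβsq : ∀ x y, β x y * β x y = 1) (hβd : ∀ y, β y y = 1)
    (hβeq : ∀ γ x y, β (a γ x) (a γ y) = a γ (β x y))
    (hker : ∀ x, σ x = 1 → ∀ y, β x y = 1 ∧ β y x = 1) :
    ∀ x y, β x y = 1 := by
  -- dependence on σ-values only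
  have hdepL : ∀ x x' y, σ x = σ x' → β x y = β x' y := by
    intro x x' y hxx
    have h1 : σ (x⁻¹ * x') = 1 := by rw [map_mul, map_inv, hxx, inv_mul_cancel]
    have h2 := hβl x (x⁻¹ * x') y
    rw [mul_inv_cancel_left, (hker _ h1 y).1, mul_one] at h2
    exact h2.symm
  have hdepR : ∀ x y y', σ y = σ y' → β x y = β x y' := by
    intro x y y' hyy
    have h1 : σ (y⁻¹ * y') = 1 := by rw [map_mul, map_inv, hyy, inv_mul_cancel]
    have h2 := hβr x y (y⁻¹ * y')
    rw [mul_inv_cancel_left, (hker _ h1 x).2, mul_one] at h2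
    exact h2.symm
  by_cases hσ : ∀ y, σ y = 1
  · intro x y; exact (hker x (hσ x) y).1
  push Not at hσ
  obtain ⟨y₀, he1⟩ := hσ
  have he2 : σ y₀ * σ y₀ = 1 := hσsq y₀
  -- reduce to φ
  suffices hφ : ∀ t : Γ, β y₀ (a t y₀) = 1 by
    intro x y
    by_cases hx : σ x = 1
    · exact (hker x hx y).1
    by_cases hy : σ y = 1
    · exact (hker y hy x).2
    obtain ⟨γ, hγ⟩ := h.trans _ _ he1 he2 hx (hσsq x)
    obtain ⟨δ, hδ⟩ := h.trans _ _ he1 he2 hy (hσsq y)
    rw [← hσeq] at hγ hδ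
    rw [← hdepL _ _ _ hγ, ← hdepR _ _ _ hδ]
    have h3 : a δ y₀ = a γ (a (γ⁻¹ * δ) y₀) := by
      rw [← amul, mul_inv_cancel_left]
    rw [h3, hβeq, hφ, map_one]
  -- Claim C
  have hC : ∀ c v : Γ, β y₀ (a (c * c * v) y₀) = a c (β y₀ (a v y₀)) := by
    intro c v
    by_cases hc : a c (σ y₀) = σ y₀
    · have hfix : ∀ w : P, w * w = 1 → a c w = w := by
        intro w hw
        by_cases hw1 : w = 1
        · rw [hw1, map_one]
        obtain ⟨γ, hγ⟩ := h.trans _ w he1 he2 hw1 hw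
        rw [← hγ, h.acomm, hc]
      rw [hfix _ (hβsq _ _)]
      apply hdepR
      rw [mul_assoc, amul, amul, hσeq, hσeq, hfix _ (hσsq _), hfix _ (hσsq _)]
    · obtain ⟨m, hm⟩ := h.exists_sum_elt he1 he2 c hc
      -- Claim B
      have hB : ∀ u : Γ, β y₀ (a (c * u) y₀) = a c (β y₀ (a (c⁻¹ * u) y₀)) := by
        intro u
        have hs1 : σ (a m y₀) = σ (y₀ * a c y₀) := by
          rw [hσeq, ← hm _ he2, map_mul, hσeq]
        have hs2 : σ (a (m * u) y₀) = σ (a u y₀ * a (c * u) y₀) := by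
          rw [amul, hσeq, hσeq, ← hm _ (map_inv_sq _ he2), map_mul, hσeq, amul, hσeq, hσeq]
        have e1 : β (a m y₀) (a (m * u) y₀) = β y₀ (a u y₀) * a c (β y₀ (a u y₀)) := by
          rw [amul, hβeq, ← hm _ (hβsq _ _)]
        have e2 : β (a m y₀) (a (m * u) y₀) =
            β y₀ (a u y₀) * β y₀ (a (c * u) y₀) *
              (a c (β y₀ (a (c⁻¹ * u) y₀)) * a c (β y₀ (a u y₀))) := by
          rw [hdepL _ _ _ hs1, hdepR _ _ _ hs2, hβl, hβr, hβr]
          have h4 : a u y₀ = a c (a (c⁻¹ * u) y₀) := by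
            rw [← amul, mul_inv_cancel_left]
          have h5 : β (a c y₀) (a u y₀) = a c (β y₀ (a (c⁻¹ * u) y₀)) := by
            conv_lhs => rw [h4]
            rw [hβeq]
          have h6 : β (a c y₀) (a (c * u) y₀) = a c (β y₀ (a u y₀)) := by
            rw [amul, hβeq]
          rw [h5, h6]
        rw [e1, mul_assoc] at e2
        have e3 := mul_left_cancel e2
        rw [← mul_assoc] at e3
        have e4 : 1 * a c (β y₀ (a u y₀)) =
            β y₀ (a (c * u) y₀) * a c (β y₀ (a (c⁻¹ * u) y₀)) * a c (β y₀ (a u y₀)) := by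
          rw [one_mul]; exact e3
        have e5 := mul_right_cancel e4
        have e6 := eq_inv_of_mul_eq_one_left e5.symm
        rw [e6, inv_eq_self_of_sq (map_inv_sq _ (hβsq _ _))]
      have := hB (c * v)
      rw [inv_mul_cancel_left, ← mul_assoc] at this
      exact this
  intro t
  obtain ⟨c, rfl⟩ := exists_sq_of_odd h.odd t
  have := hC c 1
  rw [mul_one, map_one, MulAut.one_apply, hβd, map_one] at this
  exact this

end Pairing


section Squares

/-- In a finite commutative group of exponent dividing `2 ^ (e + 1)` in which every element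
of square one is a `2 ^ e`-th power, the elements killed by `2 ^ e` are squares. -/
theorem squares_of_exponent {A : Type u} [Group A] [Finite A]
    (hcomm : ∀ x y : A, x * y = y * x) (e : ℕ)
    (hexp : ∀ x : A, x ^ 2 ^ (e + 1) = 1) (hinv : ∀ z : A, z * z = 1 → ∃ y : A, y ^ 2 ^ e = z)
    (x : A) (hx : x ^ 2 ^ e = 1) : ∃ y : A, x = y * y := by
  let pw : ℕ → (A →* A) := fun n =>
    MonoidHom.mk' (fun x => x ^ n) (fun x y => (show Commute x y from hcomm x y).mul_pow n)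
  have pw_apply : ∀ n x, pw n x = x ^ n := fun n x => rfl
  have h1 : (pw 2).ker = (pw (2 ^ e)).range := by
    ext z
    rw [MonoidHom.mem_ker, MonoidHom.mem_range, pw_apply]
    constructor
    · intro hz
      rw [pow_two] at hz
      obtain ⟨y, hy⟩ := hinv z hz
      exact ⟨y, hy⟩
    · rintro ⟨y, rfl⟩
      rw [pw_apply, ← pow_mul, ← pow_succ]
      exact hexp y
  have h2 : (pw 2).range ≤ (pw (2 ^ e)).ker := by
    rintro z ⟨y, rfl⟩
    rw [MonoidHom.mem_ker, pw_apply, pw_apply, ← pow_mul, ← pow_succ']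
    exact hexp y
  have c1 : Nat.card (pw 2).ker * Nat.card (pw 2).range = Nat.card A := by
    rw [← Subgroup.index_ker]; exact Subgroup.card_mul_index _
  have c2 : Nat.card (pw (2 ^ e)).ker * Nat.card (pw (2 ^ e)).range = Nat.card A := by
    rw [← Subgroup.index_ker]; exact Subgroup.card_mul_index _
  have c3 : Nat.card (pw 2).range = Nat.card (pw (2 ^ e)).ker := by
    rw [← h1] at c2
    have hpos : 0 < Nat.card (pw 2).ker := Nat.card_pos
    have : Nat.card (pw 2).ker * Nat.card (pw 2).range =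
        Nat.card (pw 2).ker * Nat.card (pw (2 ^ e)).ker := by
      rw [c1, mul_comm, c2]
    exact Nat.eq_of_mul_eq_mul_left hpos this
  have h3 : (pw 2).range = (pw (2 ^ e)).ker :=
    Subgroup.eq_of_le_of_card_ge h2 (le_of_eq c3.symm)
  have hx' : x ∈ (pw (2 ^ e)).ker := by
    rw [MonoidHom.mem_ker, pw_apply]; exact hx
  rw [← h3] at hx'
  obtain ⟨y, hy⟩ := hx'
  refine ⟨y, ?_⟩
  rw [← hy, pw_apply, pow_two]

variable {P : Type u} [Group P]

/-- Subgroup version of `squares_of_exponent`. -/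
theorem squares_of_exponent_sub [Finite P] (A : Subgroup P)
    (hcomm : ∀ x ∈ A, ∀ y ∈ A, x * y = y * x) (e : ℕ)
    (hexp : ∀ x ∈ A, x ^ 2 ^ (e + 1) = 1)
    (hinv : ∀ z : P, z * z = 1 → ∃ y ∈ A, y ^ 2 ^ e = z)
    (x : P) (hxA : x ∈ A) (hx : x ^ 2 ^ e = 1) : ∃ y ∈ A, x = y * y := by
  have := squares_of_exponent (A := ↥A)
    (fun x y => Subtype.ext (hcomm x x.2 y y.2)) e
    (fun x => Subtype.ext (by rw [Subgroup.coe_pow]; exact hexp x x.2))
    (fun z hz => by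
      obtain ⟨y, hyA, hy⟩ := hinv z (by
        have := congrArg Subtype.val hz
        simpa using this)
      exact ⟨⟨y, hyA⟩, Subtype.ext (by rw [Subgroup.coe_pow]; exact hy)⟩)
    ⟨x, hxA⟩ (Subtype.ext (by rw [Subgroup.coe_pow]; exact hx))
  obtain ⟨y, hy⟩ := this
  exact ⟨y, y.2, by simpa using congrArg Subtype.val hy⟩

variable {Γ : Type v} [Group Γ] {a : Γ →* MulAut P}

/-- The `n`-th powers of a commutative invariant subgroup with a nontrivial `n`-th power
cover all involutions. -/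
theorem Hyp.pow_surj_inv (h : Hyp a) (A : Subgroup P)
    (hcomm : ∀ x ∈ A, ∀ y ∈ A, x * y = y * x) (hA : ∀ γ x, x ∈ A → a γ x ∈ A) (n : ℕ)
    (hne : ∃ x ∈ A, x ^ n ≠ 1) (z : P) (hz : z * z = 1) : ∃ y ∈ A, y ^ n = z := by
  let R : Subgroup P :=
    { carrier := {z | ∃ y ∈ A, y ^ n = z}
      mul_mem' := by
        rintro _ _ ⟨y, hy, rfl⟩ ⟨y', hy', rfl⟩
        exact ⟨y * y', A.mul_mem hy hy', (show Commute y y' from hcomm y hy y' hy').mul_pow n⟩
      one_mem' := ⟨1, A.one_mem, one_pow n⟩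
      inv_mem' := by
        rintro _ ⟨y, hy, rfl⟩
        exact ⟨y⁻¹, A.inv_mem hy, inv_pow y n⟩ }
  have hR : ∀ γ x, x ∈ R → a γ x ∈ R := by
    rintro γ _ ⟨y, hy, rfl⟩
    exact ⟨a γ y, hA γ y hy, (map_pow _ _ _).symm⟩
  have hRne : R ≠ ⊥ := by
    obtain ⟨x, hxA, hx⟩ := hne
    intro hbot
    have : x ^ n ∈ R := ⟨x, hxA, rfl⟩
    rw [hbot, Subgroup.mem_bot] at this
    exact hx this
  exact h.inv_mem R hR hRne hz

/-- Combination: in a commutative invariant subgroup of exponent exactly `2 ^ (e + 1)`,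
elements killed by `2 ^ e` are squares. -/
theorem Hyp.exists_sq [Finite P] (h : Hyp a) (A : Subgroup P)
    (hcomm : ∀ x ∈ A, ∀ y ∈ A, x * y = y * x) (hA : ∀ γ x, x ∈ A → a γ x ∈ A) (e : ℕ)
    (hexp : ∀ x ∈ A, x ^ 2 ^ (e + 1) = 1) (hne : ∃ x ∈ A, x ^ 2 ^ e ≠ 1)
    (x : P) (hxA : x ∈ A) (hx : x ^ 2 ^ e = 1) : ∃ y ∈ A, x = y * y :=
  squares_of_exponent_sub A hcomm e hexp (h.pow_surj_inv A hcomm hA _ hne) x hxA hx

end Squares


section Helpers

open scoped commutatorElement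

variable {P : Type u} [Group P]

/-- Exact exponent data for a subset of a finite 2-group containing a non-identity element. -/
theorem exists_exponent [Finite P] (hP : IsPGroup 2 P) (T : Set P) (hT : ∃ x ∈ T, x ≠ 1) :
    ∃ e : ℕ, (∀ x ∈ T, x ^ 2 ^ (e + 1) = 1) ∧ ∃ x ∈ T, x ^ 2 ^ e ≠ 1 := by
  classical
  have : Fact (Nat.Prime 2) := ⟨Nat.prime_two⟩
  have hex : ∃ n : ℕ, ∀ x ∈ T, x ^ 2 ^ n = 1 := by
    obtain ⟨n, hn⟩ := IsPGroup.iff_card.1 hP
    exact ⟨n, fun x _ => by rw [← hn]; exact pow_card_eq_one'⟩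
  have hspec := Nat.find_spec hex
  have hN0 : Nat.find hex ≠ 0 := by
    intro h0
    obtain ⟨x, hxT, hx1⟩ := hT
    have := hspec x hxT
    rw [h0, pow_zero, pow_one] at this
    exact hx1 this
  obtain ⟨e, he⟩ := Nat.exists_eq_add_one_of_ne_zero hN0
  refine ⟨e, ?_, ?_⟩
  · rw [← he]; exact hspec
  · by_contra hcon
    push Not at hcon
    exact Nat.find_min hex (m := e) (by omega) hcon

/-- If `⁅x, g⁆` and `x * x` are central then `⁅x, g⁆` has square one. -/
theorem comm_sq_eq_one {x g : P} (hc : ⁅x, g⁆ ∈ Subgroup.center P)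
    (hx : x * x ∈ Subgroup.center P) : ⁅x, g⁆ * ⁅x, g⁆ = 1 := by
  have hxg : x * g = ⁅x, g⁆ * g * x := by
    rw [commutatorElement_def]; group
  have hcc : ∀ y, y * ⁅x, g⁆ = ⁅x, g⁆ * y := Subgroup.mem_center_iff.1 hc
  generalize ⁅x, g⁆ = c at hxg hcc
  have h1 : x * x * g = c * c * g * (x * x) := by
    calc x * x * g = x * (x * g) := by group
      _ = x * (c * g * x) := by rw [← hxg]
      _ = (x * c) * g * x := by group
      _ = (c * x) * g * x := by rw [hcc x]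
      _ = c * (x * g) * x := by group
      _ = c * (c * g * x) * x := by rw [← hxg]
      _ = c * c * g * (x * x) := by group
  have h2 : x * x * g = g * (x * x) := (Subgroup.mem_center_iff.1 hx g).symm
  rw [h2] at h1
  have h3 := mul_right_cancel h1
  have h4 : 1 * g = c * c * g := by rw [one_mul]; exact h3
  exact (mul_right_cancel h4).symm

theorem comm_mul_left_of_central {x x' y : P} (h1 : ⁅x', y⁆ ∈ Subgroup.center P)
    (h2 : ⁅x, y⁆ ∈ Subgroup.center P) : ⁅x * x', y⁆ = ⁅x, y⁆ * ⁅x', y⁆ := by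
  have key : ⁅x * x', y⁆ = x * ⁅x', y⁆ * x⁻¹ * ⁅x, y⁆ := by
    simp only [commutatorElement_def]; group
  rw [key, Subgroup.mem_center_iff.1 h1 x, mul_inv_cancel_right,
    Subgroup.mem_center_iff.1 h2]

theorem comm_mul_right_of_central {x y y' : P} (h1 : ⁅x, y'⁆ ∈ Subgroup.center P) :
    ⁅x, y * y'⁆ = ⁅x, y⁆ * ⁅x, y'⁆ := by
  have key : ⁅x, y * y'⁆ = ⁅x, y⁆ * (y * ⁅x, y'⁆ * y⁻¹) := by
    simp only [commutatorElement_def]; group
  rw [key, Subgroup.mem_center_iff.1 h1 y, mul_inv_cancel_right]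

/-- A nonabelian finite 2-group has a noncentral element of the second centre whose square
is central. -/
theorem exists_second_center_elt [Finite P] (hP : IsPGroup 2 P)
    (hnc : ∃ x y : P, x * y ≠ y * x) :
    ∃ x : P, x ∉ Subgroup.center P ∧ x * x ∈ Subgroup.center P ∧
      ∀ g, ⁅x, g⁆ ∈ Subgroup.center P := by
  have : Fact (Nat.Prime 2) := ⟨Nat.prime_two⟩
  have hQ : IsPGroup 2 (P ⧸ Subgroup.center P) := hP.to_quotient _
  have hnt : Nontrivial (P ⧸ Subgroup.center P) := by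
    by_contra hcon
    rw [not_nontrivial_iff_subsingleton] at hcon
    obtain ⟨x, y, hxy⟩ := hnc
    have hx : x ∈ Subgroup.center P := by
      rw [← QuotientGroup.eq_one_iff]; exact Subsingleton.elim _ _
    exact hxy (Subgroup.mem_center_iff.1 hx y).symm
  have hcnt : Nontrivial ↥(Subgroup.center (P ⧸ Subgroup.center P)) := hQ.center_nontrivial
  obtain ⟨q, hq⟩ := exists_ne (1 : ↥(Subgroup.center (P ⧸ Subgroup.center P)))
  have hq1 : (q : P ⧸ Subgroup.center P) ≠ 1 := fun h1 => hq (Subtype.ext h1)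
  obtain ⟨k, hk1, hk2⟩ := exists_pow_involution hQ hq1
  have hkc : (q : P ⧸ Subgroup.center P) ^ k ∈ Subgroup.center (P ⧸ Subgroup.center P) :=
    Subgroup.pow_mem _ q.2 k
  obtain ⟨x₀, hx₀⟩ := QuotientGroup.mk_surjective (q : P ⧸ Subgroup.center P)
  rw [← hx₀, ← QuotientGroup.mk_pow] at hk1 hk2 hkc
  refine ⟨x₀ ^ k, ?_, ?_, ?_⟩
  · intro hmem
    exact hk1 ((QuotientGroup.eq_one_iff _).2 hmem)
  · rw [← QuotientGroup.mk_mul] at hk2
    exact (QuotientGroup.eq_one_iff _).1 hk2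
  · intro g
    rw [← QuotientGroup.eq_one_iff, commutatorElement_def]
    simp only [QuotientGroup.mk_mul, QuotientGroup.mk_inv]
    rw [← Subgroup.mem_center_iff.1 hkc (g : P ⧸ Subgroup.center P)]
    group

variable {Γ : Type v} [Group Γ] (a : Γ →* MulAut P)

theorem map_eq_of_invariant (S : Subgroup P) (hS : ∀ γ x, x ∈ S → a γ x ∈ S) (γ : Γ) :
    S.map ((a γ : P ≃* P) : P →* P) = S := by
  ext x
  constructor
  · rintro ⟨y, hy, rfl⟩
    exact hS γ y hy
  · intro hx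
    refine ⟨a γ⁻¹ x, hS γ⁻¹ x hx, ?_⟩
    show a γ (a γ⁻¹ x) = x
    rw [← amul, mul_inv_cancel, map_one, MulAut.one_apply]

/-- The action induced on the quotient by an invariant normal subgroup. -/
noncomputable def quotAct (S : Subgroup P) [S.Normal] (hS : ∀ γ x, x ∈ S → a γ x ∈ S) :
    Γ →* MulAut (P ⧸ S) :=
  MonoidHom.mk' (fun γ => QuotientGroup.congr S S (a γ) (map_eq_of_invariant a S hS γ)) (by
    intro γ δ
    ext q
    induction q using QuotientGroup.induction_on with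
    | H x =>
      rw [MulAut.mul_apply, QuotientGroup.congr_mk, QuotientGroup.congr_mk,
        QuotientGroup.congr_mk, amul])

theorem quotAct_mk (S : Subgroup P) [S.Normal] (hS : ∀ γ x, x ∈ S → a γ x ∈ S) (γ : Γ)
    (x : P) : quotAct a S hS γ (x : P ⧸ S) = ((a γ x : P) : P ⧸ S) :=
  QuotientGroup.congr_mk S S (a γ) (map_eq_of_invariant a S hS γ) x

end Helpers


section Main

open scoped commutatorElement

variable {P : Type u} [Group P] {Γ : Type v} [Group Γ] {a : Γ →* MulAut P}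

/-- Case B of the inductive step: the quotient by the squares of the centre is abelian. -/
theorem Hyp.caseB [Finite P] (h : Hyp a) (hnc : ∃ x y : P, x * y ≠ y * x)
    (S : Subgroup P) [S.Normal] (hSZ : S ≤ Subgroup.center P)
    (hSinv : ∀ γ x, x ∈ S → a γ x ∈ S)
    (e : ℕ) (hSexp : ∀ s ∈ S, s ^ 2 ^ e = 1)
    (hii : ∀ x, x * x ∈ S → x ∈ Subgroup.center P)
    (hiii : ∀ c ∈ Subgroup.center P, c ^ 2 ^ e = 1 → c ∈ S)
    (hã : Hyp (quotAct a S hSinv))
    (hQ : ∀ x y : P ⧸ S, x * y = y * x) : False := by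
  have hcen : ∀ {z : P}, z ∈ Subgroup.center P → ∀ g, Commute z g :=
    fun hz g => (Subgroup.mem_center_iff.1 hz g).symm
  have hcommS : ∀ x y : P, ⁅x, y⁆ ∈ S := by
    intro x y
    rw [← QuotientGroup.eq_one_iff, commutatorElement_def]
    simp only [QuotientGroup.mk_mul, QuotientGroup.mk_inv]
    rw [hQ (x : P ⧸ S) (y : P ⧸ S)]
    group
  have hcommZ : ∀ x y : P, ⁅x, y⁆ ∈ Subgroup.center P := fun x y => hSZ (hcommS x y)
  -- exponent `d` of the commutators
  obtain ⟨d, hd1, hd2⟩ := exists_exponent h.two {c | ∃ x y : P, c = ⁅x, y⁆} (by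
    obtain ⟨x, y, hxy⟩ := hnc
    exact ⟨⁅x, y⁆, ⟨x, y, rfl⟩, fun h1 => hxy (commutatorElement_eq_one_iff_mul_comm.1 h1)⟩)
  have hd1' : ∀ x y : P, ⁅x, y⁆ ^ 2 ^ (d + 1) = 1 := fun x y => hd1 _ ⟨x, y, rfl⟩
  -- exponent `f` of the quotient
  have hQnt : ∃ q ∈ (Set.univ : Set (P ⧸ S)), q ≠ 1 := by
    by_contra hcon
    push Not at hcon
    obtain ⟨x, y, hxy⟩ := hnc
    have hx : x ∈ S := by
      rw [← QuotientGroup.eq_one_iff]; exact hcon _ (Set.mem_univ _)
    exact hxy (Subgroup.mem_center_iff.1 (hSZ hx) y).symm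
  obtain ⟨f, hf1, hf2⟩ := exists_exponent hã.two Set.univ hQnt
  have hf1' : ∀ x : P, x ^ 2 ^ (f + 1) ∈ S := by
    intro x
    rw [← QuotientGroup.eq_one_iff, QuotientGroup.mk_pow]
    exact hf1 _ (Set.mem_univ _)
  have hpowZ : ∀ x : P, x ^ 2 ^ f ∈ Subgroup.center P := by
    intro x
    apply hii
    rw [← pow_two, ← pow_mul, ← pow_succ]
    exact hf1' x
  have hmulpow : ∀ x y : P, ∃ s ∈ S, (x * y) ^ 2 ^ f = x ^ 2 ^ f * y ^ 2 ^ f * s := by
    intro x y
    refine ⟨(x ^ 2 ^ f * y ^ 2 ^ f)⁻¹ * (x * y) ^ 2 ^ f, ?_, by group⟩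
    rw [← QuotientGroup.eq]
    simp only [QuotientGroup.mk_mul, QuotientGroup.mk_pow]
    exact ((show Commute (x : P ⧸ S) (y : P ⧸ S) from hQ _ _).mul_pow _).symm
  -- the homomorphism σ
  let σ : P →* P := MonoidHom.mk' (fun x => (x ^ 2 ^ f) ^ 2 ^ e) (by
    intro x y
    obtain ⟨s, hs, hxy⟩ := hmulpow x y
    show ((x * y) ^ 2 ^ f) ^ 2 ^ e = (x ^ 2 ^ f) ^ 2 ^ e * (y ^ 2 ^ f) ^ 2 ^ e
    have c1 : Commute (x ^ 2 ^ f * y ^ 2 ^ f) s := (hcen (hSZ hs) _).symm
    rw [hxy, c1.mul_pow, hSexp s hs, mul_one, (hcen (hpowZ x) _).mul_pow])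
  have hσ : ∀ x, σ x = (x ^ 2 ^ f) ^ 2 ^ e := fun _ => rfl
  have hσsq : ∀ x, σ x * σ x = 1 := by
    intro x
    have hxx : x ^ 2 ^ f * x ^ 2 ^ f = x ^ 2 ^ (f + 1) := by
      rw [← pow_add, ← two_mul, ← pow_succ']
    rw [hσ, ← (Commute.refl (x ^ 2 ^ f)).mul_pow, hxx]
    exact hSexp _ (hf1' x)
  have hσeq : ∀ γ x, σ (a γ x) = a γ (σ x) := by
    intro γ x
    rw [hσ, hσ, map_pow, map_pow]
  -- the pairing β
  have hβl : ∀ x x' y : P, ⁅x * x', y⁆ ^ 2 ^ d = ⁅x, y⁆ ^ 2 ^ d * ⁅x', y⁆ ^ 2 ^ d := by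
    intro x x' y
    rw [comm_mul_left_of_central (hcommZ _ _) (hcommZ _ _), (hcen (hcommZ x y) _).mul_pow]
  have hβr : ∀ x y y' : P, ⁅x, y * y'⁆ ^ 2 ^ d = ⁅x, y⁆ ^ 2 ^ d * ⁅x, y'⁆ ^ 2 ^ d := by
    intro x y y'
    rw [comm_mul_right_of_central (hcommZ _ _), (hcen (hcommZ x y) _).mul_pow]
  have hβsq : ∀ x y : P, ⁅x, y⁆ ^ 2 ^ d * ⁅x, y⁆ ^ 2 ^ d = 1 := by
    intro x y
    rw [← pow_add, ← two_mul, ← pow_succ']
    exact hd1' x y
  have hβd : ∀ y : P, ⁅y, y⁆ ^ 2 ^ d = 1 := by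
    intro y
    rw [commutatorElement_self, one_pow]
  have hβeq : ∀ γ (x y : P), ⁅a γ x, a γ y⁆ ^ 2 ^ d = a γ (⁅x, y⁆ ^ 2 ^ d) := by
    intro γ x y
    rw [map_pow, map_commutatorElement]
  have hker : ∀ x : P, σ x = 1 → ∀ g : P, ⁅x, g⁆ ^ 2 ^ d = 1 ∧ ⁅g, x⁆ ^ 2 ^ d = 1 := by
    intro x hx g
    rw [hσ] at hx
    have h1 : x ^ 2 ^ f ∈ S := hiii _ (hpowZ x) hx
    have h2 : (x : P ⧸ S) ^ 2 ^ f = 1 := by
      rw [← QuotientGroup.mk_pow]; exact (QuotientGroup.eq_one_iff _).2 h1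
    obtain ⟨q, -, hq⟩ := hã.exists_sq ⊤ (fun x _ y _ => hQ x y)
      (fun _ _ _ => Subgroup.mem_top _) f (fun q _ => hf1 q (Set.mem_univ _))
      (by obtain ⟨q, -, hq⟩ := hf2; exact ⟨q, Subgroup.mem_top _, hq⟩)
      (x : P ⧸ S) (Subgroup.mem_top _) h2
    obtain ⟨y, rfl⟩ := QuotientGroup.mk_surjective q
    have h3 : (y * y)⁻¹ * x ∈ S := by
      rw [← QuotientGroup.eq, QuotientGroup.mk_mul]; exact hq.symm
    have hx' : x = y * y * ((y * y)⁻¹ * x) := by group
    generalize (y * y)⁻¹ * x = s at h3 hx'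
    have hsg : ⁅s, g⁆ = 1 := commutatorElement_eq_one_iff_commute.2 (hcen (hSZ h3) g)
    have hgs : ⁅g, s⁆ = 1 := commutatorElement_eq_one_iff_commute.2 (hcen (hSZ h3) g).symm
    constructor
    · rw [hx', comm_mul_left_of_central (hcommZ _ _) (hcommZ _ _), hsg, mul_one,
        comm_mul_left_of_central (hcommZ _ _) (hcommZ _ _), ← pow_two, ← pow_mul, ← pow_succ']
      exact hd1' y g
    · rw [hx', comm_mul_right_of_central (hcommZ _ _), hgs, mul_one,
        comm_mul_right_of_central (hcommZ _ _), ← pow_two, ← pow_mul, ← pow_succ']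
      exact hd1' g y
  have key := h.pairing_trivial σ hσsq hσeq (fun x y => ⁅x, y⁆ ^ 2 ^ d)
    hβl hβr hβsq hβd hβeq hker
  obtain ⟨c, ⟨x, y, rfl⟩, hc⟩ := hd2
  exact hc (key x y)

/-- **Higman**: under `Hyp`, the centre of a nonabelian `P` has exponent two. -/
theorem center_sq_aux {Γ : Type v} [Group Γ] : ∀ n : ℕ, ∀ (P : Type u) [Group P] [Finite P]
    (a : Γ →* MulAut P), Nat.card P = n → Hyp a → (∃ x y : P, x * y ≠ y * x) →
    ∀ z ∈ Subgroup.center P, z * z = 1 := by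
  intro n
  induction n using Nat.strong_induction_on with
  | _ n ih =>
  intro P _ _ a hn h hnc c₀ hc₀
  by_contra hc₀2
  have hcen : ∀ {z : P}, z ∈ Subgroup.center P → ∀ g, Commute z g :=
    fun hz g => (Subgroup.mem_center_iff.1 hz g).symm
  have hZcomm : ∀ x ∈ Subgroup.center P, ∀ y ∈ Subgroup.center P, x * y = y * x :=
    fun x hx y _ => hcen hx y
  have hZinv : ∀ γ x, x ∈ Subgroup.center P → a γ x ∈ Subgroup.center P := by
    intro γ x hx
    rw [Subgroup.mem_center_iff]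
    intro g
    have h1 := Subgroup.mem_center_iff.1 hx ((a γ)⁻¹ g)
    have h2 := congrArg (a γ) h1
    rw [map_mul, map_mul, MulAut.apply_inv_self] at h2
    exact h2
  obtain ⟨e, hexp, hne⟩ := exists_exponent h.two (Subgroup.center P : Set P)
    ⟨c₀, hc₀, fun h1 => hc₀2 (by rw [h1, one_mul])⟩
  have hsq := h.exists_sq (Subgroup.center P) hZcomm hZinv e hexp hne
  obtain ⟨S, hSmem⟩ : ∃ S : Subgroup P, ∀ s, s ∈ S ↔ ∃ c ∈ Subgroup.center P, c * c = s :=
    ⟨{ carrier := {s | ∃ c ∈ Subgroup.center P, c * c = s}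
       mul_mem' := by
         rintro _ _ ⟨c, hc, rfl⟩ ⟨c', hc', rfl⟩
         refine ⟨c * c', Subgroup.mul_mem _ hc hc', ?_⟩
         rw [mul_assoc c c' (c * c'), ← mul_assoc c' c c', (hcen hc' c).eq]; group
       one_mem' := ⟨1, Subgroup.one_mem _, one_mul 1⟩
       inv_mem' := by
         rintro _ ⟨c, hc, rfl⟩
         exact ⟨c⁻¹, Subgroup.inv_mem _ hc, by group⟩ }, fun _ => Iff.rfl⟩
  have hSZ : S ≤ Subgroup.center P := by
    intro s hs
    obtain ⟨c, hc, rfl⟩ := (hSmem s).1 hs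
    exact Subgroup.mul_mem _ hc hc
  have hSn : S.Normal := ⟨fun s hs g => by
    have := (hcen (hSZ hs) g).eq
    rw [← this, mul_inv_cancel_right]; exact hs⟩
  have hSinv : ∀ γ x, x ∈ S → a γ x ∈ S := by
    intro γ s hs
    obtain ⟨c, hc, rfl⟩ := (hSmem s).1 hs
    exact (hSmem _).2 ⟨a γ c, hZinv γ c hc, (map_mul _ _ _).symm⟩
  have hSne : S ≠ ⊥ := by
    intro hbot
    have : c₀ * c₀ ∈ S := (hSmem _).2 ⟨c₀, hc₀, rfl⟩
    rw [hbot, Subgroup.mem_bot] at this
    exact hc₀2 this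
  have hSinvol : ∀ z : P, z * z = 1 → z ∈ S := fun z hz => h.inv_mem S hSinv hSne hz
  have hii : ∀ x : P, x * x ∈ S → x ∈ Subgroup.center P := by
    intro x hx
    obtain ⟨c, hc, hcx⟩ := (hSmem _).1 hx
    have h1 : (x * c⁻¹) * (x * c⁻¹) = 1 := by
      have hc' : Commute c⁻¹ x := hcen (Subgroup.inv_mem _ hc) x
      calc (x * c⁻¹) * (x * c⁻¹) = x * (c⁻¹ * x) * c⁻¹ := by group
        _ = x * (x * c⁻¹) * c⁻¹ := by rw [hc'.eq]
        _ = (x * x) * (c * c)⁻¹ := by group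
        _ = 1 := by rw [hcx, mul_inv_cancel]
    have h2 := h.inv_central h1
    have : x = (x * c⁻¹) * c := by group
    rw [this]; exact Subgroup.mul_mem _ h2 hc
  have hiii : ∀ c ∈ Subgroup.center P, c ^ 2 ^ e = 1 → c ∈ S := by
    intro c hc hce
    obtain ⟨y, hy, rfl⟩ := hsq c hc hce
    exact (hSmem _).2 ⟨y, hy, rfl⟩
  have hSexp : ∀ s ∈ S, s ^ 2 ^ e = 1 := by
    intro s hs
    obtain ⟨c, hc, rfl⟩ := (hSmem s).1 hs
    rw [← pow_two, ← pow_mul, ← pow_succ']
    exact hexp c hc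
  -- the quotient
  have hã : Hyp (quotAct a S hSinv) := by
    refine ⟨h.two.to_quotient S, h.comm, h.odd, ?_⟩
    intro q q' hq1 hq2 hq'1 hq'2
    obtain ⟨x, rfl⟩ := QuotientGroup.mk_surjective q
    obtain ⟨y, rfl⟩ := QuotientGroup.mk_surjective q'
    have hxS : x * x ∈ S := by
      rw [← QuotientGroup.eq_one_iff, QuotientGroup.mk_mul]; exact hq2
    have hyS : y * y ∈ S := by
      rw [← QuotientGroup.eq_one_iff, QuotientGroup.mk_mul]; exact hq'2
    have hxZ := hii x hxS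
    have hyZ := hii y hyS
    have hx1 : x ^ 2 ^ e ≠ 1 := fun h1 => hq1 ((QuotientGroup.eq_one_iff _).2 (hiii x hxZ h1))
    have hy1 : y ^ 2 ^ e ≠ 1 := fun h1 => hq'1 ((QuotientGroup.eq_one_iff _).2 (hiii y hyZ h1))
    have hx2 : x ^ 2 ^ e * x ^ 2 ^ e = 1 := by
      rw [← pow_add, ← two_mul, ← pow_succ']; exact hexp x hxZ
    have hy2 : y ^ 2 ^ e * y ^ 2 ^ e = 1 := by
      rw [← pow_add, ← two_mul, ← pow_succ']; exact hexp y hyZ
    obtain ⟨γ, hγ⟩ := h.trans _ _ hx1 hx2 hy1 hy2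
    refine ⟨γ, ?_⟩
    rw [quotAct_mk, QuotientGroup.eq]
    apply hiii
    · exact Subgroup.mul_mem _ (Subgroup.inv_mem _ (hZinv γ x hxZ)) hyZ
    · rw [(hcen (Subgroup.inv_mem _ (hZinv γ x hxZ)) y).mul_pow, inv_pow, ← map_pow, hγ,
        inv_mul_cancel]
  have hcard : Nat.card (P ⧸ S) < n := by
    rw [← hn, Subgroup.card_eq_card_quotient_mul_card_subgroup S]
    have h1 : 1 < Nat.card S := by
      rw [Subgroup.one_lt_card_iff_ne_bot]; exact hSne
    have h2 : 0 < Nat.card (P ⧸ S) := Nat.card_pos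
    nlinarith
  by_cases hQ : ∃ x y : P ⧸ S, x * y ≠ y * x
  · have ihQ := ih _ hcard (P ⧸ S) (quotAct a S hSinv) rfl hã hQ
    obtain ⟨x, hxZ, hxx, hxg⟩ := exists_second_center_elt h.two hnc
    have hmem : (x : P ⧸ S) ∈ Subgroup.center (P ⧸ S) := by
      rw [Subgroup.mem_center_iff]
      intro q
      obtain ⟨g, rfl⟩ := QuotientGroup.mk_surjective q
      have h1 : ⁅x, g⁆ ∈ S := hSinvol _ (comm_sq_eq_one (hxg g) hxx)
      have h2 : x * g = ⁅x, g⁆ * (g * x) := by rw [commutatorElement_def]; group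
      rw [← QuotientGroup.mk_mul, ← QuotientGroup.mk_mul, h2, QuotientGroup.mk_mul _ ⁅x, g⁆,
        (QuotientGroup.eq_one_iff _).2 h1, one_mul]
    have hsq1 := ihQ _ hmem
    have : x * x ∈ S := by
      rw [← QuotientGroup.eq_one_iff, QuotientGroup.mk_mul]; exact hsq1
    exact hxZ (hii x this)
  · push Not at hQ
    exact h.caseB hnc S hSZ hSinv e hSexp hii hiii hã hQ

/-- **Higman**: under `Hyp`, the centre of a nonabelian `P` has exponent two. -/
theorem Hyp.center_sq [Finite P] (h : Hyp a) (hnc : ∃ x y : P, x * y ≠ y * x) :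
    ∀ z ∈ Subgroup.center P, z * z = 1 :=
  center_sq_aux (Nat.card P) P a rfl h hnc

end Main


section Suzuki

variable {P : Type u} [Group P]

/-- A group of automorphisms acting regularly on the involutions of a finite 2-group with
at least one involution has odd order. -/
theorem odd_card_of_regular [Finite P] (h2 : IsPGroup 2 P) (K : Subgroup (MulAut P))
    (x₀ : P) (hx₀1 : x₀ ≠ 1) (hx₀2 : x₀ * x₀ = 1)
    (hreg : ∀ x y : P, x ≠ 1 → x * x = 1 → y ≠ 1 → y * y = 1 →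
      ∃! k : K, (k : MulAut P) x = y) :
    Odd (Nat.card K) := by
  classical
  have : Fact (Nat.Prime 2) := ⟨Nat.prime_two⟩
  have hcentral : ∀ z : P, z * z = 1 → z ∈ Subgroup.center P := fun z hz =>
    inv_central_of_trans (a := K.subtype) h2
      (fun x y hx1 hx2 hy1 hy2 => (hreg x y hx1 hx2 hy1 hy2).exists) hz
  obtain ⟨Ω, hΩmem⟩ : ∃ Ω : Subgroup P, ∀ z, z ∈ Ω ↔ z * z = 1 :=
    ⟨{ carrier := {z | z * z = 1}
       mul_mem' := by
         intro z w hz hw
         have hz' : z * z = 1 := hz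
         have hw' : w * w = 1 := hw
         show z * w * (z * w) = 1
         have h1 : z * w * (z * w) = (z * z) * (w * w) := by
           rw [mul_assoc, ← mul_assoc w z w, Subgroup.mem_center_iff.1 (hcentral z hz') w]
           group
         rw [h1, hz', hw', one_mul]
       one_mem' := one_mul 1
       inv_mem' := by
         intro z hz
         have hz' : z * z = 1 := hz
         show z⁻¹ * z⁻¹ = 1
         rw [← mul_inv_rev, hz', inv_one] }, fun _ => Iff.rfl⟩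
  let I : Set P := {x | x ≠ 1 ∧ x * x = 1}
  have hΩI : (Ω : Set P) = insert 1 I := by
    ext z
    rw [SetLike.mem_coe, hΩmem, Set.mem_insert_iff]
    constructor
    · intro hz
      by_cases hz1 : z = 1
      · exact Or.inl hz1
      · exact Or.inr ⟨hz1, hz⟩
    · rintro (rfl | ⟨_, hz⟩)
      · exact one_mul 1
      · exact hz
  have h1I : (1 : P) ∉ I := fun h => h.1 rfl
  have c1 : Nat.card Ω = I.ncard + 1 := by
    have h0 : Nat.card Ω = (Ω : Set P).ncard := Nat.card_coe_set_eq (Ω : Set P)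
    rw [h0, hΩI, Set.ncard_insert_of_notMem h1I]
  have c2 : Nat.card K = I.ncard := by
    rw [← Nat.card_coe_set_eq]
    apply Nat.card_congr
    refine Equiv.ofBijective
      (fun k => ⟨(k : MulAut P) x₀, ⟨fun h1 => hx₀1 (by
        have := (k : MulAut P).injective (h1.trans (map_one _).symm)
        exact this), map_inv_sq _ hx₀2⟩⟩) ⟨?_, ?_⟩
    · intro k k' hkk
      have hk : (k : MulAut P) x₀ = (k' : MulAut P) x₀ := congrArg Subtype.val hkk
      have hy1 : (k' : MulAut P) x₀ ≠ 1 := fun h1 => hx₀1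
        ((k' : MulAut P).injective (h1.trans (map_one _).symm))
      exact (hreg x₀ _ hx₀1 hx₀2 hy1 (map_inv_sq _ hx₀2)).unique hk rfl
    · rintro ⟨y, hy1, hy2⟩
      obtain ⟨k, hk⟩ := (hreg x₀ y hx₀1 hx₀2 hy1 hy2).exists
      exact ⟨k, Subtype.ext hk⟩
  obtain ⟨m, hm⟩ := IsPGroup.iff_card.1 (h2.to_subgroup Ω)
  have hIpos : 0 < I.ncard := (Set.ncard_pos).2 ⟨x₀, hx₀1, hx₀2⟩
  have hm0 : m ≠ 0 := by
    rintro rfl
    rw [pow_zero] at hm
    omega
  obtain ⟨m', rfl⟩ := Nat.exists_eq_add_one_of_ne_zero hm0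
  rw [c2]
  have hpos : 0 < 2 ^ m' := by positivity
  refine ⟨2 ^ m' - 1, ?_⟩
  rw [pow_succ] at hm
  omega

/-- The hypotheses `Hyp` hold for the cyclic group in the definition of a Suzuki 2-group. -/
theorem hyp_of_regular [Finite P] (h2 : IsPGroup 2 P) (K : Subgroup (MulAut P))
    (hK : IsCyclic K) (x₀ : P) (hx₀1 : x₀ ≠ 1) (hx₀2 : x₀ * x₀ = 1)
    (hreg : ∀ x y : P, x ≠ 1 → x * x = 1 → y ≠ 1 → y * y = 1 →
      ∃! k : K, (k : MulAut P) x = y) :
    Hyp K.subtype :=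
  ⟨h2, fun γ δ => (IsCyclic.isMulCommutative (α := K)).is_comm.comm γ δ,
    odd_card_of_regular h2 K x₀ hx₀1 hx₀2 hreg,
    fun x y hx1 hx2 hy1 hy2 => (hreg x y hx1 hx2 hy1 hy2).exists⟩

/-- **Higman**: in a Suzuki 2-group the involutions are the non-identity central elements and
the centre is elementary abelian. -/
theorem suzuki_center [Finite P] (h2 : IsPGroup 2 P) (hnc : ∃ x y : P, x * y ≠ y * x)
    (K : Subgroup (MulAut P)) (hK : IsCyclic K) (x₀ : P) (hx₀1 : x₀ ≠ 1) (hx₀2 : x₀ * x₀ = 1)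
    (hreg : ∀ x y : P, x ≠ 1 → x * x = 1 → y ≠ 1 → y * y = 1 →
      ∃! k : K, (k : MulAut P) x = y) :
    (∀ x : P, (x ≠ 1 ∧ x * x = 1) ↔ (x ∈ Subgroup.center P ∧ x ≠ 1)) ∧
      ∀ z ∈ Subgroup.center P, z * z = 1 := by
  have h := hyp_of_regular h2 K hK x₀ hx₀1 hx₀2 hreg
  have hc := h.center_sq hnc
  exact ⟨fun x => ⟨fun hx => ⟨h.inv_central hx.2, hx.1⟩, fun hx => ⟨hx.2, hc x hx.1⟩⟩, hc⟩

end Suzuki

end Cfsg.Agent.Lib.Helper31.SuzukiTwo
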