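import Mathlib

/-!
# K82-B: Galois average over the units of `ZMod (2 ^ n)` of `2`-power roots of unity
-/

set_option autoImplicit false

namespace Cfsg.Agent.Lib.Helper31.TwoPowAvg

/-- `μ ^ (k : ZMod N).val = μ ^ k` when `μ ^ N = 1`. -/
theorem pow_val_natCast {μ : ℂ} {N : ℕ} [NeZero N] (h : μ ^ N = 1) (k : ℕ) :
    μ ^ ((k : ZMod N).val) = μ ^ k := by
  rw [ZMod.val_natCast, ← pow_eq_pow_mod k h]

theorem odd_val_unit {n : ℕ} (hn : n ≠ 0) (j : (ZMod (2 ^ n))ˣ) :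
    Odd ((j : ZMod (2 ^ n)).val) := by
  have h := ZMod.val_coe_unit_coprime j
  have h2 : Nat.Coprime (j : ZMod (2 ^ n)).val 2 := by
    have : (2 : ℕ) ∣ 2 ^ n := dvd_pow_self 2 hn
    exact Nat.Coprime.coprime_dvd_right this h
  exact Nat.coprime_two_right.1 h2

/-- The sum of `μ ^ j` over the units `j` modulo `2 ^ n`, for a `2 ^ n`-th root of unity. -/
theorem sum_units_pow (n : ℕ) (μ : ℂ) (hμ : μ ^ (2 ^ n) = 1) :
    ∑ j : (ZMod (2 ^ n))ˣ, μ ^ (j : ZMod (2 ^ n)).val =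
      (Fintype.card (ZMod (2 ^ n))ˣ : ℂ) * (if μ = 1 then 1 else if μ = -1 then -1 else 0) := by
  by_cases h1 : μ = 1
  · rw [if_pos h1, h1]
    simp
  rw [if_neg h1]
  have hn : n ≠ 0 := by
    rintro rfl
    rw [pow_zero, pow_one] at hμ
    exact h1 hμ
  by_cases h2 : μ = -1
  · rw [if_pos h2, h2]
    have : ∀ j : (ZMod (2 ^ n))ˣ, (-1 : ℂ) ^ (j : ZMod (2 ^ n)).val = -1 :=
      fun j => (odd_val_unit hn j).neg_one_pow
    simp [this]
  rw [if_neg h2, mul_zero]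
  classical
  -- minimal m with μ^(2^m) = 1
  have hex : ∃ m, μ ^ (2 ^ m) = 1 := ⟨n, hμ⟩
  have hspec := Nat.find_spec hex
  have hmn : Nat.find hex ≤ n := Nat.find_min' hex hμ
  have hm0 : Nat.find hex ≠ 0 := by
    intro h0
    rw [h0, pow_zero, pow_one] at hspec
    exact h1 hspec
  obtain ⟨m, hm⟩ := Nat.exists_eq_add_one_of_ne_zero hm0
  have hν1 : μ ^ (2 ^ m) ≠ 1 := Nat.find_min hex (m := m) (by omega)
  have hν2 : μ ^ (2 ^ m) = -1 := by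
    have hsq : (μ ^ (2 ^ m)) ^ 2 = 1 := by
      rw [← pow_mul, ← pow_succ, ← hm]; exact hspec
    rcases sq_eq_one_iff.1 hsq with h | h
    · exact absurd h hν1
    · exact h
  have hm1 : m ≠ 0 := by
    rintro rfl
    rw [pow_zero, pow_one] at hν2
    exact h2 hν2
  -- the unit u = 1 + 2^m
  have hcop : Nat.Coprime (1 + 2 ^ m) (2 ^ n) := by
    apply Nat.Coprime.pow_right
    rw [Nat.coprime_two_right]
    exact ⟨2 ^ (m - 1), by
      obtain ⟨k, rfl⟩ := Nat.exists_eq_add_one_of_ne_zero hm1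
      simp [pow_succ]; ring⟩
  let u : (ZMod (2 ^ n))ˣ := ZMod.unitOfCoprime (1 + 2 ^ m) hcop
  have hu : (u : ZMod (2 ^ n)) = ((1 + 2 ^ m : ℕ) : ZMod (2 ^ n)) := ZMod.coe_unitOfCoprime _ _
  have key : ∀ j : (ZMod (2 ^ n))ˣ,
      μ ^ ((u * j : (ZMod (2 ^ n))ˣ) : ZMod (2 ^ n)).val = -(μ ^ (j : ZMod (2 ^ n)).val) := by
    intro j
    have hj : ((u * j : (ZMod (2 ^ n))ˣ) : ZMod (2 ^ n)) =
        (((1 + 2 ^ m) * (j : ZMod (2 ^ n)).val : ℕ) : ZMod (2 ^ n)) := by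
      rw [Units.val_mul, hu, Nat.cast_mul, ZMod.natCast_zmod_val]
    rw [hj, pow_val_natCast hμ, add_mul, one_mul, pow_add, pow_mul, hν2,
      (odd_val_unit hn j).neg_one_pow, mul_neg_one]
  have hsum : ∑ j : (ZMod (2 ^ n))ˣ, μ ^ (j : ZMod (2 ^ n)).val =
      ∑ j : (ZMod (2 ^ n))ˣ, μ ^ ((u * j : (ZMod (2 ^ n))ˣ) : ZMod (2 ^ n)).val :=
    (Fintype.sum_equiv (Equiv.mulLeft u) _ _ (fun j => rfl)).symm
  have hneg : ∑ j : (ZMod (2 ^ n))ˣ, μ ^ (j : ZMod (2 ^ n)).val =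
      -∑ j : (ZMod (2 ^ n))ˣ, μ ^ (j : ZMod (2 ^ n)).val := by
    conv_lhs => rw [hsum]
    rw [← Finset.sum_neg_distrib]
    exact Finset.sum_congr rfl (fun j _ => key j)
  linear_combination (1 / 2 : ℂ) * hneg


open Classical in
/-- K82-B **Galois average for 2-power roots of unity.**  For `q = 2 ^ n`, the sum over the
units `j` of `ZMod q` of `∑ c_i μ_i^j` is `φ(q)` times the integer
`∑_{μ_i = 1} c_i - ∑_{μ_i = -1} c_i`. -/
theorem sum_units_two_pow_conj (n : ℕ) {ι : Type*} [Fintype ι] (c : ι → ℤ)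
    (μ : ι → ℂ) (hμ : ∀ i, μ i ^ (2 ^ n) = 1) :
    ∑ j : (ZMod (2 ^ n))ˣ, ∑ i, (c i : ℂ) * μ i ^ (j : ZMod (2 ^ n)).val =
      (Fintype.card (ZMod (2 ^ n))ˣ : ℂ) *
        (((∑ i ∈ Finset.univ.filter (fun i => μ i = 1), c i) -
          (∑ i ∈ Finset.univ.filter (fun i => μ i = -1), c i) : ℤ) : ℂ) := by
  rw [Finset.sum_comm]
  have h1 : ∀ i, ∑ j : (ZMod (2 ^ n))ˣ, (c i : ℂ) * μ i ^ (j : ZMod (2 ^ n)).val =
      (Fintype.card (ZMod (2 ^ n))ˣ : ℂ) *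
        ((c i : ℂ) * (if μ i = 1 then 1 else if μ i = -1 then -1 else 0)) := by
    intro i
    rw [← Finset.mul_sum, sum_units_pow n (μ i) (hμ i)]
    ring
  rw [Finset.sum_congr rfl (fun i _ => h1 i), ← Finset.mul_sum]
  congr 1
  push_cast
  rw [Finset.sum_filter, Finset.sum_filter, ← Finset.sum_sub_distrib]
  apply Finset.sum_congr rfl
  intro i _
  by_cases h1 : μ i = 1
  · have h2 : μ i ≠ -1 := by rw [h1]; norm_num
    rw [if_pos h1, if_pos h1, if_neg h2]; ring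
  · by_cases h2 : μ i = -1
    · rw [if_neg h1, if_pos h2, if_neg h1, if_pos h2]; ring
    · rw [if_neg h1, if_neg h2, if_neg h1, if_neg h2]; ring

end Cfsg.Agent.Lib.Helper31.TwoPowAvg
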